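import Cfsg.Agent.Lib.TimesPSLTwo.Affine

/-!
In the exceptional configuration there are exactly eight points.
-/

namespace Cfsg.Agent.TimesPSLTwo.Affine

open Cfsg.Agent
open scoped commutatorElement

theorem pCore_two_isPGroup (G : Type*) [Group G] : IsPGroup 2 (Cfsg.pCore 2 G) := by
  have : Fact (Nat.Prime 2) := ⟨Nat.prime_two⟩
  exact Sylow.sSup_of_normal _ (fun _ hN => hN.2) fun _ hN => hN.1

theorem le_pCore_two {G : Type*} [Group G] {N : Subgroup G} (hN : N.Normal) (h2 : IsPGroup 2 N) :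
    N ≤ Cfsg.pCore 2 G := le_sSup ⟨hN, h2⟩

theorem pCore_two_normal (G : Type*) [Group G] : (Cfsg.pCore 2 G).Normal :=
  ⟨fun x hx g => by
    have hm : (Cfsg.pCore 2 G).map (MulAut.conj g).toMonoidHom ≤ Cfsg.pCore 2 G := by
      rw [Subgroup.map_le_iff_le_comap]
      refine sSup_le fun N hN => ?_
      intro y hy
      exact le_pCore_two hN.1 hN.2 (hN.1.conj_mem y hy g)
    exact hm ⟨x, hx, rfl⟩⟩

theorem exists_abelian_normal {G : Type*} [Group G] [Finite G] (hs : Group.IsSolvable G) [Nontrivial G] :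
    ∃ B : Subgroup G, B.Normal ∧ B ≠ ⊥ ∧ ∀ x ∈ B, ∀ y ∈ B, x * y = y * x := by
  classical
  obtain ⟨n, hn⟩ := (Group.isSolvable_def G).1 hs
  have hex : ∃ m, derivedSeries G m = ⊥ := ⟨n, hn⟩
  have h0 : Nat.find hex ≠ 0 := fun h => by
    have := Nat.find_spec hex
    rw [h, derivedSeries_zero] at this
    exact top_ne_bot this
  obtain ⟨m, hm⟩ := Nat.exists_eq_succ_of_ne_zero h0
  refine ⟨derivedSeries G m, derivedSeries_normal G m, Nat.find_min hex (by omega), fun x hx y hy => ?_⟩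
  have h1 : ⁅x, y⁆ ∈ derivedSeries G (m + 1) := Subgroup.commutator_mem_commutator hx hy
  rw [show m + 1 = Nat.find hex from hm.symm, Nat.find_spec hex, Subgroup.mem_bot] at h1
  exact commutatorElement_eq_one_iff_mul_comm.1 h1

theorem two_pow_eq_two {k : ℕ} (hk : k.Prime) : 2 ^ k ≡ 2 [MOD k] := by
  have : Fact k.Prime := ⟨hk⟩
  rw [← ZMod.natCast_eq_natCast_iff]
  push_cast
  exact ZMod.pow_card _

namespace Bad

variable {W : Type*} [AddCommGroup W] {H : Subgroup (Equiv.Perm W)} {s : Equiv.Perm W} {e : W}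
  {k : ℕ} {σ τ : Equiv.Perm W} (hy : Hyp H s) (b : Bad H e k σ τ)

include hy b

theorem odd_part : Odd ((2 ^ k - 1) * k) := by
  refine Odd.mul ?_ (b.hp.odd_of_ne_two b.hk2)
  have h := Nat.two_pow_pos (k - 1)
  have : 2 ^ k = 2 * 2 ^ (k - 1) := by
    rw [← pow_succ', Nat.sub_add_cancel b.hp.pos]
  exact ⟨2 ^ (k - 1) - 1, by omega⟩

theorem card_sylow (P : Sylow 2 ↥H) : Nat.card (P : Subgroup ↥H) = 2 ^ k := by
  have := hy.finite
  rw [Sylow.card_eq_multiplicity, card_H hy b, Nat.factorization_mul (by positivity)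
    (odd_part hy b).pos.ne', Finsupp.add_apply, Nat.Prime.factorization_pow Nat.prime_two,
    Finsupp.single_eq_same, Nat.factorization_eq_zero_of_not_dvd, add_zero]
  intro h
  exact Nat.not_even_iff_odd.2 (odd_part hy b) (even_iff_two_dvd.2 h)

theorem fixed_commute {u c : ↥H} (hu : orderOf u = 2) (hcu : c * u = u * c) {a : W}
    (ha : (c : Equiv.Perm W) a = a) : c = 1 :=
  Subtype.ext (commute_fixed hy b u.2 (by rw [Subgroup.orderOf_coe, hu]) c.2 (congrArg Subtype.val hcu) ha)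

theorem card_centralizer_le' {u : ↥H} (hu : orderOf u = 2) :
    Nat.card ↥(Subgroup.centralizer ({u} : Set ↥H)) ≤ 2 ^ k := by
  have := hy.finite
  refine le_trans (Nat.card_le_card_of_injective (β := ↥(H ⊓ Subgroup.centralizer
    ({(u : Equiv.Perm W)} : Set (Equiv.Perm W))))
    (fun c => ⟨((c : ↥H) : Equiv.Perm W), (c : ↥H).2, Subgroup.mem_centralizer_singleton_iff.2
      (congrArg Subtype.val (Subgroup.mem_centralizer_singleton_iff.1 c.2))⟩)
    fun x y hxy => Subtype.ext (Subtype.ext ?_)) (card_centralizer_le hy b u.2 (by rw [Subgroup.orderOf_coe, hu]))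
  exact congrArg (fun z => ((z : ↥(H ⊓ Subgroup.centralizer ({(u : Equiv.Perm W)} : Set (Equiv.Perm W)))) :
    Equiv.Perm W)) hxy

theorem centralizer_eq (P : Sylow 2 ↥H) {z : ↥H} (hz : orderOf z = 2)
    (hc : ∀ x ∈ (P : Subgroup ↥H), x * z = z * x) :
    Subgroup.centralizer ({z} : Set ↥H) = (P : Subgroup ↥H) := by
  have := hy.finite
  refine (Subgroup.eq_of_le_of_card_ge (fun x hx => ?_) ?_).symm
  · exact Subgroup.mem_centralizer_singleton_iff.2 (hc x hx)
  · rw [card_sylow hy b P]; exact card_centralizer_le' hy b hz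

/-- No element of order `k` normalises a Sylow 2-subgroup. -/
theorem not_normalize (P : Sylow 2 ↥H) {y : ↥H} (ho : orderOf y = k)
    (hy' : y ∈ Subgroup.normalizer ((P : Subgroup ↥H) : Set ↥H)) : False := by
  have := hy.finite
  have : Fact k.Prime := ⟨b.hp⟩
  have hnd : ¬ k ∣ 2 ^ k := fun h =>
    b.hk2 ((Nat.prime_dvd_prime_iff_eq b.hp Nat.prime_two).1 (b.hp.dvd_of_dvd_pow h))
  have hz : IsPGroup k ↥(Subgroup.zpowers (y : Equiv.Perm W)) :=
    IsPGroup.of_card (n := 1) (by rw [Nat.card_zpowers, Subgroup.orderOf_coe, ho, pow_one])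
  obtain ⟨a, ha⟩ := hz.nonempty_fixed_point_of_prime_not_dvd_card W (by rw [b.hk]; exact hnd)
  have hya : (y : Equiv.Perm W) a = a := ha ⟨_, Subgroup.mem_zpowers _⟩
  let N := Subgroup.normalizer ((P : Subgroup ↥H) : Set ↥H)
  let _ : MulAction ↥(Subgroup.zpowers y) ↥(P : Subgroup ↥H) :=
    { smul := fun g x => ⟨(g : ↥H) * x * (g : ↥H)⁻¹,
        ((Subgroup.mem_normalizer_iff.1 ((Subgroup.zpowers_le.2 hy' : _ ≤ N) g.2)) x).1 x.2⟩
      one_smul := fun x => Subtype.ext (by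
        show (1 : ↥H) * x * (1 : ↥H)⁻¹ = x
        simp)
      mul_smul := fun g h x => Subtype.ext (by
        show ((g : ↥H) * h) * x * ((g : ↥H) * h)⁻¹ = g * (h * x * (h : ↥H)⁻¹) * (g : ↥H)⁻¹
        group) }
  have hz' : IsPGroup k ↥(Subgroup.zpowers y) :=
    IsPGroup.of_card (n := 1) (by rw [Nat.card_zpowers, ho, pow_one])
  have hcard := hz'.card_modEq_card_fixedPoints (↥(P : Subgroup ↥H))
  have hfix : MulAction.fixedPoints ↥(Subgroup.zpowers y) ↥(P : Subgroup ↥H) = {1} := by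
    ext x
    constructor
    · intro hx
      by_contra hx1
      have hx1' : (x : ↥H) ≠ 1 := fun h => hx1 (Subtype.ext h)
      have h1 : y * x * y⁻¹ = x := congrArg Subtype.val (hx ⟨y, Subgroup.mem_zpowers y⟩)
      have hyx : Commute y (x : ↥H) := mul_inv_eq_iff_eq_mul.1 h1
      obtain ⟨j, hj⟩ := P.2 x
      have hj' : (x : ↥H) ^ (2 ^ j) = 1 := congrArg Subtype.val hj
      have hdvd : 2 ∣ orderOf (x : ↥H) := by
        obtain ⟨i, -, hi⟩ := (Nat.dvd_prime_pow Nat.prime_two).1 (orderOf_dvd_of_pow_eq_one hj')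
        rw [hi]
        refine dvd_pow_self 2 fun h => hx1' (orderOf_eq_one_iff.1 (by rw [hi, h, pow_zero]))
      have h2 := fixed_commute hy b (orderOf_pow_orderOf_div (orderOf_pos _).ne' hdvd)
        (hyx.pow_right _).eq hya
      rw [h2, orderOf_one] at ho
      exact b.hp.one_lt.ne ho
    · rintro rfl g
      exact Subtype.ext (by show (g : ↥H) * 1 * (g : ↥H)⁻¹ = 1; simp)
  rw [hfix, Nat.card_coe_set_eq {(1 : ↥(P : Subgroup ↥H))}, Set.ncard_singleton, card_sylow hy b P] at hcard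
  have h3 : 1 ≡ 2 [MOD k] := hcard.symm.trans (two_pow_eq_two b.hp)
  have h4 := (Nat.modEq_iff_dvd' (by omega)).1 h3
  exact b.hp.one_lt.ne' (Nat.dvd_one.1 h4)

/-- The involutions of the centre of a Sylow 2-subgroup, with the identity, form a group of
order `2` or `2 ^ k`. -/
theorem central_card (P : Sylow 2 ↥H) :
    Nat.card {x : ↥H // x ∈ (P : Subgroup ↥H) ∧ x * x = 1 ∧ ∀ y ∈ (P : Subgroup ↥H), y * x = x * y} = 2 ∨
    Nat.card {x : ↥H // x ∈ (P : Subgroup ↥H) ∧ x * x = 1 ∧ ∀ y ∈ (P : Subgroup ↥H), y * x = x * y} = 2 ^ k := by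
  classical
  have := hy.finite
  have : Fact (Nat.Prime 2) := ⟨Nat.prime_two⟩
  let Om : Subgroup ↥H :=
    { carrier := {x | x ∈ (P : Subgroup ↥H) ∧ x * x = 1 ∧ ∀ y ∈ (P : Subgroup ↥H), y * x = x * y}
      one_mem' := ⟨one_mem _, one_mul 1, fun y _ => by rw [mul_one, one_mul]⟩
      mul_mem' := fun {a c} ha hc => ⟨mul_mem ha.1 hc.1, by
        rw [mul_assoc, ← mul_assoc c a c, ← hc.2.2 a ha.1, mul_assoc a c c, hc.2.1, mul_one, ha.2.1], fun y hy' => by rw [← mul_assoc, ha.2.2 y hy', mul_assoc, hc.2.2 y hy', ← mul_assoc]⟩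
      inv_mem' := fun {a} ha => by rw [inv_eq_of_mul_eq_one_right ha.2.1]; exact ha }
  show Nat.card ↥Om = 2 ∨ Nat.card ↥Om = 2 ^ k
  have hOm : IsPGroup 2 ↥Om := P.2.to_le fun x hx => hx.1
  obtain ⟨w, hw⟩ := IsPGroup.iff_card.1 hOm
  -- non trivial
  have hnt : Nontrivial ↥(P : Subgroup ↥H) := Finite.one_lt_card_iff_nontrivial.1 (by
    rw [card_sylow hy b P]; exact Nat.one_lt_two_pow b.hp.ne_zero)
  have := P.2.center_nontrivial
  obtain ⟨⟨c, hc⟩, hc1⟩ := exists_ne (1 : ↥(Subgroup.center ↥(P : Subgroup ↥H)))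
  obtain ⟨j, hj⟩ := P.2 c
  have hdvd : 2 ∣ orderOf c := by
    obtain ⟨i, -, hi⟩ := (Nat.dvd_prime_pow Nat.prime_two).1 (orderOf_dvd_of_pow_eq_one hj)
    rw [hi]
    refine dvd_pow_self 2 fun h => hc1 (Subtype.ext (orderOf_eq_one_iff.1 (by rw [hi, h, pow_zero])))
  set z : ↥H := ((c ^ (orderOf c / 2) : ↥(P : Subgroup ↥H)) : ↥H) with hzdef
  have hoz : orderOf z = 2 := by
    rw [hzdef, Subgroup.orderOf_coe, orderOf_pow_orderOf_div (orderOf_pos _).ne' hdvd]
  have hzOm : z ∈ Om := ⟨SetLike.coe_mem _, by rw [← pow_two, ← hoz, pow_orderOf_eq_one], fun y hy' =>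
    congrArg Subtype.val (Subgroup.mem_center_iff.1 (pow_mem hc (orderOf c / 2)) ⟨y, hy'⟩)⟩
  -- the normaliser permutes the involutions regularly
  set N := Subgroup.normalizer ((P : Subgroup ↥H) : Set ↥H) with hN
  let J := {x : ↥Om // x ≠ 1}
  have hoJ : ∀ x : J, orderOf ((x : ↥Om) : ↥H) = 2 := fun x =>
    orderOf_eq_prime (by rw [pow_two]; exact (x : ↥Om).2.2.1) fun h => x.2 (Subtype.ext h)
  let f : ↥N → J := fun n => ⟨⟨(n : ↥H) * z * (n : ↥H)⁻¹, by
      refine ⟨(Subgroup.mem_normalizer_iff.1 n.2 z).1 hzOm.1, ?_, fun y hy' => ?_⟩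
      · rw [show (n : ↥H) * z * (n : ↥H)⁻¹ * ((n : ↥H) * z * (n : ↥H)⁻¹) = n * (z * z) * (n : ↥H)⁻¹ by group,
          hzOm.2.1, mul_one, mul_inv_cancel]
      · have h1 := hzOm.2.2 ((n : ↥H)⁻¹ * y * (n : ↥H)⁻¹⁻¹)
          ((Subgroup.mem_normalizer_iff.1 (inv_mem n.2) y).1 hy')
        calc y * ((n : ↥H) * z * (n : ↥H)⁻¹)
            = (n : ↥H) * ((n : ↥H)⁻¹ * y * (n : ↥H)⁻¹⁻¹ * z) * (n : ↥H)⁻¹ := by group
          _ = (n : ↥H) * (z * ((n : ↥H)⁻¹ * y * (n : ↥H)⁻¹⁻¹)) * (n : ↥H)⁻¹ := by rw [h1]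
          _ = _ := by group⟩, fun h => by
      have := congrArg Subtype.val h
      rw [Subgroup.coe_one] at this
      simp only at this
      exact absurd (conj_eq_one_iff.1 this) fun h' => by rw [h', orderOf_one] at hoz; omega⟩
  have hsurj : Function.Surjective f := by
    intro x
    obtain ⟨g1, hg1, hu1⟩ := involution_conj hy b z.2 (by rw [Subgroup.orderOf_coe, hoz])
    obtain ⟨g2, hg2, hu2⟩ := involution_conj hy b ((x : ↥Om) : ↥H).2 (by rw [Subgroup.orderOf_coe, hoJ x])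
    set g : ↥H := ⟨g2 * g1⁻¹, mul_mem hg2 (inv_mem hg1)⟩ with hgdef
    have hg : g * z * g⁻¹ = ((x : ↥Om) : ↥H) := Subtype.ext (by
      show g2 * g1⁻¹ * (z : Equiv.Perm W) * (g2 * g1⁻¹)⁻¹ = _
      calc g2 * g1⁻¹ * (z : Equiv.Perm W) * (g2 * g1⁻¹)⁻¹ = g2 * (g1⁻¹ * z * g1) * g2⁻¹ := by group
        _ = g2 * (g2⁻¹ * _ * g2) * g2⁻¹ := by rw [hu1, ← hu2]
        _ = _ := by group)
    have hcz := centralizer_eq hy b P hoz hzOm.2.2
    have hcx := centralizer_eq hy b P (hoJ x) (x : ↥Om).2.2.2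
    refine ⟨⟨g, Subgroup.mem_normalizer_iff.2 fun y => ?_⟩, Subtype.ext (Subtype.ext hg)⟩
    rw [← SetLike.mem_coe, ← SetLike.mem_coe]
    show y ∈ (P : Subgroup ↥H) ↔ g * y * g⁻¹ ∈ (P : Subgroup ↥H)
    conv_lhs => rw [← hcz]
    conv_rhs => rw [← hcx]
    rw [Subgroup.mem_centralizer_singleton_iff, Subgroup.mem_centralizer_singleton_iff, ← hg]
    constructor
    · intro h
      calc g * y * g⁻¹ * (g * z * g⁻¹) = g * (y * z) * g⁻¹ := by group
        _ = g * (z * y) * g⁻¹ := by rw [h]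
        _ = _ := by group
    · intro h
      refine mul_left_cancel (a := g) (mul_right_cancel (b := g⁻¹) ?_)
      calc g * (y * z) * g⁻¹ = g * y * g⁻¹ * (g * z * g⁻¹) := by group
        _ = _ := h
        _ = g * (z * y) * g⁻¹ := by group
  have hfib : ∀ m n : ↥N, f m = f n ↔ (m : ↥H)⁻¹ * n ∈ (P : Subgroup ↥H) := by
    intro m n
    rw [← centralizer_eq hy b P hoz hzOm.2.2, Subgroup.mem_centralizer_singleton_iff]
    constructor
    · intro h
      have h1 : (m : ↥H) * z * (m : ↥H)⁻¹ = (n : ↥H) * z * (n : ↥H)⁻¹ :=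
        congrArg (fun q : J => ((q : ↥Om) : ↥H)) h
      calc (m : ↥H)⁻¹ * n * z = (m : ↥H)⁻¹ * ((n : ↥H) * z * (n : ↥H)⁻¹) * n := by group
        _ = _ := by rw [← h1]; group
    · intro h
      refine Subtype.ext (Subtype.ext ?_)
      show (m : ↥H) * z * (m : ↥H)⁻¹ = (n : ↥H) * z * (n : ↥H)⁻¹
      symm
      calc (n : ↥H) * z * (n : ↥H)⁻¹ = m * ((m : ↥H)⁻¹ * n * z) * (n : ↥H)⁻¹ := by group
        _ = _ := by rw [h]; group
  have hJ : Nat.card J = ((P : Subgroup ↥H).subgroupOf N).index := by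
    refine (Nat.card_congr (Equiv.ofBijective (Quotient.lift f fun m n hmn => (hfib m n).2 ?_) ⟨?_, ?_⟩)).symm
    · exact Subgroup.mem_subgroupOf.1 (QuotientGroup.leftRel_apply.1 hmn)
    · rintro ⟨m⟩ ⟨n⟩ h
      exact Quotient.sound (QuotientGroup.leftRel_apply.2 (Subgroup.mem_subgroupOf.2 ((hfib m n).1 h)))
    · exact fun x => let ⟨n, hn⟩ := hsurj x; ⟨Quotient.mk'' n, hn⟩
  have hJc : Nat.card J + 1 = 2 ^ w := by
    have := Fintype.ofFinite ↥Om
    rw [← hw, Nat.card_eq_fintype_card, Nat.card_eq_fintype_card, Fintype.card_subtype_compl,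
      Fintype.card_subtype_eq]
    have := Fintype.card_pos (α := ↥Om)
    omega
  -- its size divides `2 ^ k - 1`
  have hdiv : Nat.card J ∣ (2 ^ k - 1) * k := by
    have hPN : (P : Subgroup ↥H) ≤ N := Subgroup.le_normalizer
    have h1 := ((P : Subgroup ↥H).subgroupOf N).card_mul_index
    rw [Nat.card_congr (Subgroup.subgroupOfEquivOfLe hPN).toEquiv, card_sylow hy b P, ← hJ] at h1
    have h2 := Subgroup.card_subgroup_dvd_card N
    rw [← h1, card_H hy b] at h2
    exact Nat.dvd_of_mul_dvd_mul_left (Nat.two_pow_pos k) h2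
  have hndvd : ¬ k ∣ Nat.card J := by
    intro hd
    have : Fact k.Prime := ⟨b.hp⟩
    rw [hJ] at hd
    obtain ⟨y, hy'⟩ := exists_prime_orderOf_dvd_card' (G := ↥N) k (hd.trans (Subgroup.index_dvd_card _))
    exact not_normalize hy b P (by rw [Subgroup.orderOf_coe, hy']) y.2
  have hdiv' : Nat.card J ∣ 2 ^ k - 1 :=
    ((b.hp.coprime_iff_not_dvd.2 hndvd).symm).dvd_of_dvd_mul_right hdiv
  have hJw : Nat.card J = 2 ^ w - 1 := by omega
  rw [hJw] at hdiv'
  have hg : 2 ^ Nat.gcd w k - 1 = 2 ^ w - 1 := by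
    rw [← Nat.pow_sub_one_gcd_pow_sub_one, Nat.gcd_eq_left hdiv']
  have hwk : Nat.gcd w k = w := Nat.pow_right_injective le_rfl (by
    have := Nat.two_pow_pos w
    have := Nat.two_pow_pos (Nat.gcd w k)
    simp only; omega)
  rcases (Nat.dvd_prime b.hp).1 (hwk ▸ Nat.gcd_dvd_right w k) with h | h
  · exact Or.inl (by rw [hw, h, pow_one])
  · exact Or.inr (by rw [hw, h])

theorem tau_sigma : ∃ s' t' : ↥H, (s' : Equiv.Perm W) = σ ∧ (t' : Equiv.Perm W) = τ :=
  ⟨⟨σ, (mem_H01.1 b.hσ).1⟩, ⟨τ, b.hτ⟩, rfl, rfl⟩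

theorem k_eq_three : k = 3 := by
  classical
  have := hy.finite
  have hk3 := three_le b
  have : Fact (Nat.Prime 2) := ⟨Nat.prime_two⟩
  have : Fact k.Prime := ⟨b.hp⟩
  obtain ⟨S, T, hS, hT⟩ := tau_sigma hy b
  let _ : MulAction ↥H W :=
    { smul := fun h x => lin (h : Equiv.Perm W) x
      one_smul := fun x => hy.lin_one x
      mul_smul := fun a c x => hy.lin_mul a.2 x }
  set V := MulAction.stabilizer ↥H e with hV
  have hoS : orderOf S = k := by rw [← Subgroup.orderOf_coe, hS, b.ho]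
  have hoT : orderOf T = 2 := by rw [← Subgroup.orderOf_coe, hT, b.hoτ]
  have hinv : T * S * T⁻¹ = S⁻¹ := Subtype.ext (by
    simp only [Subgroup.coe_mul, Subgroup.coe_inv, hS, hT]; exact b.hinv)
  obtain ⟨-, hσ0, hσe⟩ := mem_H01.1 b.hσ
  have hSV : S ∈ V := by
    show lin (S : Equiv.Perm W) e = e
    rw [hS, lin, hσ0, hσe, add_zero]
  have hTV : T ∈ V := by
    show lin (T : Equiv.Perm W) e = e
    rw [hT, lin, b.τ0, b.τe, zero_add]
  have hVi : V.index = 2 ^ k - 1 := by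
    rw [hV, MulAction.index_stabilizer, show MulAction.orbit ↥H e = ({0} : Set W)ᶜ from ?_,
      Set.ncard_compl, Set.ncard_singleton, b.hk]
    ext x
    constructor
    · rintro ⟨g, rfl⟩ h0
      exact b.he (hy.lin_inj (h := (g : Equiv.Perm W)) ((Set.mem_singleton_iff.1 h0).trans (hy.lin_zero _).symm))
    · intro hx
      obtain ⟨i, rfl⟩ := hy.s_trans e x b.he hx
      exact ⟨⟨s ^ i, hy.s_pow_mem i⟩, hy.lin_eq_self (hy.s_pow_zero i) e⟩
  have hVc : Nat.card ↥V = 2 ^ k * k := by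
    have h1 := V.card_mul_index
    rw [hVi, card_H hy b] at h1
    have h2 : 0 < 2 ^ k - 1 := by
      have := Nat.one_lt_two_pow b.hp.ne_zero; omega
    refine Nat.eq_of_mul_eq_mul_right h2 (h1.trans ?_)
    ring
  have hVs : Group.IsSolvable ↥V := Characters.burnside_pa_qb Nat.prime_two b.hp (a := k) (b := 1)
    (by rw [hVc, pow_one])
  set S' : ↥V := ⟨S, hSV⟩ with hS'
  set T' : ↥V := ⟨T, hTV⟩ with hT'
  have hoS' : orderOf S' = k := by rw [hS', Subgroup.orderOf_mk, hoS]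
  have hsylow : ∀ Q : Subgroup ↥V, IsPGroup 2 ↥Q → Nat.card ↥Q = 2 ^ k →
      ∀ y : ↥V, orderOf y = k → y ∈ Subgroup.normalizer (Q : Set ↥V) → False := by
    intro Q hQ hQc y hyo hyN
    obtain ⟨P, hP⟩ := (hQ.map V.subtype).exists_le_sylow
    have hPe : Q.map V.subtype = (P : Subgroup ↥H) := Subgroup.eq_of_le_of_card_ge hP (by
      rw [card_sylow hy b P, Subgroup.card_map_of_injective (Subgroup.subtype_injective _), hQc])
    refine not_normalize hy b P (y := (y : ↥H)) (by rw [Subgroup.orderOf_coe, hyo]) ?_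
    rw [← hPe]
    exact Subgroup.le_normalizer_map _ ⟨y, hyN, rfl⟩
  set P0 := Cfsg.pCore 2 ↥V with hP0
  have hP0n : P0.Normal := pCore_two_normal _
  have hP0p : IsPGroup 2 ↥P0 := pCore_two_isPGroup _
  -- the quotient
  have hne : Nontrivial (↥V ⧸ P0) := by
    refine ⟨⟨(S' : ↥V ⧸ P0), 1, fun h => ?_⟩⟩
    obtain ⟨j, hj⟩ := hP0p ⟨S', (QuotientGroup.eq_one_iff _).1 h⟩
    have h1 : k ∣ 2 ^ j := hoS' ▸ orderOf_dvd_of_pow_eq_one (congrArg Subtype.val hj)
    exact b.hk2 ((Nat.prime_dvd_prime_iff_eq b.hp Nat.prime_two).1 (b.hp.dvd_of_dvd_pow h1))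
  have : Group.IsSolvable (↥V ⧸ P0) := solvable_of_surjective (QuotientGroup.mk'_surjective P0)
  obtain ⟨B, hB, hB1, hBc⟩ := exists_abelian_normal (G := ↥V ⧸ P0) inferInstance
  have hB2 : ∀ x ∈ B, orderOf x ≠ 2 := by
    intro x hx hox
    let C : Subgroup (↥V ⧸ P0) :=
      { carrier := {y | y ∈ B ∧ y * y = 1}
        one_mem' := ⟨one_mem _, one_mul 1⟩
        mul_mem' := fun {a c} ha hc => ⟨mul_mem ha.1 hc.1, by
          rw [mul_assoc, ← mul_assoc c a c, hBc c hc.1 a ha.1, mul_assoc a c c, hc.2, mul_one, ha.2]⟩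
        inv_mem' := fun {a} ha => by rw [inv_eq_of_mul_eq_one_right ha.2]; exact ha }
    have hCn : C.Normal := ⟨fun a ha g => ⟨hB.conj_mem a ha.1 g, by
      rw [show g * a * g⁻¹ * (g * a * g⁻¹) = g * (a * a) * g⁻¹ by group, ha.2, mul_one, mul_inv_cancel]⟩⟩
    have hpre : IsPGroup 2 ↥(C.comap (QuotientGroup.mk' P0)) := fun y => by
      have h1 : ((y : ↥V) : ↥V ⧸ P0) * ((y : ↥V) : ↥V ⧸ P0) = 1 := y.2.2
      have h2 : (y : ↥V) * y ∈ P0 := (QuotientGroup.eq_one_iff _).1 h1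
      obtain ⟨j, hj⟩ := hP0p ⟨_, h2⟩
      exact ⟨j + 1, Subtype.ext (by
        have := congrArg Subtype.val hj
        rw [pow_succ', pow_mul, pow_two]
        simpa using this)⟩
    have hle : C.comap (QuotientGroup.mk' P0) ≤ P0 := le_pCore_two (hCn.comap _) hpre
    obtain ⟨y, rfl⟩ := QuotientGroup.mk'_surjective P0 x
    have : y ∈ P0 := hle ⟨hx, by rw [← pow_two, ← hox, pow_orderOf_eq_one]⟩
    rw [(QuotientGroup.eq_one_iff y).2 this |> (fun h => (h : QuotientGroup.mk' P0 y = 1)), orderOf_one] at hox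
    omega
  have hBk : Nat.card ↥B = k := by
    have h1 : Nat.card ↥B ∣ 2 ^ k * k :=
      hVc ▸ (Subgroup.card_subgroup_dvd_card B).trans (Subgroup.card_quotient_dvd_card P0)
    have h2 : ¬ 2 ∣ Nat.card ↥B := fun h => by
      obtain ⟨x, hx⟩ := exists_prime_orderOf_dvd_card' (G := ↥B) 2 h
      exact hB2 x x.2 (by rw [Subgroup.orderOf_coe, hx])
    have h3 : Nat.card ↥B ∣ k :=
      ((Nat.prime_two.coprime_iff_not_dvd.2 h2).pow_left k).symm.dvd_of_dvd_mul_left h1
    rcases (Nat.dvd_prime b.hp).1 h3 with h | h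
    · exact absurd (Subgroup.card_eq_one.1 h) hB1
    · exact h
  set M := B.comap (QuotientGroup.mk' P0) with hM
  have hMn : M.Normal := hB.comap _
  have hMc : Nat.card ↥M = k * Nat.card ↥P0 := by
    have h1 := M.card_mul_index
    have h2 := B.card_mul_index
    have h3 := P0.card_mul_index
    rw [hM, Subgroup.index_comap_of_surjective B (QuotientGroup.mk'_surjective P0)] at h1
    rw [hBk, show Nat.card (↥V ⧸ P0) = P0.index from rfl] at h2
    refine Nat.eq_of_mul_eq_mul_right (Nat.pos_of_ne_zero B.index_ne_zero_of_finite) (h1.trans ?_)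
    rw [← h3, ← h2]; ring
  have hPM : P0 ≤ M := fun x hx => by
    show (x : ↥V ⧸ P0) ∈ B
    rw [(QuotientGroup.eq_one_iff x).2 hx]; exact one_mem _
  have hSM : S' ∈ M := by
    show (S' : ↥V ⧸ P0) ∈ B
    have hBS : Nat.card ↥(B ⊔ Subgroup.zpowers (S' : ↥V ⧸ P0)) = k := by
      have hk' : IsPGroup k ↥(B ⊔ Subgroup.zpowers (S' : ↥V ⧸ P0)) :=
        (IsPGroup.of_card (n := 1) (by rw [hBk, pow_one])).to_sup_of_normal_left
          (IsPGroup.iff_card.2 ⟨_, (Nat.dvd_prime_pow b.hp (m := 1)).1 (by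
            rw [pow_one, Nat.card_zpowers, ← hoS']
            exact orderOf_map_dvd (QuotientGroup.mk' P0) S') |>.choose_spec.2⟩)
      obtain ⟨j, hj⟩ := IsPGroup.iff_card.1 hk'
      have h1 : k ^ j ∣ 2 ^ k * k :=
        hj ▸ hVc ▸ (Subgroup.card_subgroup_dvd_card _).trans (Subgroup.card_quotient_dvd_card P0)
      have h2 : k ∣ k ^ j := by
        rw [← hj, ← hBk]; exact Subgroup.card_dvd_of_le le_sup_left
      rw [hj]
      rcases j with _ | _ | j
      · simp at h2; exact absurd h2 b.hp.one_lt.ne'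
      · rw [pow_one]
      · exfalso
        rw [show k ^ (j + 1 + 1) = k ^ (j + 1) * k from pow_succ _ _] at h1
        have h3 := Nat.dvd_of_mul_dvd_mul_right b.hp.pos h1
        exact b.hk2 ((Nat.prime_dvd_prime_iff_eq b.hp Nat.prime_two).1
          (b.hp.dvd_of_dvd_pow ((dvd_pow_self k (by omega)).trans h3)))
    have he' : B = B ⊔ Subgroup.zpowers (S' : ↥V ⧸ P0) :=
      Subgroup.eq_of_le_of_card_ge le_sup_left (by rw [hBS, hBk])
    rw [he']
    exact Subgroup.mem_sup_right (Subgroup.mem_zpowers _)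
  -- the Frattini argument
  set K := Subgroup.zpowers S' with hK
  have hKc : Nat.card ↥K = k := by rw [hK, Nat.card_zpowers, hoS']
  have hKM : K ≤ M := Subgroup.zpowers_le.2 hSM
  have hP0c : ∃ r, Nat.card ↥P0 = 2 ^ r := IsPGroup.iff_card.1 hP0p
  obtain ⟨r, hr⟩ := hP0c
  let Q : Sylow k ↥M := Sylow.ofCard (K.subgroupOf M) (by
    rw [Nat.card_congr (Subgroup.subgroupOfEquivOfLe hKM).toEquiv, hKc, hMc, hr,
      Nat.factorization_mul b.hp.ne_zero (by positivity), Finsupp.add_apply, b.hp.factorization_self,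
      Nat.factorization_eq_zero_of_not_dvd (fun h => b.hk2
        ((Nat.prime_dvd_prime_iff_eq b.hp Nat.prime_two).1 (b.hp.dvd_of_dvd_pow h))), pow_one])
  have hfr := Q.normalizer_sup_eq_top
  rw [show ((Q : Subgroup ↥M).map M.subtype) = K from Subgroup.map_subgroupOf_eq_of_le hKM] at hfr
  -- the normaliser of `K`
  have hNK : ∀ x ∈ Subgroup.normalizer (K : Set ↥V), x ∈ K ∨ T' * x ∈ K := by
    intro x hx
    set g : Equiv.Perm W := ((x : ↥H) : Equiv.Perm W) with hg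
    have hfix := hy.fix_two b.he b.hσ b.hτ (fun h => by
      have := b.ho; rw [h, orderOf_one] at this; exact b.hp.one_lt.ne this) b.τ0 b.τe b.hinv
    have hgσ : g⁻¹ * σ * g ∈ Subgroup.zpowers σ := by
      obtain ⟨i, hi⟩ := (Subgroup.mem_normalizer_iff.1 (inv_mem hx) S').1 (Subgroup.mem_zpowers _)
      refine ⟨i, ?_⟩
      have := congrArg (fun y : ↥V => ((y : ↥H) : Equiv.Perm W)) hi
      simpa [hS', hS, hg] using this
    have hmove : ∀ a, σ a = a → σ (g a) = g a := by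
      intro a ha
      obtain ⟨i, hi⟩ := hgσ
      have h1 : (g⁻¹ * σ * g) a = a := by
        rw [← hi]
        exact MulAction.mem_stabilizer_iff.1 (zpow_mem (MulAction.mem_stabilizer_iff.2 ha :
          σ ∈ MulAction.stabilizer (Equiv.Perm W) a) i)
      have := congrArg g h1
      rwa [Equiv.Perm.mul_apply, Equiv.Perm.mul_apply, ainv] at this
    have h0 := hfix _ (hmove 0 hσ0)
    have he' := hfix _ (hmove e hσe)
    have hne : g 0 ≠ g e := fun h => b.he (g.injective h).symm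
    have hin : ∀ y : ↥V, ((y : ↥H) : Equiv.Perm W) ∈ Subgroup.zpowers σ → y ∈ K := by
      intro y hy'
      obtain ⟨i, hi⟩ := hy'
      exact ⟨i, Subtype.ext (Subtype.ext (by simpa [hS', hS] using hi))⟩
    rcases h0 with h0 | h0
    · refine Or.inl (hin x (b.hz ▸ mem_H01.2 ⟨(x : ↥H).2, h0, ?_⟩))
      exact he'.resolve_left fun h => hne (h0.trans h.symm)
    · refine Or.inr (hin _ (b.hz ▸ mem_H01.2 ⟨((T' * x : ↥V) : ↥H).2, ?_, ?_⟩))
      · show (((T' * x : ↥V) : ↥H) : Equiv.Perm W) 0 = 0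
        simp only [Subgroup.coe_mul, hT', hT, Equiv.Perm.mul_apply]
        rw [← hg, h0, b.τe]
      · show (((T' * x : ↥V) : ↥H) : Equiv.Perm W) e = e
        simp only [Subgroup.coe_mul, hT', hT, Equiv.Perm.mul_apply]
        rw [← hg, he'.resolve_right fun h => hne (h0.trans h.symm), b.τ0]
  have hoT' : orderOf T' = 2 := by rw [hT', Subgroup.orderOf_mk, hoT]
  have hVle : Nat.card ↥V ≤ 2 * Nat.card ↥M := by
    have htop : ∀ x : ↥V, x ∈ M ∨ T' * x ∈ M := by
      intro x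
      have hx : x ∈ Subgroup.normalizer (K : Set ↥V) ⊔ M := hfr ▸ Subgroup.mem_top x
      obtain ⟨n, hn, m, hm, rfl⟩ := Subgroup.mem_sup_of_normal_right.1 hx
      rcases hNK n hn with h | h
      · exact Or.inl (mul_mem (hKM h) hm)
      · exact Or.inr (by rw [← mul_assoc]; exact mul_mem (hKM h) hm)
    have hsurj : Function.Surjective fun p : Bool × ↥M => (if p.1 then T'⁻¹ else 1) * (p.2 : ↥V) := by
      intro x
      rcases htop x with h | h
      · exact ⟨(false, ⟨x, h⟩), by simp⟩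
      · exact ⟨(true, ⟨_, h⟩), by simp⟩
    have := Nat.card_le_card_of_surjective _ hsurj
    simpa [Nat.card_prod] using this
  have hP0lt : Nat.card ↥P0 ≠ 2 ^ k := fun h => hsylow P0 hP0p h S' hoS'
    (by rw [Subgroup.normalizer_eq_top_iff.2 hP0n]; exact Subgroup.mem_top _)
  have hrk : r + 1 = k := by
    rw [hVc, hMc, hr, mul_comm k, ← mul_assoc, ← pow_succ'] at hVle
    have h1 := Nat.le_of_mul_le_mul_right hVle b.hp.pos
    have h2 := (Nat.pow_le_pow_iff_right (by norm_num)).1 h1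
    have h3 : Nat.card ↥P0 ∣ 2 ^ k * k := hVc ▸ Subgroup.card_subgroup_dvd_card P0
    rw [hr] at h3
    have h4 : 2 ^ r ∣ 2 ^ k := ((Nat.coprime_primes Nat.prime_two b.hp).2 (Ne.symm b.hk2)).pow_left r
      |>.dvd_of_dvd_mul_right h3
    have h5 := (Nat.pow_dvd_pow_iff_le_right (by norm_num)).1 h4
    rw [hr] at hP0lt
    have : r ≠ k := fun h => hP0lt (by rw [h])
    omega
  have hTP : T' ∉ P0 := by
    intro hTP
    have hall : ∀ x : ↥V, x ∈ M := by
      intro x
      have hx : x ∈ Subgroup.normalizer (K : Set ↥V) ⊔ M := hfr ▸ Subgroup.mem_top x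
      obtain ⟨n, hn, m, hm, rfl⟩ := Subgroup.mem_sup_of_normal_right.1 hx
      rcases hNK n hn with h | h
      · exact mul_mem (hKM h) hm
      · refine mul_mem ?_ hm
        rw [show n = T'⁻¹ * (T' * n) by group]
        exact mul_mem (inv_mem (hPM hTP)) (hKM h)
    have : M = ⊤ := eq_top_iff.2 fun x _ => hall x
    rw [this, Subgroup.card_top, hVc, hr, mul_comm k] at hMc
    have := Nat.pow_right_injective le_rfl (Nat.eq_of_mul_eq_mul_right b.hp.pos hMc)
    omega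
  set U := P0 ⊔ Subgroup.zpowers T' with hU
  have hUp : IsPGroup 2 ↥U := hP0p.to_sup_of_normal_left
    (IsPGroup.of_card (n := 1) (by rw [Nat.card_zpowers, hoT', pow_one]))
  obtain ⟨u, hu⟩ := IsPGroup.iff_card.1 hUp
  have hUc : Nat.card ↥U = 2 ^ k := by
    rw [hu]
    congr 1
    have h1 : 2 ^ r < 2 ^ u := by
      rw [← hr, ← hu]
      refine lt_of_le_of_ne (Subgroup.card_le_of_le le_sup_left) fun h => hTP ?_
      rw [Subgroup.eq_of_le_of_card_ge (le_sup_left : P0 ≤ U) h.ge]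
      exact Subgroup.mem_sup_right (Subgroup.mem_zpowers _)
    have h2 : 2 ^ u ∣ 2 ^ k * k := hu ▸ hVc ▸ Subgroup.card_subgroup_dvd_card U
    have h3 : 2 ^ u ∣ 2 ^ k := ((Nat.coprime_primes Nat.prime_two b.hp).2 (Ne.symm b.hk2)).pow_left u
      |>.dvd_of_dvd_mul_right h2
    have h4 := (Nat.pow_dvd_pow_iff_le_right (by norm_num)).1 h3
    have h5 := (Nat.pow_lt_pow_iff_right (by norm_num)).1 h1
    omega
  obtain ⟨P, hP⟩ := (hUp.map V.subtype).exists_le_sylow
  have hPe : U.map V.subtype = (P : Subgroup ↥H) := Subgroup.eq_of_le_of_card_ge hP (by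
    rw [card_sylow hy b P, Subgroup.card_map_of_injective (Subgroup.subtype_injective _), hUc])
  -- no element of `P0` commutes with `S'`
  have hfpf : ∀ x ∈ P0, x * S' = S' * x → x = 1 := by
    intro x hx hxS
    by_contra hx1
    obtain ⟨j, hj⟩ := hP0p ⟨x, hx⟩
    have hj' : (x : ↥H) ^ (2 ^ j) = 1 := by
      have := congrArg (fun y : ↥P0 => ((y : ↥V) : ↥H)) hj
      simpa using this
    have hdvd : 2 ∣ orderOf (x : ↥H) := by
      obtain ⟨i, -, hi⟩ := (Nat.dvd_prime_pow Nat.prime_two).1 (orderOf_dvd_of_pow_eq_one hj')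
      rw [hi]
      refine dvd_pow_self 2 fun h => hx1 (Subtype.ext (orderOf_eq_one_iff.1 (by rw [hi, h, pow_zero])))
    have hc : Commute S (x : ↥H) := (congrArg Subtype.val hxS).symm
    have h2 := fixed_commute hy b (orderOf_pow_orderOf_div (orderOf_pos _).ne' hdvd)
      (hc.pow_right _).eq (a := 0) (by rw [hS, hσ0])
    rw [h2, orderOf_one] at hoS
    exact b.hp.one_lt.ne hoS
  have hTinv : T' * S' * T'⁻¹ = S'⁻¹ := Subtype.ext hinv
  rcases central_card hy b P with hc | hc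
  · -- one central involution
    let Q0 : Subgroup ↥V :=
      { carrier := {x | x ∈ P0 ∧ x * x = 1 ∧ ∀ y ∈ P0, y * x = x * y}
        one_mem' := ⟨one_mem _, one_mul 1, fun y _ => by rw [mul_one, one_mul]⟩
        mul_mem' := fun {a c} ha hc => ⟨mul_mem ha.1 hc.1, by
          rw [mul_assoc, ← mul_assoc c a c, ha.2.2 c hc.1, mul_assoc a c c, hc.2.1, mul_one, ha.2.1],
          fun y hy' => by rw [← mul_assoc, ha.2.2 y hy', mul_assoc, hc.2.2 y hy', ← mul_assoc]⟩
        inv_mem' := fun {a} ha => by rw [inv_eq_of_mul_eq_one_right ha.2.1]; exact ha }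
    have hQn : Q0.Normal := ⟨fun a ha g => ⟨hP0n.conj_mem a ha.1 g, by
      rw [show g * a * g⁻¹ * (g * a * g⁻¹) = g * (a * a) * g⁻¹ by group, ha.2.1, mul_one, mul_inv_cancel],
      fun y hy' => by
        have h1 := ha.2.2 (g⁻¹ * y * g⁻¹⁻¹) (hP0n.conj_mem y hy' g⁻¹)
        calc y * (g * a * g⁻¹) = g * (g⁻¹ * y * g⁻¹⁻¹ * a) * g⁻¹ := by group
          _ = g * (a * (g⁻¹ * y * g⁻¹⁻¹)) * g⁻¹ := by rw [h1]
          _ = _ := by group⟩⟩
    have hQp : IsPGroup 2 ↥Q0 := hP0p.to_le fun x hx => hx.1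
    have hTT : T' * T' = 1 := by rw [← pow_two, ← hoT', pow_orderOf_eq_one]
    -- fixed points of `T'` on `Q0`
    set CQ := Q0 ⊓ Subgroup.centralizer ({T'} : Set ↥V) with hCQ
    have hCQ2 : Nat.card ↥CQ ≤ 2 := by
      rw [← hc]
      refine Nat.card_le_card_of_injective (fun x => ⟨((x : ↥V) : ↥H), ?_, ?_, ?_⟩) ?_
      · rw [← hPe]; exact ⟨x, Subgroup.mem_sup_left x.2.1.1, rfl⟩
      · exact congrArg Subtype.val x.2.1.2.1
      · rw [← hPe]
        rintro _ ⟨y, hy', rfl⟩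
        have h1 : y * (x : ↥V) = x * y := by
          have hle : U ≤ Subgroup.centralizer ({(x : ↥V)} : Set ↥V) := sup_le
            (fun z hz => Subgroup.mem_centralizer_singleton_iff.2 (x.2.1.2.2 z hz))
            (Subgroup.zpowers_le.2 (Subgroup.mem_centralizer_singleton_iff.2
              (Subgroup.mem_centralizer_singleton_iff.1 x.2.2).symm))
          exact Subgroup.mem_centralizer_singleton_iff.1 (hle hy')
        exact congrArg Subtype.val h1
      · intro x y hxy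
        exact Subtype.ext (Subtype.ext (by simpa using hxy))
    let φ : ↥Q0 →* ↥Q0 := MonoidHom.mk' (fun x => x * ⟨T' * x * T'⁻¹, hQn.conj_mem _ x.2 T'⟩)
      fun a c => Subtype.ext (by
        show (a : ↥V) * c * (T' * (a * c) * T'⁻¹) = a * (T' * a * T'⁻¹) * (c * (T' * c * T'⁻¹))
        have h1 := (hQn.conj_mem _ a.2 T').2.2 c c.2.1
        calc (a : ↥V) * c * (T' * (a * c) * T'⁻¹)
            = a * (c * (T' * a * T'⁻¹)) * (T' * c * T'⁻¹) := by group
          _ = a * ((T' * a * T'⁻¹) * c) * (T' * c * T'⁻¹) := by rw [h1]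
          _ = _ := by group)
    have hker : ∀ x : ↥Q0, φ x = 1 → (x : ↥V) ∈ CQ := by
      intro x hx
      refine ⟨x.2, Subgroup.mem_centralizer_singleton_iff.2 ?_⟩
      have h1 : (x : ↥V) * (T' * x * T'⁻¹) = 1 := congrArg Subtype.val hx
      have h2 := (inv_eq_of_mul_eq_one_right h1).symm.trans (inv_eq_of_mul_eq_one_right x.2.2.1)
      exact (mul_inv_eq_iff_eq_mul.1 h2).symm
    have himg : ∀ x : ↥Q0, ((φ x : ↥Q0) : ↥V) ∈ CQ := by
      intro x
      refine ⟨(φ x).2, Subgroup.mem_centralizer_singleton_iff.2 ?_⟩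
      show (x : ↥V) * (T' * x * T'⁻¹) * T' = T' * (x * (T' * x * T'⁻¹))
      rw [inv_eq_of_mul_eq_one_right hTT]
      have h1 := (hQn.conj_mem _ x.2 T').2.2 x x.2.1
      rw [inv_eq_of_mul_eq_one_right hTT] at h1
      conv_lhs => rw [h1]
      simp only [mul_assoc]
    have hQ4 : Nat.card ↥Q0 ≤ 4 := by
      have h1 := φ.ker.index_mul_card
      rw [Subgroup.index_ker] at h1
      have ha : Nat.card ↥φ.ker ≤ Nat.card ↥CQ := Nat.card_le_card_of_injective
        (fun x => ⟨((x : ↥Q0) : ↥V), hker x x.2⟩) fun x y h => Subtype.ext (Subtype.ext (congrArg (fun z : ↥CQ => (z : ↥V)) h))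
      have hb : Nat.card ↥φ.range ≤ Nat.card ↥CQ := Nat.card_le_card_of_injective
        (fun x => ⟨((x : ↥Q0) : ↥V), by obtain ⟨y, hy'⟩ := x.2; rw [← hy']; exact himg y⟩)
        fun x y h => Subtype.ext (Subtype.ext (congrArg (fun z : ↥CQ => (z : ↥V)) h))
      rw [← h1]
      calc Nat.card ↥φ.range * Nat.card ↥φ.ker ≤ 2 * 2 :=
            Nat.mul_le_mul (hb.trans hCQ2) (ha.trans hCQ2)
        _ = 4 := rfl
    have hQne : Q0 ≠ ⊥ := by
      have hnt : Nontrivial ↥P0 := Finite.one_lt_card_iff_nontrivial.1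
        (by rw [hr]; exact Nat.one_lt_two_pow (by omega))
      have := hP0p.center_nontrivial
      obtain ⟨⟨c, hc'⟩, hc1⟩ := exists_ne (1 : ↥(Subgroup.center ↥P0))
      obtain ⟨j, hj⟩ := hP0p c
      have hdvd : 2 ∣ orderOf c := by
        obtain ⟨i, -, hi⟩ := (Nat.dvd_prime_pow Nat.prime_two).1 (orderOf_dvd_of_pow_eq_one hj)
        rw [hi]
        refine dvd_pow_self 2 fun h => hc1 (Subtype.ext (orderOf_eq_one_iff.1 (by rw [hi, h, pow_zero])))
      have hoz : orderOf ((c ^ (orderOf c / 2) : ↥P0) : ↥V) = 2 := by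
        rw [Subgroup.orderOf_coe, orderOf_pow_orderOf_div (orderOf_pos _).ne' hdvd]
      intro h
      have hm : ((c ^ (orderOf c / 2) : ↥P0) : ↥V) ∈ Q0 := ⟨SetLike.coe_mem _,
        by have h5 := pow_orderOf_eq_one (((c ^ (orderOf c / 2) : ↥P0) : ↥V)); rw [hoz, pow_two] at h5; exact h5, fun y hy' =>
          congrArg Subtype.val (Subgroup.mem_center_iff.1 (pow_mem hc' (orderOf c / 2)) ⟨y, hy'⟩)⟩
      rw [h, Subgroup.mem_bot] at hm
      rw [hm, orderOf_one] at hoz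
      omega
    let _ : MulAction ↥K ↥Q0 :=
      { smul := fun g x => ⟨(g : ↥V) * x * (g : ↥V)⁻¹, hQn.conj_mem _ x.2 _⟩
        one_smul := fun x => Subtype.ext (by show (1 : ↥V) * x * (1 : ↥V)⁻¹ = x; simp)
        mul_smul := fun g h x => Subtype.ext (by
          show ((g : ↥V) * h) * x * ((g : ↥V) * h)⁻¹ = g * (h * x * (h : ↥V)⁻¹) * (g : ↥V)⁻¹
          group) }
    have hKp : IsPGroup k ↥K := IsPGroup.of_card (n := 1) (by rw [hKc, pow_one])
    have hmod := hKp.card_modEq_card_fixedPoints ↥Q0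
    have hfix : MulAction.fixedPoints ↥K ↥Q0 = {1} := by
      ext x
      constructor
      · intro hx
        have h1 : S' * (x : ↥V) * S'⁻¹ = x := congrArg Subtype.val (hx ⟨S', Subgroup.mem_zpowers _⟩)
        exact Subtype.ext (hfpf x x.2.1 (mul_inv_eq_iff_eq_mul.1 h1).symm)
      · rintro rfl g
        exact Subtype.ext (by show (g : ↥V) * 1 * (g : ↥V)⁻¹ = 1; simp)
    rw [hfix, Nat.card_coe_set_eq {(1 : ↥Q0)}, Set.ncard_singleton] at hmod
    obtain ⟨j, hj⟩ := IsPGroup.iff_card.1 hQp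
    have h1 : 1 < Nat.card ↥Q0 :=
      Nat.lt_of_le_of_ne Nat.card_pos fun h => hQne (Subgroup.card_eq_one.1 h.symm)
    have h2 := (Nat.modEq_iff_dvd' h1.le).1 hmod.symm
    have h3 : Nat.card ↥Q0 = 2 ∨ Nat.card ↥Q0 = 4 := by
      rw [hj] at hQ4 h1 ⊢
      rcases j with _ | _ | _ | j
      · simp at h1
      · exact Or.inl rfl
      · exact Or.inr rfl
      · rw [pow_succ, pow_succ, pow_succ] at hQ4
        have := Nat.two_pow_pos j
        omega
    rcases h3 with h3 | h3 <;> rw [h3] at h2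
    · exact absurd (Nat.dvd_one.1 h2) b.hp.one_lt.ne'
    · exact ((Nat.prime_dvd_prime_iff_eq b.hp Nat.prime_three).1 h2)
  · -- elementary abelian Sylow 2-subgroups
    exfalso
    have hall : ∀ y ∈ (P : Subgroup ↥H), ∀ x ∈ (P : Subgroup ↥H), y * x = x * y := by
      intro y hy' x hx
      have hsurj : Function.Surjective (fun z : {x : ↥H // x ∈ (P : Subgroup ↥H) ∧ x * x = 1 ∧
          ∀ y ∈ (P : Subgroup ↥H), y * x = x * y} => (⟨z.1, z.2.1⟩ : ↥(P : Subgroup ↥H))) := by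
        refine ((Nat.bijective_iff_injective_and_card _).2 ⟨fun a c h => Subtype.ext ?_, ?_⟩).2
        · exact congrArg (fun q : ↥(P : Subgroup ↥H) => (q : ↥H)) h
        · rw [hc, card_sylow hy b P]
      obtain ⟨z, hz⟩ := hsurj ⟨x, hx⟩
      have : z.1 = x := congrArg Subtype.val hz
      rw [← this]; exact z.2.2.2 y hy'
    have hTc : ∀ x ∈ P0, x * T' = T' * x := by
      intro x hx
      exact Subtype.ext (hall _ (hPe ▸ ⟨x, Subgroup.mem_sup_left hx, rfl⟩) _
        (hPe ▸ ⟨T', Subgroup.mem_sup_right (Subgroup.mem_zpowers _), rfl⟩))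
    obtain ⟨m, hm⟩ : Odd k := b.hp.odd_of_ne_two b.hk2
    have hnt : Nontrivial ↥P0 := Finite.one_lt_card_iff_nontrivial.1
      (by rw [hr]; exact Nat.one_lt_two_pow (by omega))
    obtain ⟨⟨x, hx⟩, hx1⟩ := exists_ne (1 : ↥P0)
    refine hx1 (Subtype.ext (hfpf x hx ?_))
    -- `T'` and `S' T' S'⁻¹` centralise `P0`, hence so does `S'`
    have h2 : x * (S' * T' * S'⁻¹) = (S' * T' * S'⁻¹) * x := by
      have := hTc (S'⁻¹ * x * S'⁻¹⁻¹) (hP0n.conj_mem x hx S'⁻¹)
      calc x * (S' * T' * S'⁻¹) = S' * ((S'⁻¹ * x * S'⁻¹⁻¹) * T') * S'⁻¹ := by group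
        _ = S' * (T' * (S'⁻¹ * x * S'⁻¹⁻¹)) * S'⁻¹ := by rw [this]
        _ = _ := by group
    have hTT : T' * T' = 1 := by rw [← pow_two, ← hoT', pow_orderOf_eq_one]
    have h3 : Commute x (S' ^ 2) := by
      have : S' ^ 2 = S' * T' * S'⁻¹ * T' := by
        have h4 : T' * S'⁻¹ * T'⁻¹ = S' := by
          have := congrArg (fun z => z⁻¹) hTinv
          simpa [mul_assoc] using this
        rw [inv_eq_of_mul_eq_one_right hTT] at h4
        rw [pow_two, mul_assoc, mul_assoc, ← mul_assoc T' S'⁻¹, h4]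
      rw [this]
      exact Commute.mul_right h2 (hTc x hx)
    have h5 := h3.pow_right (m + 1)
    rw [← pow_mul, show 2 * (m + 1) = k + 1 by omega, pow_succ, ← hoS', pow_orderOf_eq_one, one_mul] at h5
    exact h5.eq

end Bad

end Cfsg.Agent.TimesPSLTwo.Affine
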