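import Cfsg.Agent.Lib.TimesPSLTwo.DihProps
import Cfsg.Agent.Lib.Forms.KleinClasses
import Cfsg.Agent.Lib.Classical.SylowSL2
import Cfsg.Agent.Lib.Classical.GL2
import Cfsg.Agent.Lib.Transfer.Fusion

/-!
The 2-local facts about `PSL₂` that are used.
-/

namespace Cfsg.Agent.TimesPSLTwo

open Matrix
open scoped MatrixGroups

/-- An elementary abelian Sylow 2-subgroup `Q` with an element `w` of the normaliser acting
transitively and generating the automiser. -/
structure PData {X : Type*} [Group X] (Q : Subgroup X) (w : X) (k : ℕ) : Prop where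
  card : Nat.card ↥Q = 2 ^ k
  two_le : 2 ≤ k
  elem : ∀ x ∈ Q, x * x = 1
  wN : w ∈ Subgroup.normalizer (Q : Set X)
  trans : ∀ v ∈ Q, ∀ u ∈ Q, v ≠ 1 → u ≠ 1 → ∃ i : ℕ, w ^ i * v * (w ^ i)⁻¹ = u
  pow : ∀ m ∈ Subgroup.normalizer (Q : Set X), ∃ j : ℕ, ∀ x ∈ Q, m * x * m⁻¹ = w ^ j * x * (w ^ j)⁻¹

theorem PData.conj {X : Type*} [Group X] {Q : Subgroup X} {w : X} {k : ℕ} (h : PData Q w k) (g : X) :
    PData (Q.map (MulAut.conj g).toMonoidHom) (g * w * g⁻¹) k := by
  have hpow : ∀ i : ℕ, ∀ x, (g * w * g⁻¹) ^ i * (g * x * g⁻¹) * ((g * w * g⁻¹) ^ i)⁻¹ =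
      g * (w ^ i * x * (w ^ i)⁻¹) * g⁻¹ := fun i x => by rw [conj_pow]; group
  refine ⟨by rw [Subgroup.card_map_of_injective (MulAut.conj g).injective, h.card], h.two_le, ?_,
    Subgroup.le_normalizer_map _ ⟨w, h.wN, rfl⟩, ?_, fun m hm => ?_⟩
  · rintro _ ⟨x, hx, rfl⟩
    rw [← map_mul, h.elem x hx, map_one]
  · rintro _ ⟨v, hv, rfl⟩ _ ⟨u, hu, rfl⟩ hv1 hu1
    obtain ⟨i, hi⟩ := h.trans v hv u hu (fun e => hv1 (by rw [e, map_one])) (fun e => hu1 (by rw [e, map_one]))
    exact ⟨i, (hpow i v).trans (by rw [hi]; rfl)⟩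
  · have hm' : g⁻¹ * m * g ∈ Subgroup.normalizer (Q : Set X) := by
      refine Subgroup.mem_normalizer_iff.2 fun x => ?_
      have h1 := Subgroup.mem_normalizer_iff.1 hm (g * x * g⁻¹)
      have h2 : ∀ y, g * y * g⁻¹ ∈ Q.map (MulAut.conj g).toMonoidHom ↔ y ∈ Q := fun y =>
        Subgroup.mem_map_iff_mem (MulAut.conj g).injective
      rw [h2, show m * (g * x * g⁻¹) * m⁻¹ = g * (g⁻¹ * m * g * x * (g⁻¹ * m * g)⁻¹) * g⁻¹ by group, h2] at h1
      exact h1
    obtain ⟨j, hj⟩ := h.pow _ hm'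
    refine ⟨j, ?_⟩
    rintro _ ⟨x, hx, rfl⟩
    simp only [MulEquiv.coe_toMonoidHom, MulAut.conj_apply]
    rw [hpow, ← hj x hx]
    group

variable {F : Type*} [Field F]

local notation "PG" => Matrix.ProjectiveSpecialLinearGroup (Fin 2) F

open Forms.KleinPSL Forms.KleinSL2

theorem psl_simple [Fintype F] (hF : 3 < Fintype.card F) :
    IsSimpleGroup PG := Classical.Linear.isSimpleGroup_PSL_fin le_rfl fun _ => hF

theorem two_upper [Fintype F] : (pi F) (Classical.GL2.uniSL (1 : F)) * (pi F) (Classical.GL2.lowSL (1 : F)) ≠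
    (pi F) (Classical.GL2.lowSL (1 : F)) * (pi F) (Classical.GL2.uniSL (1 : F)) := by
  rw [← map_mul, ← map_mul, Ne, pi_eq_iff]
  rintro (h | h)
  all_goals
    have h01 := congrArg (fun g : SL(2, F) => (g : Matrix (Fin 2) (Fin 2) F) 0 0) h
    have h11 := congrArg (fun g : SL(2, F) => (g : Matrix (Fin 2) (Fin 2) F) 0 1) h
    simp [Classical.GL2.coe_uniSL, Classical.GL2.coe_lowSL, Matrix.mul_apply, Fin.sum_univ_two] at h01 h11
  all_goals
    first
      | exact one_ne_zero (by linear_combination h01)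
      | exact one_ne_zero (by linear_combination h01 - h11)

theorem psl_center [Fintype F] (hF : 3 < Fintype.card F) (x : PG) (hx : ∀ y, x * y = y * x) : x = 1 := by
  have := psl_simple (F := F) hF
  rcases IsSimpleGroup.eq_bot_or_eq_top_of_normal (Subgroup.center PG) inferInstance with h | h
  · rw [← Subgroup.mem_bot, ← h, Subgroup.mem_center_iff]
    exact fun g => (hx g).symm
  · exact absurd ((Subgroup.mem_center_iff.1 (h ▸ Subgroup.mem_top _) _)) two_upper

theorem psl_perfect [Fintype F] (hF : 3 < Fintype.card F) : commutator PG = ⊤ := by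
  have := psl_simple (F := F) hF
  rcases IsSimpleGroup.eq_bot_or_eq_top_of_normal (commutator PG) inferInstance with h | h
  · rw [commutator_def, Subgroup.commutator_eq_bot_iff_le_centralizer] at h
    exact absurd (Subgroup.mem_centralizer_iff.1 (h (Subgroup.mem_top _)) _ (Subgroup.mem_top _)) two_upper
  · exact h

section odd

variable [Fintype F]

theorem four_rotation (h2 : (2 : F) ≠ 0) {e f : PG} (he : orderOf e = 2) (hf : orderOf f = 2) (hne : e ≠ f)
    (hc : Commute e f) : ∃ w : PG, w * e * w⁻¹ = f ∧ w * f * w⁻¹ = e * f := by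
  obtain ⟨A, rfl⟩ := pi_surjective e
  obtain ⟨B, rfl⟩ := pi_surjective f
  have hA := (orderOf_pi_eq_two h2).1 he
  have hB := (orderOf_pi_eq_two h2).1 hf
  have hanti := anti_of_comm h2 hA hB hne hc
  obtain ⟨g, hg⟩ := exists_conj_j h2 hA
  set C := g⁻¹ * B * g with hC
  have hCJ : C * jSL = -(jSL * C) := by
    calc C * jSL = g⁻¹ * (B * (g * jSL * g⁻¹)) * g := by rw [hC]; group
      _ = -(g⁻¹ * (g * jSL * g⁻¹ * B) * g) := by rw [hg, hanti, mul_neg, neg_mul]
      _ = _ := by rw [hC]; congr 1; group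
  have hCm := eq_aM_of_anti (M := (C : Matrix (Fin 2) (Fin 2) F)) (by
    have := congrArg Subtype.val hCJ
    rw [Matrix.SpecialLinearGroup.coe_mul, Matrix.SpecialLinearGroup.coe_neg, Matrix.SpecialLinearGroup.coe_mul,
      coe_jSL] at this
    exact this)
  set a := (C : Matrix (Fin 2) (Fin 2) F) 0 0
  set b := (C : Matrix (Fin 2) (Fin 2) F) 0 1
  have hab : a * a + b * b = -1 := by
    have := C.2
    rw [hCm, det_aM] at this
    linear_combination -this
  have hbq : Forms.KleinClasses.bq hab = C := by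
    refine Subtype.ext ?_
    rw [hCm]
    show Forms.KleinClasses.quat a b 0 0 1 0 = _
    ext i j
    fin_cases i <;> fin_cases j <;> simp [Forms.KleinClasses.quat, aM]
  obtain ⟨c1, c2, c3⟩ := (Forms.KleinClasses.alt4Data hab h2).conj_w
  rw [hbq] at c1 c2 c3
  refine ⟨(pi F g * pi F (Forms.KleinClasses.wq hab h2) * (pi F g)⁻¹)⁻¹, ?_, ?_⟩
  · rw [show pi F A = pi F g * pi F jSL * (pi F g)⁻¹ by rw [← map_inv, ← map_mul, ← map_mul, hg],
      show pi F B = pi F g * pi F C * (pi F g)⁻¹ by rw [← map_inv, ← map_mul, ← map_mul, hC]; congr 1; group]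
    nth_rw 1 [← c2]
    group
  · rw [show pi F A = pi F g * pi F jSL * (pi F g)⁻¹ by rw [← map_inv, ← map_mul, ← map_mul, hg],
      show pi F B = pi F g * pi F C * (pi F g)⁻¹ by rw [← map_inv, ← map_mul, ← map_mul, hC]; congr 1; group]
    nth_rw 1 [← c3]
    group

theorem card_four {X : Type*} [Group X] {Q : Subgroup X} {z e : X} (h4 : Nat.card ↥Q = 4)
    (hz : z ∈ Q) (he : e ∈ Q) (hz1 : z ≠ 1) (he1 : e ≠ 1) (hne : z ≠ e) (hze : z * e ≠ 1) :
    ∀ x ∈ Q, x = 1 ∨ x = z ∨ x = e ∨ x = z * e := by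
  classical
  intro x hx
  by_contra hno
  push Not at hno
  have : Finite ↥Q := Nat.finite_of_card_ne_zero (by omega)
  let g : Fin 5 → ↥Q := ![1, ⟨z, hz⟩, ⟨e, he⟩, ⟨z, hz⟩ * ⟨e, he⟩, ⟨x, hx⟩]
  have hinj : Function.Injective g := by
    intro i j h
    fin_cases i <;> fin_cases j <;>
      simp [g, Subtype.ext_iff, hz1, Ne.symm hz1, he1, Ne.symm he1, hne, Ne.symm hne, hze, Ne.symm hze,
        hno.1, Ne.symm hno.1, hno.2.1, Ne.symm hno.2.1, hno.2.2.1, Ne.symm hno.2.2.1, hno.2.2.2,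
        Ne.symm hno.2.2.2] at h ⊢
  have := Nat.card_le_card_of_injective g hinj
  simp [h4] at this

/-- In odd characteristic a Sylow 2-subgroup is four or dihedral of order at least eight. -/
theorem sylow_odd (hF : Odd (Fintype.card F)) (Q : Sylow 2 PG) :
    (Nat.card ↥(Q : Subgroup PG) = 4 ∧ ∀ x ∈ (Q : Subgroup PG), x * x = 1) ∨
      (8 ≤ Nat.card ↥(Q : Subgroup PG) ∧ ∃ z, DihProps ↥(Q : Subgroup PG) z) := by
  classical
  have : Fact (Nat.Prime 2) := ⟨Nat.prime_two⟩
  have h2 := Classical.SylowSL2.two_ne_zero_of_odd hF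
  obtain ⟨P, hP⟩ := Sylow.mapSurjective_surjective (pi_surjective (F := F)) 2 Q
  obtain ⟨⟨e⟩, h3⟩ := Classical.SylowSL2.sylow_two hF P
  generalize hj : (Nat.card SL(2, F)).factorization 2 - 2 = j at e
  have hQP : (Q : Subgroup PG) = (P : Subgroup SL(2, F)).map (pi F) := by rw [← hP]; rfl
  have hPc : Nat.card ↥(P : Subgroup SL(2, F)) = 4 * 2 ^ j := by
    have : NeZero (2 ^ j) := ⟨(Nat.two_pow_pos j).ne'⟩
    rw [Nat.card_congr e.toEquiv, Nat.card_eq_fintype_card, QuaternionGroup.card]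
  have hm : (-1 : SL(2, F)) ∈ (P : Subgroup SL(2, F)) := by
    have hz : IsPGroup 2 ↥(Subgroup.zpowers (-1 : SL(2, F))) := by
      refine IsPGroup.of_card (n := 1) ?_
      rw [Nat.card_zpowers, pow_one]
      exact orderOf_eq_prime (by simp) (fun h => ne_neg_self h2 1 h.symm)
    have hn : Subgroup.zpowers (-1 : SL(2, F)) ≤ Subgroup.normalizer ((P : Subgroup SL(2, F)) : Set SL(2, F)) :=
      Subgroup.zpowers_le.2 (Subgroup.mem_normalizer_iff.2 fun y => by simp)
    have := P.3 (P.2.to_sup_of_normal_left' hz hn) le_sup_left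
    rw [← this]
    exact Subgroup.mem_sup_right (Subgroup.mem_zpowers _)
  let π' : ↥(P : Subgroup SL(2, F)) →* ↥(Q : Subgroup PG) :=
    ((pi F).comp (P : Subgroup SL(2, F)).subtype).codRestrict _ fun x => hQP ▸ ⟨x, x.2, rfl⟩
  have hπ : Function.Surjective π' := by
    rintro ⟨y, hy⟩
    rw [hQP] at hy
    obtain ⟨x, hx, rfl⟩ := hy
    exact ⟨⟨x, hx⟩, rfl⟩
  set m1 : ↥(P : Subgroup SL(2, F)) := ⟨-1, hm⟩
  have hker : ∀ x, π' x = 1 ↔ x = 1 ∨ x = m1 := fun x => by
    rw [Subtype.ext_iff, Subtype.ext_iff, Subtype.ext_iff]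
    exact pi_eq_one
  have hkc : Nat.card ↥π'.ker = 2 := by
    rw [Nat.card_eq_two_iff]
    refine ⟨⟨1, one_mem _⟩, ⟨m1, (hker _).2 (Or.inr rfl)⟩, fun h => ?_, ?_⟩
    · have h1 := congrArg (fun x : ↥π'.ker => ((x : ↥(P : Subgroup SL(2, F))) : SL(2, F))) h
      exact ne_neg_self h2 1 h1
    · ext ⟨x, hx⟩
      simp only [Set.mem_insert_iff, Set.mem_singleton_iff, Subtype.ext_iff, Set.mem_univ, iff_true]
      rcases (hker x).1 hx with h | h
      · exact Or.inl (congrArg Subtype.val h)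
      · exact Or.inr (congrArg Subtype.val h)
  have hQc : Nat.card ↥(Q : Subgroup PG) = 2 * 2 ^ j := by
    have h1 := π'.ker.index_mul_card
    rw [Subgroup.index_ker, hkc, MonoidHom.range_eq_top.2 hπ, Subgroup.card_top, hPc] at h1
    omega
  rcases Nat.lt_or_ge j 2 with hj2 | hj2
  · obtain rfl : j = 1 := by omega
    refine Or.inl ⟨by rw [hQc]; rfl, ?_⟩
    intro y hy
    obtain ⟨x, hx⟩ := hπ ⟨y, hy⟩
    have hx2 : x * x = 1 ∨ x * x = m1 := by
      by_cases h1 : x * x = 1
      · exact Or.inl h1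
      refine Or.inr (Subtype.ext ?_)
      -- the group has exponent four, and `-1` is its only involution
      have h4 : (x * x) * (x * x) = 1 := by
        apply e.injective
        rw [map_one, map_mul, map_mul]
        generalize e x = g
        revert g
        decide +kernel
      refine Subtype.ext ?_
      exact (Classical.SylowSL2.eq_neg_one_of_sq h2 _ (fun h => h1 (Subtype.ext h)) (congrArg Subtype.val h4)).trans
        (by rw [Matrix.SpecialLinearGroup.coe_neg, Matrix.SpecialLinearGroup.coe_one])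
    have h5 := (hker _).2 hx2
    rw [map_mul, hx] at h5
    exact congrArg Subtype.val h5
  · refine Or.inr ⟨by rw [hQc]; have := Nat.pow_le_pow_right two_pos hj2; omega, ?_⟩
    set n := 2 ^ j with hn
    have : NeZero n := ⟨(Nat.two_pow_pos j).ne'⟩
    let σ : QuaternionGroup n →* DihedralGroup n := MonoidHom.mk' (fun g => match g with
      | .a i => .r (ZMod.castHom (dvd_mul_left n 2) (ZMod n) i)
      | .xa i => .sr (ZMod.castHom (dvd_mul_left n 2) (ZMod n) i)) (by
        have hhalf : ZMod.castHom (dvd_mul_left n 2) (ZMod n) (n : ZMod (2 * n)) = 0 := by simp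
        rintro (a | a) (b | b) <;> simp [hhalf])
    have hσ : Function.Surjective σ := by
      rintro (i | i)
      · exact ⟨.a (i.val : ℕ), congrArg DihedralGroup.r (by rw [map_natCast, ZMod.natCast_zmod_val])⟩
      · exact ⟨.xa (i.val : ℕ), congrArg DihedralGroup.sr (by rw [map_natCast, ZMod.natCast_zmod_val])⟩
    have hσ1 : σ (QuaternionGroup.a (n : ZMod (2 * n))) = 1 := by simp [σ]
    have hm1 : e m1 = QuaternionGroup.a (n : ZMod (2 * n)) := by
      have hq : e.symm (QuaternionGroup.a (n : ZMod (2 * n))) = m1 := by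
        refine Subtype.ext (Subtype.ext ?_)
        have hne : (QuaternionGroup.a (n : ZMod (2 * n))) ≠ 1 := fun h => by
          rw [QuaternionGroup.one_def] at h
          have h' := QuaternionGroup.a.inj h
          rw [ZMod.natCast_eq_zero_iff] at h'
          have := Nat.le_of_dvd (hn ▸ Nat.two_pow_pos j) h'
          have := Nat.pos_of_ne_zero (NeZero.ne n)
          omega
        refine (Classical.SylowSL2.eq_neg_one_of_sq h2 _ (fun h => hne ?_) ?_).trans ?_
        · apply e.symm.injective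
          rw [map_one]
          exact Subtype.ext h
        · have h5 : (QuaternionGroup.a (n : ZMod (2 * n))) * QuaternionGroup.a (n : ZMod (2 * n)) = 1 := by
            rw [QuaternionGroup.a_mul_a, ← Nat.cast_add, ← two_mul, ZMod.natCast_self]; rfl
          rw [← Subgroup.coe_mul, ← map_mul, h5, map_one]
          rfl
        · exact (by rw [Matrix.SpecialLinearGroup.coe_neg, Matrix.SpecialLinearGroup.coe_one])
      rw [← hq, MulEquiv.apply_symm_apply]
    let τ : ↥(P : Subgroup SL(2, F)) →* DihedralGroup n := σ.comp e.toMonoidHom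
    have hτ : Function.Surjective τ := hσ.comp e.surjective
    have hle : π'.ker ≤ τ.ker := by
      intro x hx
      rcases (hker x).1 hx with rfl | rfl
      · exact one_mem _
      · show σ (e m1) = 1
        rw [hm1, hσ1]
    have hkeq : π'.ker = τ.ker := by
      refine Subgroup.eq_of_le_of_card_ge hle (le_of_eq ?_)
      have h1 := τ.ker.index_mul_card
      rw [Subgroup.index_ker, MonoidHom.range_eq_top.2 hτ, Subgroup.card_top, DihedralGroup.nat_card, hPc] at h1
      have hn0 : 0 < n := Nat.two_pow_pos j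
      rw [hkc]
      exact Nat.eq_of_mul_eq_mul_left (by omega : 0 < 2 * n) (h1.trans (by ring))
    let E : ↥(Q : Subgroup PG) ≃* DihedralGroup n :=
      (QuotientGroup.quotientKerEquivOfSurjective π' hπ).symm.trans
        ((QuotientGroup.quotientMulEquivOfEq hkeq).trans (QuotientGroup.quotientKerEquivOfSurjective τ hτ))
    exact ⟨_, (dihProps_model hj2).of_equiv E.symm⟩

end odd

section even

variable [Fintype F]

theorem sylow_even (h2 : (2 : F) = 0) (hF : 3 < Fintype.card F) (Q : Sylow 2 PG) :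
    ∃ w k, PData (Q : Subgroup PG) w k := by
  classical
  have : Fact (Nat.Prime 2) := ⟨Nat.prime_two⟩
  have hneg : ∀ a : F, -a = a := fun a => by linear_combination -a * h2
  have hpi : Function.Injective (pi F) := fun a b hab => by
    rcases pi_eq_iff.1 hab with h | h
    · exact h
    · rw [h]
      refine Subtype.ext ?_
      rw [Matrix.SpecialLinearGroup.coe_neg]
      ext i l
      exact hneg _
  have : CharP F 2 := by
    obtain ⟨p, hp⟩ := CharP.exists F
    have hd : (p : ℕ) ∣ 2 := (CharP.cast_eq_zero_iff F p 2).1 (by exact_mod_cast h2)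
    rcases CharP.char_is_prime_or_zero F p with h | h
    · obtain rfl := (Nat.prime_dvd_prime_iff_eq h Nat.prime_two).1 hd
      exact hp
    · subst h; simp at hd
  obtain ⟨⟨k, hk0⟩, -, hk⟩ := FiniteField.card F 2
  simp only [PNat.mk_coe] at hk
  have hk2 : 2 ≤ k := by
    by_contra h
    obtain rfl : k = 1 := by omega
    omega
  obtain ⟨g, hg⟩ := IsCyclic.exists_generator (α := Fˣ)
  let U0 : Subgroup PG := (Classical.GL2.U F).map (pi F)
  have hU0c : Nat.card ↥U0 = 2 ^ k := by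
    rw [Subgroup.card_map_of_injective hpi, Classical.GL2.natCard_U, Nat.card_eq_fintype_card, hk]
  have hfac : (Nat.card PG).factorization 2 = k := by
    have h1 : Nat.card PG = Nat.card SL(2, F) :=
      (Nat.card_congr (Equiv.ofBijective (pi F) ⟨hpi, pi_surjective⟩)).symm
    have hev : Even (2 ^ k) := (Nat.even_pow' (by omega)).2 even_two
    have hpos : 0 < (2 ^ k - 1) * (2 ^ k + 1) := Nat.mul_pos (by omega) (by omega)
    rw [h1, Classical.GL2.natCard_SL_two, hk, Nat.factorization_mul (Nat.two_pow_pos k).ne' hpos.ne',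
      Finsupp.add_apply, Nat.prime_two.factorization_pow, Finsupp.single_eq_same,
      Nat.factorization_eq_zero_of_not_dvd, add_zero]
    intro hd
    obtain ⟨r, hr⟩ := hev
    rcases (Nat.prime_two.dvd_mul).1 hd with h | h <;> omega
  let S0 : Sylow 2 PG := Sylow.ofCard U0 (by rw [hU0c, hfac])
  let dg : SL(2, F) := ⟨!![(g : F), 0; 0, ((g⁻¹ : Fˣ) : F)], by simp [det_fin_two]⟩
  let u : F → PG := fun c => pi F (Classical.GL2.uniSL c)
  have hconj : ∀ (M : SL(2, F)) (a c : F), (M : Matrix (Fin 2) (Fin 2) F) 1 0 = 0 →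
      (M : Matrix (Fin 2) (Fin 2) F) 0 0 = a → pi F M * u c * (pi F M)⁻¹ = u (a * a * c) := by
    intro M a c h10 h00
    rw [mul_inv_eq_iff_eq_mul, ← map_mul, ← map_mul]
    congr 1
    have hd := M.2
    rw [det_fin_two, h10, h00, mul_zero, sub_zero] at hd
    refine Subtype.ext ?_
    rw [Matrix.SpecialLinearGroup.coe_mul, Matrix.SpecialLinearGroup.coe_mul, Classical.GL2.coe_uniSL,
      Classical.GL2.coe_uniSL]
    ext i l
    fin_cases i <;> fin_cases l <;> simp [Matrix.mul_apply, Fin.sum_univ_two, h10, h00]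
    linear_combination -(a * c) * hd
  have hw : ∀ (i : ℕ) (c : F), pi F dg ^ i * u c * (pi F dg ^ i)⁻¹ = u ((g : F) ^ i * (g : F) ^ i * c) := by
    intro i
    induction i with
    | zero => intro c; simp
    | succ i ih =>
      intro c
      rw [pow_succ', show pi F dg * pi F dg ^ i * u c * (pi F dg * pi F dg ^ i)⁻¹ =
        pi F dg * (pi F dg ^ i * u c * (pi F dg ^ i)⁻¹) * (pi F dg)⁻¹ by group, ih,
        hconj dg (g : F) _ rfl rfl]
      congr 1
      ring
  have hmem : ∀ x, x ∈ U0 ↔ ∃ c, u c = x := by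
    intro x
    constructor
    · rintro ⟨_, ⟨c, rfl⟩, rfl⟩
      exact ⟨c.toAdd, rfl⟩
    · rintro ⟨c, rfl⟩
      exact ⟨_, ⟨Multiplicative.ofAdd c, rfl⟩, rfl⟩
  have hu0 : u 0 = 1 := by show pi F (Classical.GL2.uniSL 0) = 1; rw [Classical.GL2.uniSL_zero, map_one]
  have hpow : ∀ a : F, a ≠ 0 → ∃ i : ℕ, (g : F) ^ i = a := fun a ha => by
    obtain ⟨i, hi⟩ := mem_powers_iff_mem_zpowers.2 (hg (Units.mk0 a ha))
    exact ⟨i, by simpa using congrArg Units.val hi⟩
  have hdata : PData U0 (pi F dg) k := by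
    refine ⟨hU0c, hk2, ?_, ?_, ?_, ?_⟩
    · intro x hx
      obtain ⟨c, rfl⟩ := (hmem x).1 hx
      show pi F _ * pi F _ = 1
      rw [← map_mul, Classical.GL2.uniSL_mul, CharTwo.add_self_eq_zero, Classical.GL2.uniSL_zero, map_one]
    · rw [← Transfer.Fusion.map_conj_eq_self_iff]
      refine Subgroup.eq_of_le_of_card_ge ?_ (Subgroup.card_map_of_injective (MulAut.conj _).injective).ge
      rintro _ ⟨x, hx, rfl⟩
      obtain ⟨c, rfl⟩ := (hmem x).1 hx
      refine (hmem _).2 ⟨_, ((hw 1 c).symm.trans ?_)⟩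
      simp
    · intro v hv v' hv' hv1 hv'1
      obtain ⟨c, rfl⟩ := (hmem v).1 hv
      obtain ⟨c', rfl⟩ := (hmem v').1 hv'
      have hc : c ≠ 0 := fun h => hv1 (by rw [h, hu0])
      have hc' : c' ≠ 0 := fun h => hv'1 (by rw [h, hu0])
      obtain ⟨r, hr⟩ := hpow (c' / c) (div_ne_zero hc' hc)
      refine ⟨r * 2 ^ (k - 1), ?_⟩
      rw [hw, ← mul_pow, ← pow_two, ← pow_mul,
        show 2 * (r * 2 ^ (k - 1)) = r * Fintype.card F by
          rw [hk]; conv_rhs => rw [show k = (k - 1) + 1 by omega, pow_succ]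
          ring,
        pow_mul, FiniteField.pow_card, hr, div_mul_cancel₀ _ hc]
    · intro m hm
      obtain ⟨M, rfl⟩ := pi_surjective m
      obtain ⟨c, hc⟩ := (hmem _).1 ((Subgroup.mem_normalizer_iff.1 hm (u 1)).1 ((hmem _).2 ⟨1, rfl⟩))
      have h10 : (M : Matrix (Fin 2) (Fin 2) F) 1 0 = 0 := by
        rw [eq_mul_inv_iff_mul_eq, ← map_mul, ← map_mul] at hc
        have := congrArg (fun x : SL(2, F) => (x : Matrix (Fin 2) (Fin 2) F) 1 1) (hpi hc)
        simpa [Classical.GL2.coe_uniSL, Matrix.mul_apply, Fin.sum_univ_two] using this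
      have h00 : (M : Matrix (Fin 2) (Fin 2) F) 0 0 ≠ 0 := fun h => by
        have hd := M.2
        rw [det_fin_two, h10, h] at hd
        simp at hd
      obtain ⟨r, hr⟩ := hpow _ h00
      refine ⟨r, fun x hx => ?_⟩
      obtain ⟨c, rfl⟩ := (hmem x).1 hx
      rw [hconj M _ c h10 hr.symm, hw]
  obtain ⟨γ, hγ⟩ := MulAction.exists_smul_eq PG S0 Q
  refine ⟨γ * pi F dg * γ⁻¹, k, ?_⟩
  have : (Q : Subgroup PG) = U0.map (MulAut.conj γ).toMonoidHom := by rw [← hγ]; rfl
  rw [this]
  exact hdata.conj γ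

end even

end Cfsg.Agent.TimesPSLTwo
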