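import Cfsg.Agent.Lib.TimesPSLTwo.Level

/-!
The affine action of `N(T)` on the cosets of `⁅T, T⁆` outside `M`.
-/

namespace Cfsg.Agent.TimesPSLTwo

open Affine (Hyp lin tr ainv inva)

variable {G : Type*} [Group G]

/-- The map `M → T / ⁅T, T⁆`. -/
def toAb (T M : Subgroup G) (h : M ≤ T) : ↥M →* Abelianization ↥T :=
  Abelianization.of.comp (Subgroup.inclusion h)

/-- `M / ⁅T, T⁆`, written additively. -/
abbrev Quo (T M : Subgroup G) (h : M ≤ T) : Type _ := Additive ↥(toAb T M h).range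

/-- The class of an element of `M`. -/
def mkQ (T M : Subgroup G) (h : M ≤ T) (m : ↥M) : Quo T M h :=
  Additive.ofMul ⟨toAb T M h m, ⟨m, rfl⟩⟩

variable {t : G} {A V : Subgroup G} {s : G} {k : ℕ} {T M : Subgroup G}

theorem of_eq_iff {x y : ↥T} :
    Abelianization.of x = Abelianization.of y ↔ (x : G)⁻¹ * y ∈ (⁅T, T⁆ : Subgroup G) := by
  rw [← inv_mul_eq_one, ← map_inv, ← map_mul]
  show _ ↔ _
  rw [show Abelianization.of (x⁻¹ * y) = 1 ↔ x⁻¹ * y ∈ commutator ↥T from QuotientGroup.eq_one_iff _,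
    ← Subgroup.map_subtype_commutator]
  constructor
  · intro h
    exact ⟨_, h, rfl⟩
  · rintro ⟨z, hz, he⟩
    rwa [← show z = x⁻¹ * y from Subtype.ext he]

theorem mkQ_mul (h : M ≤ T) (a b : ↥M) : mkQ T M h (a * b) = mkQ T M h a + mkQ T M h b := by
  show Additive.ofMul _ = Additive.ofMul (_ * _)
  exact congrArg Additive.ofMul (Subtype.ext (map_mul _ _ _))

theorem mkQ_one (h : M ≤ T) : mkQ T M h 1 = 0 := by
  show Additive.ofMul _ = Additive.ofMul (1 : ↥(toAb T M h).range)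
  exact congrArg Additive.ofMul (Subtype.ext (map_one _))

theorem mkQ_eq (h : M ≤ T) {a b : ↥M} :
    mkQ T M h a = mkQ T M h b ↔ (a : G)⁻¹ * b ∈ (⁅T, T⁆ : Subgroup G) := by
  constructor
  · intro he
    exact of_eq_iff.1 (congrArg (fun x : Quo T M h => ((Additive.toMul x : ↥(toAb T M h).range) :
      Abelianization ↥T)) he)
  · intro he
    exact congrArg Additive.ofMul (Subtype.ext (of_eq_iff.2 he))

theorem mkQ_surjective (h : M ≤ T) : Function.Surjective (mkQ T M h) := fun x => by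
  obtain ⟨m, hm⟩ := (Additive.toMul x).2
  exact ⟨m, congrArg Additive.ofMul (Subtype.ext hm)⟩

namespace Lev

variable [Finite G] (hb : Setup t A V s k) (hl : Lev t A V s k T M)

include hb hl

/-- If every conjugate of `t` under `N(T)` lies in its coset, then `T` is a Sylow 2-subgroup. -/
theorem sylow_of_fixed (hfix : ∀ n ∈ Subgroup.normalizer (T : Set G), t⁻¹ * (n * t * n⁻¹) ∈ ⁅T, T⁆) :
    ∃ S : Sylow 2 G, (S : Subgroup G) = T := by
  have : Fact (Nat.Prime 2) := ⟨Nat.prime_two⟩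
  obtain ⟨S, hS⟩ := hl.hT.exists_le_sylow
  refine ⟨S, le_antisymm ?_ hS⟩
  by_contra hne
  have hlt : T.subgroupOf S ≠ ⊤ := fun h => hne (Subgroup.subgroupOf_eq_top.1 h)
  have hnc := Group.normalizerCondition_of_isNilpotent (h := S.2.isNilpotent) (T.subgroupOf S)
    (lt_top_iff_ne_top.2 hlt)
  obtain ⟨n, hn, hnT⟩ := SetLike.exists_of_lt hnc
  have hnN : (n : G) ∈ Subgroup.normalizer (T : Set G) := by
    rw [Subgroup.mem_normalizer_iff]
    intro y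
    constructor
    · intro hy
      exact ((Subgroup.mem_normalizer_iff.1 hn) ⟨y, hS hy⟩).1 hy
    · intro hy
      have hyS : y ∈ (S : Subgroup G) := by
        have := mul_mem (mul_mem (inv_mem (n.2 : (n : G) ∈ (S : Subgroup G))) (hS hy)) n.2
        rwa [show (n : G)⁻¹ * ((n : G) * y * (n : G)⁻¹) * n = y by group] at this
      exact ((Subgroup.mem_normalizer_iff.1 hn) ⟨y, hyS⟩).2 hy
  obtain ⟨x, hxT, hx⟩ := (hl.class_coset hb (IsConj.refl t) (hl.tT hb)).2.1 _ (hfix n hnN)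
  rw [mul_inv_cancel_left] at hx
  have hc : x⁻¹ * n ∈ (S : Subgroup G) ⊓ Subgroup.centralizer ({t} : Set G) := by
    refine Subgroup.mem_inf.2 ⟨mul_mem (inv_mem (hS hxT)) n.2, Subgroup.mem_centralizer_singleton_iff.2 ?_⟩
    calc x⁻¹ * (n : G) * t = x⁻¹ * ((n : G) * t * (n : G)⁻¹) * n := by group
      _ = _ := by rw [← hx]; group
  rw [hb.eq_A (S.2.to_le inf_le_left) (le_inf (hl.hAT.trans hS) hb.leC) inf_le_right] at hc
  have := mul_mem hxT (hl.hAT hc)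
  rw [mul_inv_cancel_left] at this
  exact hnT this

theorem conj_mem_tM (hVX : ∀ v ∈ V, ¬ IsConj t v) {u : G} (hu : IsConj t u) (huT : u ∈ T) :
    t⁻¹ * u ∈ M :=
  ((hl.mem_or huT).resolve_left (hl.no_conj hb hVX hu)) t (hl.tT hb) hl.htM

/-- Otherwise the normaliser of `T` normalises `M`. -/
theorem normalizes_M (hVX : ∀ v ∈ V, ¬ IsConj t v) {n0 : G} (hn0 : n0 ∈ Subgroup.normalizer (T : Set G))
    (hmove : t⁻¹ * (n0 * t * n0⁻¹) ∉ ⁅T, T⁆) :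
    (∀ n ∈ Subgroup.normalizer (T : Set G), ∀ x ∈ M, n * x * n⁻¹ ∈ M) ∧
      ∀ m ∈ M, ∃ n ∈ Subgroup.normalizer (T : Set G), n * t * n⁻¹ = t * m := by
  obtain ⟨s', hs'C, hs'T, hs'M, -, hs'tr⟩ := hl.sT
  have hm0 := hl.conj_mem_tM hb hVX (isConj_iff.2 ⟨n0, rfl⟩)
    ((Subgroup.mem_normalizer_iff.1 hn0 t).1 (hl.tT hb))
  have hclass : ∀ u, IsConj t u → u ∈ T → ∀ d ∈ ⁅T, T⁆, ∃ x ∈ T, x * u * x⁻¹ = u * d :=
    fun u hu huT => (hl.class_coset hb hu huT).2.1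
  have hall : ∀ m ∈ M, ∃ n ∈ Subgroup.normalizer (T : Set G), n * t * n⁻¹ = t * m := by
    intro m hm
    by_cases hmD : m ∈ ⁅T, T⁆
    · obtain ⟨x, hx, hxe⟩ := hclass t (IsConj.refl t) (hl.tT hb) m hmD
      exact ⟨x, Subgroup.le_normalizer hx, hxe⟩
    obtain ⟨i, hi⟩ := hs'tr _ hm0 m hm hmove hmD
    set w := s' ^ i * (n0 * t * n0⁻¹) * (s' ^ i)⁻¹ with hw
    have hst : (s' ^ i) * t⁻¹ * (s' ^ i)⁻¹ = t⁻¹ := by
      have h1 : Commute (s' ^ i) t :=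
        (Commute.pow_left (Subgroup.mem_centralizer_singleton_iff.1 hs'C) i)
      rw [(h1.inv_right).eq, mul_inv_cancel_right]
    have hwm : (t⁻¹ * w)⁻¹ * m ∈ ⁅T, T⁆ := by
      rwa [show t⁻¹ * w = s' ^ i * (t⁻¹ * (n0 * t * n0⁻¹)) * (s' ^ i)⁻¹ by
        rw [hw]; conv_lhs => rw [← hst]
        group]
    have hwN : s' ^ i * n0 ∈ Subgroup.normalizer (T : Set G) := mul_mem (pow_mem hs'T i) hn0
    have hwc : w = (s' ^ i * n0) * t * (s' ^ i * n0)⁻¹ := by rw [hw]; group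
    obtain ⟨x, hx, hxe⟩ := hclass w (isConj_iff.2 ⟨_, hwc.symm⟩)
      (hwc ▸ (Subgroup.mem_normalizer_iff.1 hwN t).1 (hl.tT hb)) _ hwm
    refine ⟨x * (s' ^ i * n0), mul_mem (Subgroup.le_normalizer hx) hwN, ?_⟩
    rw [show x * (s' ^ i * n0) * t * (x * (s' ^ i * n0))⁻¹ =
      x * ((s' ^ i * n0) * t * (s' ^ i * n0)⁻¹) * x⁻¹ by group, ← hwc, hxe]
    group
  refine ⟨fun n hn x hx => ?_, hall⟩
  obtain ⟨nx, hnx, hxe⟩ := hall x hx
  have h1 := hl.conj_mem_tM hb hVX (isConj_iff.2 ⟨n, rfl⟩)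
    ((Subgroup.mem_normalizer_iff.1 hn t).1 (hl.tT hb))
  have h2 := hl.conj_mem_tM hb hVX (isConj_iff.2 ⟨n * nx, rfl⟩)
    ((Subgroup.mem_normalizer_iff.1 (mul_mem hn hnx) t).1 (hl.tT hb))
  have h3 := mul_mem (inv_mem h1) h2
  rw [show n * nx * t * (n * nx)⁻¹ = n * (nx * t * nx⁻¹) * n⁻¹ by group, hxe] at h3
  rwa [show (t⁻¹ * (n * t * n⁻¹))⁻¹ * (t⁻¹ * (n * (t * x) * n⁻¹)) = n * x * n⁻¹ by group] at h3

end Lev

/-- The data of a level whose normaliser moves `t` out of its coset. -/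
structure Moving (t : G) (A V : Subgroup G) (s : G) (k : ℕ) (T M : Subgroup G) : Prop where
  hb : Setup t A V s k
  hl : Lev t A V s k T M
  hVX : ∀ v ∈ V, ¬ IsConj t v
  hNM : ∀ n ∈ Subgroup.normalizer (T : Set G), ∀ x ∈ M, n * x * n⁻¹ ∈ M
  hall : ∀ m ∈ M, ∃ n ∈ Subgroup.normalizer (T : Set G), n * t * n⁻¹ = t * m

namespace Moving

variable [Finite G] (hm : Moving t A V s k T M)

include hm

theorem shift_mem {n : G} (hn : n ∈ Subgroup.normalizer (T : Set G)) {m : G} (hmM : m ∈ M) :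
    t⁻¹ * (n * (t * m) * n⁻¹) ∈ M := by
  rw [show t⁻¹ * (n * (t * m) * n⁻¹) = t⁻¹ * (n * t * n⁻¹) * (n * m * n⁻¹) by group]
  exact mul_mem (hm.hl.conj_mem_tM hm.hb hm.hVX (isConj_iff.2 ⟨n, rfl⟩)
    ((Subgroup.mem_normalizer_iff.1 hn t).1 (hm.hl.tT hm.hb))) (hm.hNM n hn m hmM)

theorem D_conj {n : G} (hn : n ∈ Subgroup.normalizer (T : Set G)) {d : G} (hd : d ∈ ⁅T, T⁆) :
    n * d * n⁻¹ ∈ ⁅T, T⁆ := (Subgroup.mem_normalizer_iff.1 (normalizer_le_commutator hn) d).1 hd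

theorem exists_fun (n : ↥(Subgroup.normalizer (T : Set G))) : ∃ f : Quo T M hm.hl.hMT → Quo T M hm.hl.hMT,
    ∀ m : ↥M, f (mkQ T M hm.hl.hMT m) =
      mkQ T M hm.hl.hMT ⟨t⁻¹ * ((n : G) * (t * m) * (n : G)⁻¹), hm.shift_mem n.2 m.2⟩ := by
  choose g hg using mkQ_surjective (T := T) (M := M) hm.hl.hMT
  refine ⟨fun w => mkQ T M hm.hl.hMT ⟨t⁻¹ * ((n : G) * (t * g w) * (n : G)⁻¹), hm.shift_mem n.2 (g w).2⟩,
    fun m => (mkQ_eq hm.hl.hMT).2 ?_⟩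
  have h := hm.D_conj n.2 ((mkQ_eq hm.hl.hMT).1 (hg (mkQ T M hm.hl.hMT m)))
  set x := ((g (mkQ T M hm.hl.hMT m) : ↥M) : G)
  show (t⁻¹ * ((n : G) * (t * x) * (n : G)⁻¹))⁻¹ * (t⁻¹ * ((n : G) * (t * m) * (n : G)⁻¹)) ∈ ⁅T, T⁆
  rwa [show (t⁻¹ * ((n : G) * (t * x) * (n : G)⁻¹))⁻¹ * (t⁻¹ * ((n : G) * (t * m) * (n : G)⁻¹)) =
    (n : G) * (x⁻¹ * m) * (n : G)⁻¹ by group]

theorem exists_psi : ∃ ψ : ↥(Subgroup.normalizer (T : Set G)) →* Equiv.Perm (Quo T M hm.hl.hMT),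
    ∀ n, ∀ m : ↥M, ψ n (mkQ T M hm.hl.hMT m) =
      mkQ T M hm.hl.hMT ⟨t⁻¹ * ((n : G) * (t * m) * (n : G)⁻¹), hm.shift_mem n.2 m.2⟩ := by
  choose f hf using hm.exists_fun
  have hmul : ∀ a b w, f (a * b) w = f a (f b w) := by
    intro a b w
    obtain ⟨m, rfl⟩ := mkQ_surjective hm.hl.hMT w
    rw [hf, hf, hf]
    congr 1
    refine Subtype.ext ?_
    simp only [Subgroup.coe_mul]
    group
  have hone : ∀ w, f 1 w = w := by
    intro w
    obtain ⟨m, rfl⟩ := mkQ_surjective hm.hl.hMT w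
    rw [hf]
    congr 1
    refine Subtype.ext ?_
    simp
  refine ⟨MonoidHom.mk' (fun n => ⟨f n, f n⁻¹, fun w => by rw [← hmul, inv_mul_cancel, hone],
    fun w => by rw [← hmul, mul_inv_cancel, hone]⟩) fun a b => Equiv.ext fun w => hmul a b w, hf⟩

/-- The affine action. -/
noncomputable def psi : ↥(Subgroup.normalizer (T : Set G)) →* Equiv.Perm (Quo T M hm.hl.hMT) :=
  hm.exists_psi.choose

theorem psi_apply (n : ↥(Subgroup.normalizer (T : Set G))) (m : ↥M) :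
    hm.psi n (mkQ T M hm.hl.hMT m) =
      mkQ T M hm.hl.hMT ⟨t⁻¹ * ((n : G) * (t * m) * (n : G)⁻¹), hm.shift_mem n.2 m.2⟩ :=
  hm.exists_psi.choose_spec n m

theorem two (w : Quo T M hm.hl.hMT) : w + w = 0 := by
  obtain ⟨m, rfl⟩ := mkQ_surjective hm.hl.hMT w
  rw [← mkQ_mul, ← mkQ_one hm.hl.hMT, eq_comm, mkQ_eq]
  simpa using hm.hl.sq m (hm.hl.hMT m.2)

theorem card_quo : Nat.card (Quo T M hm.hl.hMT) = 2 ^ k := by
  show Nat.card ↥(toAb T M hm.hl.hMT).range = 2 ^ k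
  have h1 := (toAb T M hm.hl.hMT).ker.index_mul_card
  have h2 : (toAb T M hm.hl.hMT).ker = (⁅T, T⁆ : Subgroup G).subgroupOf M := by
    ext m
    rw [MonoidHom.mem_ker, ← map_one (Abelianization.of (G := ↥T)), eq_comm,
      show toAb T M hm.hl.hMT m = Abelianization.of (Subgroup.inclusion hm.hl.hMT m) from rfl, of_eq_iff,
      Subgroup.mem_subgroupOf]
    simp
  rw [Subgroup.index_ker, h2, Nat.card_congr (Subgroup.subgroupOfEquivOfLe hm.hl.DM).toEquiv,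
    hm.hl.card_D hm.hb] at h1
  exact Nat.eq_of_mul_eq_mul_right Nat.card_pos h1

/-- An element fixing the zero coset is an element of `T` times one of `C(t)`. -/
theorem stab_decomp {n : ↥(Subgroup.normalizer (T : Set G))} (h0 : hm.psi n 0 = 0) :
    ∃ x ∈ T, x⁻¹ * (n : G) ∈ Subgroup.centralizer ({t} : Set G) := by
  rw [← mkQ_one hm.hl.hMT, hm.psi_apply, mkQ_eq] at h0
  have h1 : t⁻¹ * ((n : G) * t * (n : G)⁻¹) ∈ ⁅T, T⁆ := by
    have := inv_mem h0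
    simpa [mul_assoc] using this
  obtain ⟨x, hx, hxe⟩ := (hm.hl.class_coset hm.hb (IsConj.refl t) (hm.hl.tT hm.hb)).2.1 _ h1
  rw [mul_inv_cancel_left] at hxe
  refine ⟨x, hx, Subgroup.mem_centralizer_singleton_iff.2 ?_⟩
  calc x⁻¹ * (n : G) * t = x⁻¹ * ((n : G) * t * (n : G)⁻¹) * n := by group
    _ = _ := by rw [← hxe]; group

theorem psi_T {x : G} (hx : x ∈ T) : hm.psi ⟨x, Subgroup.le_normalizer hx⟩ = 1 := by
  refine Equiv.ext fun w => ?_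
  obtain ⟨m, rfl⟩ := mkQ_surjective hm.hl.hMT w
  rw [hm.psi_apply, Equiv.Perm.one_apply, mkQ_eq]
  have htm : t * (m : G) ∈ T := mul_mem (hm.hl.tT hm.hb) (hm.hl.hMT m.2)
  have h1 := comm_mem htm hx
  rwa [show (t⁻¹ * (x * (t * (m : G)) * x⁻¹))⁻¹ * m =
    x * (t * m)⁻¹ * x⁻¹ * (t * m) by group, show x * (t * (m : G))⁻¹ * x⁻¹ * (t * m) =
    (t * (m : G))⁻¹ * (t * m * x * (t * (m : G))⁻¹ * x⁻¹) * (t * (m : G))⁻¹⁻¹ by group,
    ← Subgroup.mem_normalizer_iff.1 (normalizer_le_commutator (inv_mem (Subgroup.le_normalizer htm)))]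

/-- An element of `C(t) ∩ N(T)` acts trivially exactly when it centralises `A`. -/
theorem psi_eq_one_iff {n : ↥(Subgroup.normalizer (T : Set G))}
    (hn : (n : G) ∈ Subgroup.centralizer ({t} : Set G)) :
    hm.psi n = 1 ↔ ∀ a ∈ A, (n : G) * a * (n : G)⁻¹ = a := by
  constructor
  · intro h a ha
    refine hm.hb.trivial_of_mod hm.hl.hT hm.hl.hAT hn n.2 (fun y hy => ?_) ha
    have hnt : (n : G) * t * (n : G)⁻¹ = t := by
      rw [Subgroup.mem_centralizer_singleton_iff.1 hn, mul_inv_cancel_right]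
    have key : ∀ m ∈ M, (n : G) * m * (n : G)⁻¹ * m⁻¹ ∈ ⁅T, T⁆ := by
      intro m hmM
      have h1 := congrArg (fun e : Equiv.Perm _ => e (mkQ T M hm.hl.hMT ⟨m, hmM⟩)) h
      simp only [hm.psi_apply, Equiv.Perm.one_apply] at h1
      have h2 : (m : G)⁻¹ * (t⁻¹ * ((n : G) * (t * m) * (n : G)⁻¹)) ∈ ⁅T, T⁆ := (mkQ_eq hm.hl.hMT).1 h1.symm
      rw [show t⁻¹ * ((n : G) * (t * m) * (n : G)⁻¹) = t⁻¹ * ((n : G) * t * (n : G)⁻¹) *
        ((n : G) * m * (n : G)⁻¹) by group, hnt, inv_mul_cancel, one_mul] at h2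
      have hmT := hm.hl.hMT hmM
      rwa [Subgroup.mem_normalizer_iff.1 (normalizer_le_commutator (Subgroup.le_normalizer hmT)),
        show m * (m⁻¹ * ((n : G) * m * (n : G)⁻¹)) * m⁻¹ = (n : G) * m * (n : G)⁻¹ * m⁻¹ by group] at h2
    rcases hm.hl.mem_or hy with hyM | hyM
    · exact key y hyM
    · have hmem := hyM t (hm.hl.tT hm.hb) hm.hl.htM
      have h2 := key _ hmem
      have h3 := (Subgroup.mem_normalizer_iff.1
        (normalizer_le_commutator (Subgroup.le_normalizer (hm.hl.tT hm.hb))) _).1 h2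
      rwa [show t * ((n : G) * (t⁻¹ * y) * (n : G)⁻¹ * (t⁻¹ * y)⁻¹) * t⁻¹ =
        t * ((n : G) * t * (n : G)⁻¹)⁻¹ * ((n : G) * y * (n : G)⁻¹ * y⁻¹) by group, hnt,
        mul_inv_cancel, one_mul] at h3
  · intro h
    obtain ⟨a, ha, hy⟩ := hm.hb.inner_of_trivial hm.hl.hT hm.hl.hAT hn n.2 h
    refine Equiv.ext fun w => ?_
    obtain ⟨m, rfl⟩ := mkQ_surjective hm.hl.hMT w
    rw [← hm.psi_T (hm.hl.hAT ha), hm.psi_apply, hm.psi_apply]
    congr 1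
    refine Subtype.ext ?_
    simp only
    rw [hy _ (mul_mem (hm.hl.tT hm.hb) (hm.hl.hMT m.2))]

/-- A lift of `s`. -/
theorem exists_gen : ∃ s' : ↥(Subgroup.normalizer (T : Set G)),
    (s' : G) ∈ Subgroup.centralizer ({t} : Set G) ∧ (∀ a ∈ A, (s' : G) * a * (s' : G)⁻¹ = s * a * s⁻¹) ∧
    hm.psi s' 0 = 0 ∧ ∀ x y : Quo T M hm.hl.hMT, x ≠ 0 → y ≠ 0 → ∃ i : ℕ, (hm.psi s' ^ i) x = y := by
  obtain ⟨s', hC, hN, -, hA, htr⟩ := hm.hl.sT
  have hst : ∀ i : ℕ, s' ^ i * t * (s' ^ i)⁻¹ = t := fun i => by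
    rw [(Commute.pow_left (Subgroup.mem_centralizer_singleton_iff.1 hC) i).eq, mul_inv_cancel_right]
  refine ⟨⟨s', hN⟩, hC, hA, ?_, fun x y hx hy => ?_⟩
  · rw [← mkQ_one hm.hl.hMT, hm.psi_apply]
    congr 1
    refine Subtype.ext ?_
    have := hst 1
    rw [pow_one] at this
    simp only [Subgroup.coe_one, mul_one]
    rw [this, inv_mul_cancel]
  obtain ⟨a, rfl⟩ := mkQ_surjective hm.hl.hMT x
  obtain ⟨b, rfl⟩ := mkQ_surjective hm.hl.hMT y
  have hne : ∀ c : ↥M, mkQ T M hm.hl.hMT c ≠ 0 → (c : G) ∉ ⁅T, T⁆ := fun c hc hcD => hc (by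
    rw [← mkQ_one hm.hl.hMT, eq_comm, mkQ_eq]; simpa using hcD)
  obtain ⟨i, hi⟩ := htr a a.2 b b.2 (hne a hx) (hne b hy)
  refine ⟨i, ?_⟩
  rw [← map_pow, hm.psi_apply, mkQ_eq]
  simp only [Subgroup.coe_pow]
  rwa [show t⁻¹ * (s' ^ i * (t * (a : G)) * (s' ^ i)⁻¹) =
    t⁻¹ * (s' ^ i * t * (s' ^ i)⁻¹) * (s' ^ i * a * (s' ^ i)⁻¹) by group, hst, inv_mul_cancel, one_mul]

theorem affine {s' : ↥(Subgroup.normalizer (T : Set G))}
    (hC : (s' : G) ∈ Subgroup.centralizer ({t} : Set G))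
    (hA : ∀ a ∈ A, (s' : G) * a * (s' : G)⁻¹ = s * a * s⁻¹) (h0 : hm.psi s' 0 = 0)
    (htr : ∀ x y : Quo T M hm.hl.hMT, x ≠ 0 → y ≠ 0 → ∃ i : ℕ, (hm.psi s' ^ i) x = y) :
    Hyp hm.psi.range (hm.psi s') where
  two := hm.two
  large := by
    rw [hm.card_quo]
    have : 2 ^ 2 ≤ 2 ^ k := Nat.pow_le_pow_right two_pos hm.hb.two_le
    omega
  aff := by
    rintro _ ⟨n, rfl⟩ x y
    obtain ⟨a, rfl⟩ := mkQ_surjective hm.hl.hMT x
    obtain ⟨b, rfl⟩ := mkQ_surjective hm.hl.hMT y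
    conv_lhs => rw [← mkQ_mul, ← mkQ_one hm.hl.hMT]
    rw [hm.psi_apply, hm.psi_apply, hm.psi_apply, hm.psi_apply, ← mkQ_mul, ← mkQ_mul, mkQ_eq]
    have e1 : ∀ m : G, t⁻¹ * ((n : G) * (t * m) * (n : G)⁻¹) =
        t⁻¹ * ((n : G) * t * (n : G)⁻¹) * ((n : G) * m * (n : G)⁻¹) := fun m => by group
    simp only [Subgroup.coe_mul, Subgroup.coe_one, e1]
    set c := t⁻¹ * ((n : G) * t * (n : G)⁻¹) with hc
    set p := (n : G) * (a : G) * (n : G)⁻¹ with hp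
    set r := (n : G) * (b : G) * (n : G)⁻¹ with hr
    rw [show (n : G) * ((a : G) * b) * (n : G)⁻¹ = p * r by rw [hp, hr]; group, mul_one, mul_inv_cancel, mul_one]
    have hcT : c ∈ T := mul_mem (inv_mem (hm.hl.tT hm.hb)) ((Subgroup.mem_normalizer_iff.1 n.2 t).1 (hm.hl.tT hm.hb))
    have hpT : p ∈ T := (Subgroup.mem_normalizer_iff.1 n.2 _).1 (hm.hl.hMT a.2)
    have hrT : r ∈ T := (Subgroup.mem_normalizer_iff.1 n.2 _).1 (hm.hl.hMT b.2)
    have e : Abelianization.of (⟨c, hcT⟩ * (⟨p, hpT⟩ * ⟨r, hrT⟩) * ⟨c, hcT⟩ : ↥T) =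
        Abelianization.of (⟨c, hcT⟩ * ⟨p, hpT⟩ * (⟨c, hcT⟩ * ⟨r, hrT⟩) : ↥T) := by
      simp only [map_mul]
      simp only [mul_assoc, mul_comm, mul_left_comm]
    exact of_eq_iff.1 e
  trans := by
    intro w
    obtain ⟨m, rfl⟩ := mkQ_surjective hm.hl.hMT w
    obtain ⟨n, hn, hne⟩ := hm.hall m m.2
    refine ⟨_, ⟨⟨n, hn⟩, rfl⟩, ?_⟩
    rw [← mkQ_one hm.hl.hMT, hm.psi_apply]
    congr 1
    refine Subtype.ext ?_
    simp only [Subgroup.coe_one, mul_one, hne, inv_mul_cancel_left]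
  mem_s := ⟨s', rfl⟩
  s_zero := h0
  s_trans := htr
  norm := by
    rintro _ ⟨n, rfl⟩ hn0
    obtain ⟨x, hx, hc⟩ := hm.stab_decomp hn0
    set c : ↥(Subgroup.normalizer (T : Set G)) :=
      ⟨x⁻¹ * n, mul_mem (inv_mem (Subgroup.le_normalizer hx)) n.2⟩ with hcdef
    have hnc : hm.psi n = hm.psi c := by
      rw [show n = ⟨x, Subgroup.le_normalizer hx⟩ * c from Subtype.ext (mul_inv_cancel_left _ _).symm,
        map_mul, hm.psi_T hx, one_mul]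
    have hcA := hm.hb.mem_normalizer_A hm.hl.hT hm.hl.hAT hc c.2
    have hs'A := hm.hb.mem_normalizer_A hm.hl.hT hm.hl.hAT hC s'.2
    obtain ⟨j, hj⟩ := hm.hb.normS (c : G) hc hcA
    have hpw : ∀ i : ℕ, ∀ a ∈ A, (s' : G) ^ i * a * ((s' : G) ^ i)⁻¹ = s ^ i * a * (s ^ i)⁻¹ := by
      intro i
      induction i with
      | zero => intro a _; simp
      | succ i ih =>
        intro a ha
        have h1 : s * a * s⁻¹ ∈ A := (Subgroup.mem_normalizer_iff.1 hm.hb.sA a).1 ha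
        rw [pow_succ, pow_succ]
        calc (s' : G) ^ i * (s' : G) * a * ((s' : G) ^ i * (s' : G))⁻¹
            = (s' : G) ^ i * ((s' : G) * a * (s' : G)⁻¹) * ((s' : G) ^ i)⁻¹ := by group
          _ = s ^ i * (s * a * s⁻¹) * (s ^ i)⁻¹ := by rw [hA a ha, ih _ h1]
          _ = _ := by group
    refine ⟨j, ?_⟩
    rw [hnc, ← map_inv, ← map_mul, ← map_mul, ← map_pow, ← mul_inv_eq_one, ← map_inv, ← map_mul,
      hm.psi_eq_one_iff]
    · intro a ha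
      simp only [Subgroup.coe_mul, Subgroup.coe_inv, Subgroup.coe_pow]
      -- move `a` through the conjugates
      have h1 : ((s' : G) ^ j)⁻¹ * a * (s' : G) ^ j ∈ A := by
        have := (Subgroup.mem_normalizer_iff.1 (inv_mem (pow_mem hs'A j)) a).1 ha
        rwa [inv_inv] at this
      set b := ((s' : G) ^ j)⁻¹ * a * (s' : G) ^ j with hb
      have h2 : (c : G)⁻¹ * b * c ∈ A := by
        have := (Subgroup.mem_normalizer_iff.1 (inv_mem hcA) b).1 h1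
        rwa [inv_inv] at this
      calc (c : G) * (s' : G) * (c : G)⁻¹ * ((s' : G) ^ j)⁻¹ * a *
            ((c : G) * (s' : G) * (c : G)⁻¹ * ((s' : G) ^ j)⁻¹)⁻¹
          = (c : G) * ((s' : G) * ((c : G)⁻¹ * b * c) * (s' : G)⁻¹) * (c : G)⁻¹ := by rw [hb]; group
        _ = (c : G) * (s * ((c : G)⁻¹ * b * c) * s⁻¹) * (c : G)⁻¹ := by rw [hA _ h2]
        _ = (c : G) * s * (c : G)⁻¹ * b * ((c : G) * s * (c : G)⁻¹)⁻¹ := by group
        _ = s ^ j * b * (s ^ j)⁻¹ := hj b h1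
        _ = (s' : G) ^ j * b * ((s' : G) ^ j)⁻¹ := (hpw j b h1).symm
        _ = a := by rw [hb]; group
    · simp only [Subgroup.coe_mul, Subgroup.coe_inv, Subgroup.coe_pow]
      exact mul_mem (mul_mem (mul_mem hc hC) (inv_mem hc)) (inv_mem (pow_mem hC j))
  odd := by
    rintro _ ⟨n, rfl⟩ hn0
    obtain ⟨x, hx, hc⟩ := hm.stab_decomp hn0
    set c : ↥(Subgroup.normalizer (T : Set G)) :=
      ⟨x⁻¹ * n, mul_mem (inv_mem (Subgroup.le_normalizer hx)) n.2⟩ with hcdef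
    rw [show hm.psi n = hm.psi c by
      rw [show n = ⟨x, Subgroup.le_normalizer hx⟩ * c from Subtype.ext (mul_inv_cancel_left _ _).symm,
        map_mul, hm.psi_T hx, one_mul]]
    obtain ⟨m, hmo, hm'⟩ := hm.hb.odd_action hc (hm.hb.mem_normalizer_A hm.hl.hT hm.hl.hAT hc c.2)
    refine hmo.of_dvd_nat (orderOf_dvd_of_pow_eq_one ?_)
    rw [← map_pow, hm.psi_eq_one_iff (n := c ^ m) (by rw [Subgroup.coe_pow]; exact pow_mem hc m)]
    rw [Subgroup.coe_pow]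
    exact hm'

end Moving

end Cfsg.Agent.TimesPSLTwo
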