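import Cfsg.Agent.Lib.TimesPSLTwo.AffineField
import Cfsg.Agent.Lib.Involutions.BaerSuzuki
import Cfsg.Agent.Lib.Transfer.Fusion
import Cfsg.Agent.Lib.Characters.Burnside
import Cfsg.Prelude.Def_Solvable

/-!
Such an affine group contains all translations, unless there are exactly eight points.
-/

namespace Cfsg.Agent.TimesPSLTwo.Affine

open Cfsg.Agent

theorem orderOf_conj' {G : Type*} [Group G] (g x : G) : orderOf (g⁻¹ * x * g) = orderOf x := by
  rw [show g⁻¹ * x * g = g⁻¹ * x * g⁻¹⁻¹ by rw [inv_inv]]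
  exact (MulAut.conj g⁻¹).orderOf_eq x

theorem eq_one_of_sq_of_odd {G : Type*} [Group G] {x : G} (h2 : x * x = 1) (ho : Odd (orderOf x)) :
    x = 1 := by
  have h : orderOf x ∣ 2 := orderOf_dvd_of_pow_eq_one (by rw [pow_two, h2])
  rcases (Nat.dvd_prime Nat.prime_two).1 h with h | h
  · exact orderOf_eq_one_iff.1 h
  · rw [h] at ho; exact absurd ho (by decide)

/-- Data of the exceptional configuration. -/
structure Bad {W : Type*} [AddCommGroup W] (H : Subgroup (Equiv.Perm W)) (e : W) (k : ℕ) (σ τ : Equiv.Perm W) : Prop where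
  he : e ≠ 0
  hk : Nat.card W = 2 ^ k
  hσ : σ ∈ H01 H e
  hz : H01 H e = Subgroup.zpowers σ
  ho : orderOf σ = k
  hp : k.Prime
  hk2 : k ≠ 2
  hτ : τ ∈ H
  hoτ : orderOf τ = 2
  τ0 : τ 0 = e
  τe : τ e = 0
  hinv : τ * σ * τ⁻¹ = σ⁻¹

namespace Hyp

variable {W : Type*} [AddCommGroup W] {H : Subgroup (Equiv.Perm W)} {s : Equiv.Perm W} (hy : Hyp H s)

include hy

theorem exists_involution : ∃ u ∈ H, orderOf u = 2 := by
  have := hy.finite
  have : Fact (Nat.Prime 2) := ⟨Nat.prime_two⟩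
  obtain ⟨k, hk2, hk⟩ := hy.exists_card
  have htr : MulAction.IsPretransitive ↥H W := ⟨fun x y => by
    obtain ⟨g, hg, hgx⟩ := hy.trans x
    obtain ⟨g', hg', hgy⟩ := hy.trans y
    refine ⟨⟨g' * g⁻¹, mul_mem hg' (inv_mem hg)⟩, ?_⟩
    show (g' * g⁻¹) x = y
    rw [Equiv.Perm.mul_apply, ← hgx, inva, hgy]⟩
  have h := Subgroup.index_dvd_card (MulAction.stabilizer ↥H (0 : W))
  rw [MulAction.index_stabilizer_of_transitive, hk] at h
  obtain ⟨u, hu⟩ := exists_prime_orderOf_dvd_card' (G := ↥H) 2 ((dvd_pow_self 2 (by omega)).trans h)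
  exact ⟨u, u.2, by rw [Subgroup.orderOf_coe, hu]⟩

/-- The exceptional configuration: two points swapped by an involution inverting their stabiliser. -/
theorem exists_inverting (hno : ¬ ∀ w, tr w ∈ H) {e : W} (he : e ≠ 0) :
    ∃ σ ∈ H01 H e, ∃ τ ∈ H, σ ≠ 1 ∧ orderOf τ = 2 ∧ τ 0 = e ∧ τ e = 0 ∧ τ * σ * τ⁻¹ = σ⁻¹ := by
  have := hy.finite
  obtain ⟨u, hu, hou⟩ := hy.exists_involution
  obtain ⟨h, hh1, hho, hinv⟩ := Involutions.BaerSuzuki.exists_inverted_odd (G := ↥H) ⟨u, hu⟩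
    (by rw [Subgroup.orderOf_mk, hou]) fun N hN hN2 hmem => hno (hy.all_tr_of_normal hN2 fun hb => by
      rw [hb, Subgroup.mem_bot] at hmem
      have := congrArg orderOf hmem
      rw [Subgroup.orderOf_mk, hou, orderOf_one] at this
      omega)
  have ho1 : orderOf h ≠ 1 := fun h' => hh1 (orderOf_eq_one_iff.1 h')
  obtain ⟨p, hp, hpd⟩ := Nat.exists_prime_and_dvd ho1
  have : Fact p.Prime := ⟨hp⟩
  have hp2 : p ≠ 2 := by
    rintro rfl
    exact Nat.not_even_iff_odd.2 hho (even_iff_two_dvd.2 hpd)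
  set y : Equiv.Perm W := ((h ^ (orderOf h / p) : ↥H) : Equiv.Perm W) with hydef
  have hyH : y ∈ H := SetLike.coe_mem _
  have hoy : orderOf y = p := by
    rw [hydef, Subgroup.orderOf_coe, orderOf_pow_orderOf_div (orderOf_pos h).ne' hpd]
  have hyinv : u * y * u⁻¹ = y⁻¹ := by
    have h1 : (⟨u, hu⟩ : ↥H) * h ^ (orderOf h / p) * (⟨u, hu⟩ : ↥H)⁻¹ =
        (h ^ (orderOf h / p))⁻¹ := by rw [← conj_pow, hinv, inv_pow]
    exact congrArg Subtype.val h1
  -- a fixed point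
  have hz : IsPGroup p ↥(Subgroup.zpowers y) :=
    IsPGroup.of_card (n := 1) (by rw [Nat.card_zpowers, hoy, pow_one])
  obtain ⟨k, -, hk⟩ := hy.exists_card
  obtain ⟨a, ha⟩ := hz.nonempty_fixed_point_of_prime_not_dvd_card W (by
    rw [hk]; exact fun hd => hp2 ((Nat.prime_dvd_prime_iff_eq hp Nat.prime_two).1 (hp.dvd_of_dvd_pow hd)))
  have hya : y a = a := ha ⟨y, Subgroup.mem_zpowers y⟩
  have huu : u * u = 1 := by rw [← pow_two, ← hou, pow_orderOf_eq_one]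
  have hub : y (u a) = u a := by
    have e1 : y * u = u * y⁻¹ := by
      rw [← hyinv, ← mul_assoc, ← mul_assoc, huu, one_mul, inv_eq_of_mul_eq_one_right huu]
    have h2 : (y * u) a = (u * y⁻¹) a := by rw [e1]
    rw [Equiv.Perm.mul_apply, Equiv.Perm.mul_apply] at h2
    rw [h2]
    exact congrArg u (by conv_lhs => rw [← hya, inva])
  obtain ⟨g, hg, hg0, hge⟩ := hy.trans_two (Ne.symm (hy.involution_fpf hu hou a)) he
  refine ⟨g⁻¹ * y * g, mem_H01.2 ⟨mul_mem (mul_mem (inv_mem hg) hyH) hg, conj_apply_fix (by rw [hg0, hya]),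
    conj_apply_fix (by rw [hge, hub])⟩, g⁻¹ * u * g, mul_mem (mul_mem (inv_mem hg) hu) hg, ?_,
    by rw [orderOf_conj', hou], ?_, ?_, ?_⟩
  · intro h1
    have := orderOf_conj' g y
    rw [h1, orderOf_one, hoy] at this
    exact hp.one_lt.ne this
  · rw [Equiv.Perm.mul_apply, Equiv.Perm.mul_apply, hg0, ← hge, inva]
  · rw [Equiv.Perm.mul_apply, Equiv.Perm.mul_apply, hge, ← Equiv.Perm.mul_apply u, huu,
      Equiv.Perm.one_apply, ← hg0, inva]
  · have : g⁻¹ * u * g * (g⁻¹ * y * g) * (g⁻¹ * u * g)⁻¹ = g⁻¹ * (u * y * u⁻¹) * g := by group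
    rw [this, hyinv]; group

omit hy in
theorem commute_fix {a c : Equiv.Perm W} (hc : a * c = c * a) {x : W} (hx : a x = x) :
    a (c x) = c x := by
  rw [← Equiv.Perm.mul_apply, hc, Equiv.Perm.mul_apply, hx]

theorem fix_two {e : W} (he : e ≠ 0) {σ τ : Equiv.Perm W} (hσ : σ ∈ H01 H e) (hτ : τ ∈ H)
    (hσ1 : σ ≠ 1) (hτ0 : τ 0 = e) (hτe : τ e = 0) (hinv : τ * σ * τ⁻¹ = σ⁻¹) :
    ∀ x, σ x = x → x = 0 ∨ x = e := by
  intro x hx
  by_contra hne
  push Not at hne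
  have := hy.finite
  obtain ⟨k, -, hk⟩ := hy.exists_card
  obtain ⟨hσH, hσ0, hσe⟩ := mem_H01.1 hσ
  obtain ⟨j, hj⟩ := hy.norm σ hσH hσ0
  -- powers of `s` mapping `e` to a fixed point commute with `σ`
  have hcomm : ∀ i y, σ y = y → y ≠ 0 → (s ^ i) e = y → σ * s ^ i = s ^ i * σ := by
    intro i y hy' hy0 hi
    have h1 : σ * s ^ i * σ⁻¹ = (s ^ j) ^ i := by rw [← hj, conj_pow]
    rw [← pow_mul] at h1
    have h2 : (s ^ (j * i)) e = (s ^ i) e := by
      rw [← h1, Equiv.Perm.mul_apply, Equiv.Perm.mul_apply,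
        show σ⁻¹ e = e by conv_lhs => rw [← hσe, inva], hi, hy']
    have h3 : s ^ (j * i) = s ^ i := by
      ext z
      by_cases hz : z = 0
      · rw [hz, hy.s_pow_zero, hy.s_pow_zero]
      obtain ⟨l, rfl⟩ := hy.s_trans e z he hz
      rw [← Equiv.Perm.mul_apply, ← pow_add, add_comm, pow_add, Equiv.Perm.mul_apply, h2,
        ← Equiv.Perm.mul_apply, ← pow_add, add_comm, pow_add, Equiv.Perm.mul_apply]
    exact mul_inv_eq_iff_eq_mul.1 (h1.trans h3)
  obtain ⟨i0, hi0⟩ := hy.s_trans e x he hne.1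
  -- some element centralising `σ` moves `0`
  obtain ⟨c0, hc0H, hc0c, hc00⟩ : ∃ c ∈ H, σ * c = c * σ ∧ c 0 ≠ 0 := by
    by_contra h
    push Not at h
    have hc := hcomm i0 x hx hne.1 hi0
    set d := τ⁻¹ * s ^ i0 * τ with hd
    have e1 : τ⁻¹ * σ * τ = σ⁻¹ := by
      have : σ = τ⁻¹ * σ⁻¹ * τ := by rw [← hinv]; group
      conv_rhs => rw [this]
      group
    have hdc : σ * d = d * σ := by
      have h2 : (τ⁻¹ * σ * τ) * d = d * (τ⁻¹ * σ * τ) := by
        rw [hd, show τ⁻¹ * σ * τ * (τ⁻¹ * s ^ i0 * τ) = τ⁻¹ * (σ * s ^ i0) * τ by group, hc]; group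
      rw [e1] at h2
      exact (Commute.inv_left_iff.1 h2 : Commute σ d).eq
    have h3 := h d (mul_mem (mul_mem (inv_mem hτ) (hy.s_pow_mem i0)) hτ) hdc
    rw [hd, Equiv.Perm.mul_apply, Equiv.Perm.mul_apply, hτ0, hi0] at h3
    exact hne.2 ((Equiv.Perm.inv_eq_iff_eq.1 h3).trans hτ0)
  -- adjust to map `0` to `e`
  have hy1 : σ (c0 0) = c0 0 := commute_fix hc0c hσ0
  obtain ⟨l, hl⟩ := hy.s_trans e (c0 0) he hc00
  have hlc := hcomm l _ hy1 hc00 hl
  set c1 := (s ^ l)⁻¹ * c0 with hc1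
  have hc1c : σ * c1 = c1 * σ := ((Commute.inv_right hlc).mul_right hc0c).eq
  have hc1H : c1 ∈ H := mul_mem (inv_mem (hy.s_pow_mem l)) hc0H
  have hc10 : c1 0 = e := by rw [hc1, Equiv.Perm.mul_apply, ← hl, inva]
  -- adjust to map `e` to `0`
  have hfe : σ (c1 e) = c1 e := commute_fix hc1c hσe
  have hc1i : σ * c1⁻¹ = c1⁻¹ * σ := (Commute.inv_right hc1c).eq
  set p := c1⁻¹ (c1 e) with hp
  set r := c1⁻¹ 0 with hr
  have hpe : p = e := inva _ _
  have hr0 : r ≠ 0 := fun h0 => he (by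
    have h5 := ainv c1 (0 : W)
    rw [← hr, h0, hc10] at h5
    exact h5)
  have hrfix : σ r = r := commute_fix hc1i hσ0
  obtain ⟨m, hm⟩ := hy.s_trans e r he hr0
  have hmc := hcomm m r hrfix hr0 hm
  set c2 := c1 * s ^ m * c1⁻¹ * c1 with hc2
  have hc2c : σ * c2 = c2 * σ :=
    (((Commute.mul_right hc1c hmc).mul_right hc1i).mul_right hc1c).eq
  have hc20 : c2 0 = e := by
    rw [hc2, inv_mul_cancel_right, Equiv.Perm.mul_apply, hy.s_pow_zero, hc10]
  have hc2e : c2 e = 0 := by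
    rw [hc2, inv_mul_cancel_right, Equiv.Perm.mul_apply, hm, hr, ainv]
  have hc2H : c2 ∈ H := by
    rw [hc2, inv_mul_cancel_right]; exact mul_mem hc1H (hy.s_pow_mem m)
  have hf : τ * c2 ∈ H01 H e := mem_H01.2 ⟨mul_mem hτ hc2H, by
    rw [Equiv.Perm.mul_apply, hc20, hτe], by rw [Equiv.Perm.mul_apply, hc2e, hτ0]⟩
  have h4 : σ * (τ * c2) = (τ * c2) * σ := (hy.two_point hk he σ hσ).1 _ hf
  have h5 : σ * τ = τ * σ := by
    have : σ * τ * c2 = τ * σ * c2 := by rw [mul_assoc, h4, mul_assoc, ← hc2c, mul_assoc]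
    exact mul_right_cancel this
  rw [← h5, mul_inv_cancel_right] at hinv
  exact hσ1 (eq_one_of_sq_of_odd (by nth_rewrite 2 [hinv]; exact mul_inv_cancel σ)
    (hy.odd σ hσH hσ0))

theorem exists_bad (hno : ¬ ∀ w, tr w ∈ H) : ∃ e k σ τ, Bad H e k σ τ := by
  have := hy.finite
  obtain ⟨e, he⟩ := hy.exists_ne_zero
  obtain ⟨k, hk2, hk⟩ := hy.exists_card
  obtain ⟨σ, hσ, τ, hτ, hσ1, hoτ, τ0, τe, hinv⟩ := hy.exists_inverting hno he
  have hfix := hy.fix_two he hσ hτ hσ1 τ0 τe hinv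
  obtain ⟨hz, ho⟩ := (hy.two_point hk he σ hσ).2 hfix
  have hodd : Odd k := ho ▸ hy.odd σ (mem_H01.1 hσ).1 (mem_H01.1 hσ).2.1
  refine ⟨e, k, σ, τ, he, hk, hσ, hz, ho, ?_, fun h => by rw [h] at hodd; exact absurd hodd (by decide),
    hτ, hoτ, τ0, τe, hinv⟩
  have hk1 : k ≠ 1 := by omega
  obtain ⟨p, hp, ⟨c, hc⟩⟩ := Nat.exists_prime_and_dvd hk1
  -- a power of order `p` is again in the configuration
  have hpc : orderOf (σ ^ c) = p := by
    rw [orderOf_pow_of_dvd (by rintro rfl; simp at hc; omega) (ho ▸ Dvd.intro_left _ hc.symm), ho, hc,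
      Nat.mul_div_cancel _ (Nat.pos_of_ne_zero (by rintro rfl; simp at hc; omega))]
  have hm : σ ^ c ∈ H01 H e := pow_mem hσ c
  have hfix' := hy.fix_two he hm hτ
    (fun h => hp.one_lt.ne (by rw [← hpc, h, orderOf_one])) τ0 τe (by rw [← conj_pow, hinv, inv_pow])
  obtain ⟨-, ho'⟩ := (hy.two_point hk he _ hm).2 hfix'
  rw [← ho', hpc]
  exact hp

end Hyp


namespace Bad

variable {W : Type*} [AddCommGroup W] {H : Subgroup (Equiv.Perm W)} {s : Equiv.Perm W} {e : W}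
  {k : ℕ} {σ τ : Equiv.Perm W} (hy : Hyp H s) (b : Bad H e k σ τ)

include hy b

omit hy in
theorem three_le : 3 ≤ k := by have := b.hp.two_le; have := b.hk2; omega

theorem card_H : Nat.card ↥H = 2 ^ k * ((2 ^ k - 1) * k) := by
  have := hy.finite
  have htr : MulAction.IsPretransitive ↥H W := ⟨fun x y => by
    obtain ⟨g, hg, hgx⟩ := hy.trans x
    obtain ⟨g', hg', hgy⟩ := hy.trans y
    refine ⟨⟨g' * g⁻¹, mul_mem hg' (inv_mem hg)⟩, ?_⟩
    show (g' * g⁻¹) x = y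
    rw [Equiv.Perm.mul_apply, ← hgx, inva, hgy]⟩
  set K := MulAction.stabilizer ↥H (0 : W)
  have h1 := K.card_mul_index
  rw [MulAction.index_stabilizer_of_transitive, b.hk] at h1
  have h2 := (MulAction.stabilizer ↥K e).card_mul_index
  have hA : Nat.card ↥(MulAction.stabilizer ↥K e) = k := by
    rw [← b.ho, ← Nat.card_zpowers σ, ← b.hz]
    refine Nat.card_congr
      { toFun := fun x => ⟨((x : ↥K) : ↥H), mem_H01.2 ⟨((x : ↥K) : ↥H).2, (x : ↥K).2, x.2⟩⟩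
        invFun := fun x => ⟨⟨⟨x, (mem_H01.1 x.2).1⟩, (mem_H01.1 x.2).2.1⟩, (mem_H01.1 x.2).2.2⟩
        left_inv := fun x => rfl
        right_inv := fun x => rfl }
  have hB : (MulAction.stabilizer ↥K e).index = 2 ^ k - 1 := by
    rw [MulAction.index_stabilizer, show MulAction.orbit ↥K e = ({0} : Set W)ᶜ from ?_,
      Set.ncard_compl, Set.ncard_singleton, b.hk]
    ext x
    constructor
    · rintro ⟨g, rfl⟩ h0
      exact b.he (((g : ↥H) : Equiv.Perm W).injective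
        ((Set.mem_singleton_iff.1 h0).trans g.2.symm))
    · intro hx
      obtain ⟨i, rfl⟩ := hy.s_trans e x b.he hx
      exact ⟨⟨⟨s ^ i, hy.s_pow_mem i⟩, hy.s_pow_zero i⟩, rfl⟩
  rw [hA, hB] at h2
  rw [← h1, ← h2]; ring

omit hy b in
theorem inverted_fix_one {σ u c : Equiv.Perm W} (hσ : u * σ * u⁻¹ = σ⁻¹) (hc : c ∈ Subgroup.zpowers σ)
    (hcu : c * u = u * c) : c * c = 1 := by
  obtain ⟨i, rfl⟩ := hc
  have h1 : u * σ ^ i * u⁻¹ = (σ ^ i)⁻¹ := by rw [← conj_zpow, hσ, inv_zpow]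
  rw [← hcu, mul_inv_cancel_right] at h1
  calc σ ^ i * σ ^ i = σ ^ i * (σ ^ i)⁻¹ := by rw [← h1]
    _ = 1 := mul_inv_cancel _

theorem half (i : ℤ) : ∃ l : ℤ, σ ^ (2 * l) = σ ^ i := by
  have hodd : Odd k := b.hp.odd_of_ne_two b.hk2
  obtain ⟨m, hm⟩ := hodd
  refine ⟨i * (m + 1), ?_⟩
  rw [show (2 : ℤ) * (i * (m + 1)) = i + i * ((k : ℤ)) by rw [hm]; push_cast; ring, zpow_add,
    mul_comm i (k : ℤ), zpow_mul, zpow_natCast, ← b.ho, pow_orderOf_eq_one, one_zpow, mul_one]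

/-- Every involution is conjugate to `τ`. -/
theorem involution_conj {u : Equiv.Perm W} (hu : u ∈ H) (hou : orderOf u = 2) :
    ∃ g ∈ H, g⁻¹ * u * g = τ := by
  obtain ⟨g, hg, hg0, hge⟩ := hy.trans_two (Ne.symm (hy.involution_fpf hu hou 0)) b.he
  have huu : u * u = 1 := by rw [← pow_two, ← hou, pow_orderOf_eq_one]
  set v := g⁻¹ * u * g with hv
  have hv0 : v 0 = e := by rw [hv, Equiv.Perm.mul_apply, Equiv.Perm.mul_apply, hg0, ← hge, inva]
  have hve : v e = 0 := by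
    rw [hv, Equiv.Perm.mul_apply, Equiv.Perm.mul_apply, hge, ← Equiv.Perm.mul_apply u, huu,
      Equiv.Perm.one_apply]
    conv_lhs => rw [← hg0, inva]
  have hm : τ * v ∈ H01 H e := mem_H01.2 ⟨mul_mem b.hτ (mul_mem (mul_mem (inv_mem hg) hu) hg),
    by rw [Equiv.Perm.mul_apply, hv0, b.τe], by rw [Equiv.Perm.mul_apply, hve, b.τ0]⟩
  rw [b.hz] at hm
  obtain ⟨i, hi⟩ := hm
  simp only at hi
  obtain ⟨l, hl⟩ := half hy b i
  have hττ : τ * τ = 1 := by rw [← pow_two, ← b.hoτ, pow_orderOf_eq_one]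
  have hvv : v = τ * σ ^ i := by rw [hi, ← mul_assoc, hττ, one_mul]
  refine ⟨g * σ ^ (-l), mul_mem hg (zpow_mem (mem_H01.1 b.hσ).1 _), ?_⟩
  have h1 : τ * σ ^ (-l) * τ⁻¹ = σ ^ l := by rw [← conj_zpow, b.hinv, inv_zpow, zpow_neg, inv_inv]
  have h2 : σ ^ l * τ = τ * σ ^ (-l) := by rw [← h1, inv_mul_cancel_right]
  calc (g * σ ^ (-l))⁻¹ * u * (g * σ ^ (-l)) = σ ^ l * v * σ ^ (-l) := by
        rw [hv, zpow_neg]; group
    _ = σ ^ l * τ * (σ ^ i * σ ^ (-l)) := by rw [hvv]; group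
    _ = τ * (σ ^ (-l) * (σ ^ i * σ ^ (-l))) := by rw [h2, mul_assoc]
    _ = τ := by
        rw [← zpow_add, ← zpow_add, show -l + (i + -l) = i + (-(2 * l)) by ring, zpow_add, ← hl,
          zpow_neg, mul_inv_cancel, mul_one]

/-- Only the identity commutes with an involution and fixes a point. -/
theorem commute_fixed {u c : Equiv.Perm W} (hu : u ∈ H) (hou : orderOf u = 2) (hc : c ∈ H)
    (hcu : c * u = u * c) {a : W} (ha : c a = a) : c = 1 := by
  have hca : c (u a) = u a := Hyp.commute_fix hcu ha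
  obtain ⟨g, hg, hg0, hge⟩ := hy.trans_two (Ne.symm (hy.involution_fpf hu hou a)) b.he
  have huu : u * u = 1 := by rw [← pow_two, ← hou, pow_orderOf_eq_one]
  set v := g⁻¹ * u * g with hv
  set d := g⁻¹ * c * g with hd
  have hdH : d ∈ H := mul_mem (mul_mem (inv_mem hg) hc) hg
  have hd01 : d ∈ H01 H e := mem_H01.2 ⟨hdH, Hyp.conj_apply_fix (by rw [hg0, ha]),
    Hyp.conj_apply_fix (by rw [hge, hca])⟩
  have hv0 : v 0 = e := by rw [hv, Equiv.Perm.mul_apply, Equiv.Perm.mul_apply, hg0, ← hge, inva]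
  have hve : v e = 0 := by
    rw [hv, Equiv.Perm.mul_apply, Equiv.Perm.mul_apply, hge, ← Equiv.Perm.mul_apply u, huu,
      Equiv.Perm.one_apply]
    conv_lhs => rw [← hg0, inva]
  have hw : τ * v ∈ H01 H e := mem_H01.2 ⟨mul_mem b.hτ (mul_mem (mul_mem (inv_mem hg) hu) hg),
    by rw [Equiv.Perm.mul_apply, hv0, b.τe], by rw [Equiv.Perm.mul_apply, hve, b.τ0]⟩
  rw [b.hz] at hd01 hw
  have hdv : d * v = v * d := by rw [hd, hv]; simp only [mul_assoc, mul_inv_cancel_left]; rw [← mul_assoc c, hcu, mul_assoc]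
  have hdτ : d * τ = τ * d := by
    have hcomm : d * (τ * v) = τ * v * d := by
      obtain ⟨i, hi⟩ := hd01
      obtain ⟨j, hj⟩ := hw
      rw [← hi, ← hj]
      exact ((Commute.refl σ).zpow_zpow i j).eq
    have h3 : d * τ * v = τ * d * v := by
      rw [mul_assoc, hcomm, mul_assoc τ v d, ← hdv, mul_assoc τ d v]
    exact mul_right_cancel h3
  have h1 := eq_one_of_sq_of_odd (inverted_fix_one b.hinv hd01 hdτ)
    (hy.odd d hdH (Hyp.conj_apply_fix (by rw [hg0, ha])))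
  rw [hd] at h1
  calc c = g * (g⁻¹ * c * g) * g⁻¹ := by group
    _ = 1 := by rw [h1, mul_one, mul_inv_cancel]

theorem card_centralizer_le {u : Equiv.Perm W} (hu : u ∈ H) (hou : orderOf u = 2) :
    Nat.card ↥(H ⊓ Subgroup.centralizer ({u} : Set (Equiv.Perm W))) ≤ 2 ^ k := by
  have := hy.finite
  rw [← b.hk]
  refine Nat.card_le_card_of_injective (fun c => (c : Equiv.Perm W) 0) fun c d hcd => Subtype.ext ?_
  have hm : (c : Equiv.Perm W)⁻¹ * (d : Equiv.Perm W) ∈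
      H ⊓ Subgroup.centralizer ({u} : Set (Equiv.Perm W)) := mul_mem (inv_mem c.2) d.2
  have h1 := commute_fixed hy b hu hou hm.1 (Subgroup.mem_centralizer_singleton_iff.1 hm.2)
    (a := 0) (by simp only at hcd; rw [Equiv.Perm.mul_apply, ← hcd, inva])
  exact inv_mul_eq_one.1 h1

end Bad

end Cfsg.Agent.TimesPSLTwo.Affine
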