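import Mathlib

/-!
Transitive groups of affine permutations of an elementary abelian 2-group whose point stabiliser
normalises a cyclic group that is transitive on the non-zero points.
-/

namespace Cfsg.Agent.TimesPSLTwo.Affine

variable {W : Type*} [AddCommGroup W]

/-- The linear part of a permutation. -/
def lin (h : Equiv.Perm W) (x : W) : W := h x + h 0

/-- The translation by `w`. -/
def tr (w : W) : Equiv.Perm W := Equiv.addRight w

theorem tr_apply (w x : W) : tr w x = x + w := rfl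

theorem ainv {α : Type*} (h : Equiv.Perm α) (x : α) : h (h⁻¹ x) = x := Equiv.apply_symm_apply h x

theorem inva {α : Type*} (h : Equiv.Perm α) (x : α) : h⁻¹ (h x) = x := Equiv.symm_apply_apply h x

structure Hyp (H : Subgroup (Equiv.Perm W)) (s : Equiv.Perm W) : Prop where
  two : ∀ w : W, w + w = 0
  large : 2 < Nat.card W
  aff : ∀ h ∈ H, ∀ x y, h (x + y) + h 0 = h x + h y
  trans : ∀ w : W, ∃ h ∈ H, h 0 = w
  mem_s : s ∈ H
  s_zero : s 0 = 0
  s_trans : ∀ x y : W, x ≠ 0 → y ≠ 0 → ∃ i : ℕ, (s ^ i) x = y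
  norm : ∀ h ∈ H, h 0 = 0 → ∃ j : ℕ, h * s * h⁻¹ = s ^ j
  odd : ∀ h ∈ H, h 0 = 0 → Odd (orderOf h)

namespace Hyp

variable {H : Subgroup (Equiv.Perm W)} {s : Equiv.Perm W} (hy : Hyp H s)

include hy

theorem eq_of_add_eq_zero {a b : W} (h : a + b = 0) : a = b := by
  rw [← add_zero a, ← hy.two b, ← add_assoc, h, zero_add]

theorem add_cancel (a b : W) : a + b + b = a := by rw [add_assoc, hy.two, add_zero]

theorem apply_eq_lin {h : Equiv.Perm W} (x : W) : h x = lin h x + h 0 := (hy.add_cancel _ _).symm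

theorem lin_add {h : Equiv.Perm W} (hh : h ∈ H) (x y : W) : lin h (x + y) = lin h x + lin h y := by
  unfold lin
  rw [hy.aff h hh x y, show h x + h 0 + (h y + h 0) = h x + h y + (h 0 + h 0) by abel, hy.two, add_zero]

theorem apply_add {h : Equiv.Perm W} (hh : h ∈ H) (h0 : h 0 = 0) (x y : W) :
    h (x + y) = h x + h y := by
  have := hy.aff h hh x y
  rwa [h0, add_zero] at this

theorem lin_zero (h : Equiv.Perm W) : lin h 0 = 0 := hy.two _

theorem lin_eq_self {h : Equiv.Perm W} (h0 : h 0 = 0) (x : W) : lin h x = h x := by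
  rw [lin, h0, add_zero]

theorem lin_mul {g h : Equiv.Perm W} (hg : g ∈ H) (x : W) : lin (g * h) x = lin g (lin h x) := by
  unfold lin
  have := hy.aff g hg (h x) (h 0)
  rw [Equiv.Perm.mul_apply, Equiv.Perm.mul_apply, ← this]

theorem lin_one (x : W) : lin (1 : Equiv.Perm W) x = x := by simp [lin]

theorem lin_inj {h : Equiv.Perm W} {x y : W} (he : lin h x = lin h y) : x = y :=
  h.injective (add_right_cancel he)

theorem s_pow_zero (i : ℕ) : (s ^ i) 0 = 0 := by
  induction i with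
  | zero => rfl
  | succ n ih => rw [pow_succ, Equiv.Perm.mul_apply, hy.s_zero, ih]

theorem s_pow_mem (i : ℕ) : s ^ i ∈ H := pow_mem hy.mem_s i

theorem inv_zero {h : Equiv.Perm W} (h0 : h 0 = 0) : h⁻¹ 0 = 0 :=
  h.injective (by rw [ainv, h0])

/-- `s` is regular: a power fixing a non-zero point is trivial. -/
theorem s_regular {i : ℕ} {x : W} (hx : x ≠ 0) (h : (s ^ i) x = x) : s ^ i = 1 := by
  ext y
  by_cases hy0 : y = 0
  · rw [hy0, hy.s_pow_zero]; rfl
  · obtain ⟨j, rfl⟩ := hy.s_trans x y hx hy0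
    rw [← Equiv.Perm.mul_apply, ← pow_add, add_comm, pow_add, Equiv.Perm.mul_apply, h]
    rfl

theorem s_apply_ne {x : W} (hx : x ≠ 0) (i : ℕ) : (s ^ i) x ≠ 0 := fun h =>
  hx ((s ^ i).injective (h.trans (hy.s_pow_zero i).symm))

theorem trans_two {a b : W} (hab : a ≠ b) {e : W} (he : e ≠ 0) :
    ∃ g ∈ H, g 0 = a ∧ g e = b := by
  obtain ⟨g, hg, hga⟩ := hy.trans a
  have hx : g⁻¹ b ≠ 0 := fun h => hab (by rw [← hga, ← h, ainv])
  obtain ⟨i, hi⟩ := hy.s_trans e _ he hx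
  refine ⟨g * s ^ i, mul_mem hg (hy.s_pow_mem i), ?_, ?_⟩
  · rw [Equiv.Perm.mul_apply, hy.s_pow_zero, hga]
  · rw [Equiv.Perm.mul_apply, hi, ainv]

omit hy in
theorem conj_apply_fix {g h : Equiv.Perm W} {a : W} (h1 : h (g a) = g a) : (g⁻¹ * h * g) a = a := by
  rw [Equiv.Perm.mul_apply, Equiv.Perm.mul_apply, h1, inva]

theorem odd_of_fixed {h : Equiv.Perm W} (hh : h ∈ H) {a : W} (ha : h a = a) : Odd (orderOf h) := by
  obtain ⟨g, hg, hga⟩ := hy.trans a
  have h1 : (g⁻¹ * h * g) 0 = 0 := conj_apply_fix (by rw [hga, ha])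
  have h2 := hy.odd _ (mul_mem (mul_mem (inv_mem hg) hh) hg) h1
  rwa [show g⁻¹ * h * g = g⁻¹ * h * g⁻¹⁻¹ by rw [inv_inv],
    show orderOf (g⁻¹ * h * g⁻¹⁻¹) = orderOf h from (MulAut.conj g⁻¹).orderOf_eq h] at h2

theorem involution_fpf {u : Equiv.Perm W} (hu : u ∈ H) (ho : orderOf u = 2) (a : W) : u a ≠ a :=
  fun h => by have := hy.odd_of_fixed hu h; rw [ho] at this; exact absurd this (by decide)

theorem tr_conj {h : Equiv.Perm W} (hh : h ∈ H) (h0 : h 0 = 0) (w : W) :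
    h * tr w * h⁻¹ = tr (h w) := by
  ext x
  rw [Equiv.Perm.mul_apply, Equiv.Perm.mul_apply, tr_apply, hy.apply_add hh h0, ainv]
  rfl

omit hy in
theorem tr_zero : tr (0 : W) = 1 := by ext x; simp [tr_apply]

theorem all_tr_of_one {w : W} (hw : w ≠ 0) (h : tr w ∈ H) : ∀ v, tr v ∈ H := by
  intro v
  by_cases hv : v = 0
  · rw [hv, tr_zero]; exact one_mem _
  · obtain ⟨i, rfl⟩ := hy.s_trans w v hw hv
    rw [← hy.tr_conj (hy.s_pow_mem i) (hy.s_pow_zero i) w]
    exact mul_mem (mul_mem (hy.s_pow_mem i) h) (inv_mem (hy.s_pow_mem i))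

theorem exists_ne_zero : ∃ e : W, e ≠ 0 := by
  have : Finite W := Nat.finite_of_card_ne_zero (by have := hy.large; omega)
  have : Nontrivial W := Finite.one_lt_card_iff_nontrivial.1 (by have := hy.large; omega)
  exact exists_ne 0

theorem finite : Finite W := Nat.finite_of_card_ne_zero (by have := hy.large; omega)

theorem exists_card : ∃ k, 2 ≤ k ∧ Nat.card W = 2 ^ k := by
  have := hy.finite
  have hp : IsPGroup 2 (Multiplicative W) := fun x => ⟨1, by
    rw [pow_one, pow_two]; exact congrArg Multiplicative.ofAdd (hy.two x.toAdd)⟩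
  obtain ⟨k, hk⟩ := IsPGroup.iff_card.1 hp
  rw [Nat.card_congr Multiplicative.toAdd] at hk
  refine ⟨k, ?_, hk⟩
  have := hy.large
  rcases k with _ | _ | k <;> simp_all

/-- A normal 2-subgroup consists of translations. -/
theorem all_tr_of_normal {N : Subgroup ↥H} [N.Normal] (hN : IsPGroup 2 N) (hne : N ≠ ⊥) :
    ∀ v, tr v ∈ H := by
  have := hy.finite
  have : Fact (Nat.Prime 2) := ⟨Nat.prime_two⟩
  let _ : MulAction ↥N W :=
    { smul := fun n x => lin ((n : ↥H) : Equiv.Perm W) x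
      one_smul := fun x => hy.lin_one x
      mul_smul := fun a b x => hy.lin_mul (a : ↥H).2 x }
  obtain ⟨k, hk2, hk⟩ := hy.exists_card
  have h0 : (0 : W) ∈ MulAction.fixedPoints ↥N W := fun n => hy.lin_zero _
  obtain ⟨v, hv, hv0⟩ := hN.exists_fixed_point_of_prime_dvd_card_of_fixed_point W
    (hk ▸ dvd_pow_self 2 (by omega)) h0
  have hall : ∀ n : ↥N, ∀ x, lin ((n : ↥H) : Equiv.Perm W) x = x := by
    intro n x
    by_cases hx : x = 0
    · rw [hx, hy.lin_zero]
    obtain ⟨i, rfl⟩ := hy.s_trans v x (Ne.symm hv0) hx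
    let c : ↥H := ⟨s ^ i, hy.s_pow_mem i⟩
    have hm : c⁻¹ * (n : ↥H) * c⁻¹⁻¹ ∈ N := ‹N.Normal›.conj_mem _ n.2 _
    have e : ((n : ↥H) : Equiv.Perm W) * s ^ i =
        s ^ i * ((c⁻¹ * (n : ↥H) * c⁻¹⁻¹ : ↥H) : Equiv.Perm W) := by
      simp only [Subgroup.coe_mul, Subgroup.coe_inv, inv_inv, c]; group
    rw [← hy.lin_eq_self (hy.s_pow_zero i) v, ← hy.lin_mul (n : ↥H).2, e,
      hy.lin_mul (hy.s_pow_mem i), show lin _ v = v from hv ⟨_, hm⟩]
  obtain ⟨n, hn, hn1⟩ := N.bot_or_exists_ne_one.resolve_left hne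
  have htr : (n : Equiv.Perm W) = tr ((n : Equiv.Perm W) 0) := by
    ext x
    rw [tr_apply, hy.apply_eq_lin x, hall ⟨n, hn⟩]
  refine hy.all_tr_of_one (w := (n : Equiv.Perm W) 0) (fun h => hn1 (Subtype.ext ?_)) (htr ▸ n.2)
  rw [htr, h, tr_zero]; rfl

end Hyp

end Cfsg.Agent.TimesPSLTwo.Affine
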