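import Cfsg.Agent.Lib.TimesPSLTwo.AffineBasic

/-!
The field attached to the transitive cyclic group, and the two point stabiliser.
-/

namespace Cfsg.Agent.TimesPSLTwo.Affine

/-- A ring automorphism group of a finite field of characteristic two is cyclic. -/
theorem galois_facts {E : Type*} [Field E] [Finite E] [Algebra (ZMod 2) E]
    (a b : E ≃ₐ[ZMod 2] E) : a * b = b * a ∧ ((∀ x, a x = x → x = 0 ∨ x = 1) →
      Subgroup.zpowers a = ⊤ ∧ orderOf a = Module.finrank (ZMod 2) E) := by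
  have : IsCyclic (E ≃ₐ[ZMod 2] E) := inferInstance
  refine ⟨(IsCyclic.isMulCommutative (α := E ≃ₐ[ZMod 2] E)).is_comm.comm a b, fun h => ?_⟩
  have hfix : IntermediateField.fixedField (Subgroup.zpowers a) = ⊥ := by
    refine eq_bot_iff.2 fun x hx => ?_
    rcases h x (hx ⟨a, Subgroup.mem_zpowers a⟩) with rfl | rfl
    · exact zero_mem _
    · exact one_mem _
  have hz : Subgroup.zpowers a = ⊤ := by
    rw [← IntermediateField.fixingSubgroup_fixedField (Subgroup.zpowers a), hfix,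
      IntermediateField.fixingSubgroup_bot]
  refine ⟨hz, ?_⟩
  rw [← Nat.card_zpowers, hz, Subgroup.card_top, IsGalois.card_aut_eq_finrank]

variable {W : Type*} [AddCommGroup W] {H : Subgroup (Equiv.Perm W)} {s : Equiv.Perm W}

/-- The stabiliser of `0` and `e`. -/
def H01 (H : Subgroup (Equiv.Perm W)) (e : W) : Subgroup (Equiv.Perm W) :=
  H ⊓ MulAction.stabilizer (Equiv.Perm W) (0 : W) ⊓ MulAction.stabilizer (Equiv.Perm W) e

theorem mem_H01 {e : W} {h : Equiv.Perm W} : h ∈ H01 H e ↔ h ∈ H ∧ h 0 = 0 ∧ h e = e := by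
  simp [H01, MulAction.mem_stabilizer_iff, and_assoc]

/-- The non-zero points carry a field structure for which `H01` acts by ring automorphisms. -/
structure FieldModel (H : Subgroup (Equiv.Perm W)) (e : W) (E : Type*) [CommRing E] where
  ev : E →+ W
  bij : Function.Bijective ev
  one : ev 1 = e
  domain : IsDomain E
  mul : ∀ h ∈ H01 H e, ∀ a b c d : E, h (ev a) = ev c → h (ev b) = ev d → h (ev (a * b)) = ev (c * d)

theorem Hyp.exists_ring (hy : Hyp H s) {e : W} (he : e ≠ 0) :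
    ∃ (E : Subring (AddMonoid.End W)) (hE : ∀ a b : ↥E, a * b = b * a),
      Nonempty (@FieldModel _ _ H e ↥E { E.toRing with mul_comm := hE }) := by
  classical
  have hfin := hy.finite
  let S : AddMonoid.End W := AddMonoidHom.mk' s (hy.apply_add hy.mem_s hy.s_zero)
  have hSpow : ∀ (i : ℕ) (x : W), (S ^ i) x = (s ^ i) x := by
    intro i
    induction i with
    | zero => exact fun x => rfl
    | succ n ih =>
      intro x
      rw [pow_succ, pow_succ, Equiv.Perm.mul_apply, ← ih]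
      rfl
  let E : Subring (AddMonoid.End W) := Subring.closure {S}
  have hSE : ∀ i : ℕ, S ^ i ∈ E := fun i => pow_mem (Subring.subset_closure (Set.mem_singleton S)) i
  have hcomm : ∀ r ∈ E, ∀ r' ∈ E, r * r' = r' * r := by
    intro r hr r' hr'
    have h1 : E ≤ Subring.centralizer {S} := Subring.closure_le.2 fun x hx => by
      rw [Set.mem_singleton_iff] at hx; subst hx
      exact fun g hg => by rw [Set.mem_singleton_iff] at hg; rw [hg]
    have h2 : E ≤ Subring.centralizer {r'} := Subring.closure_le.2 fun x hx => by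
      rw [Set.mem_singleton_iff] at hx; subst hx
      exact fun g hg => by
        rw [Set.mem_singleton_iff] at hg; subst hg
        exact (h1 hr' S (Set.mem_singleton S)).symm
    exact (h2 hr r' (Set.mem_singleton r')).symm
  refine ⟨E, fun a b => Subtype.ext (hcomm _ a.2 _ b.2), ?_⟩
  have hsx : ∀ r ∈ E, ∀ (i : ℕ) (x : W), r ((s ^ i) x) = (s ^ i) (r x) := by
    intro r hr i x
    rw [← hSpow, ← hSpow]
    exact DFunLike.congr_fun (hcomm r hr (S ^ i) (hSE i)) x
  have hzero : ∀ r ∈ E, r e = 0 → r = 0 := by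
    intro r hr h
    refine DFunLike.ext _ _ fun x => ?_
    by_cases hx : x = 0
    · rw [hx]; exact map_zero r
    · obtain ⟨i, rfl⟩ := hy.s_trans e x he hx
      rw [hsx r hr, h, hy.s_pow_zero]; rfl
  let ev : ↥E →+ W := AddMonoidHom.mk' (fun r => (r : AddMonoid.End W) e) fun _ _ => rfl
  have hinj : ∀ a b : ↥E, (a : AddMonoid.End W) e = (b : AddMonoid.End W) e → a = b := fun a b h =>
    Subtype.ext (sub_eq_zero.1 (hzero _ (sub_mem a.2 b.2) (sub_eq_zero.2 h)))
  have hev : Function.Bijective ev := by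
    refine ⟨hinj, fun x => ?_⟩
    by_cases hx : x = 0
    · exact ⟨0, by rw [hx, map_zero]⟩
    · obtain ⟨i, rfl⟩ := hy.s_trans e x he hx
      exact ⟨⟨S ^ i, hSE i⟩, hSpow i e⟩
  -- conjugation by an element of `H01`
  have hsemi : ∀ h ∈ H01 H e, ∀ r ∈ E, ∃ r' ∈ E, ∀ x, h (r x) = r' (h x) := by
    intro h hh r hr
    obtain ⟨hH, h0, -⟩ := mem_H01.1 hh
    induction hr using Subring.closure_induction with
    | mem x hx =>
      rw [Set.mem_singleton_iff] at hx; subst hx
      obtain ⟨j, hj⟩ := hy.norm _ hH h0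
      refine ⟨S ^ j, hSE j, fun x => ?_⟩
      rw [hSpow, ← hj, Equiv.Perm.mul_apply, Equiv.Perm.mul_apply, inva]
      rfl
    | zero => exact ⟨0, zero_mem _, fun x => h0⟩
    | one => exact ⟨1, one_mem _, fun x => rfl⟩
    | add x y _ _ hx hy' =>
      obtain ⟨x', hx', hxe⟩ := hx
      obtain ⟨y', hy'', hye⟩ := hy'
      refine ⟨x' + y', add_mem hx' hy'', fun v => ?_⟩
      show h (x v + y v) = x' (h v) + y' (h v)
      rw [hy.apply_add hH h0, hxe, hye]
    | neg x _ hx =>
      obtain ⟨x', hx', hxe⟩ := hx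
      refine ⟨-x', neg_mem hx', fun v => ?_⟩
      show h (-(x v)) = -(x' (h v))
      rw [neg_eq_of_add_eq_zero_left (hy.two (x v)), neg_eq_of_add_eq_zero_left (hy.two (x' (h v))), hxe]
    | mul x y _ _ hx hy' =>
      obtain ⟨x', hx', hxe⟩ := hx
      obtain ⟨y', hy'', hye⟩ := hy'
      refine ⟨x' * y', mul_mem hx' hy'', fun v => ?_⟩
      show h (x (y v)) = x' (y' (h v))
      rw [hxe, hye]
  refine ⟨@FieldModel.mk _ _ H e ↥E { E.toRing with mul_comm := fun a b => Subtype.ext (hcomm _ a.2 _ b.2) }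
    ev hev rfl ?_ ?_⟩
  · have : Nontrivial ↥E := ⟨⟨0, 1, fun h => he (congrArg ev h).symm⟩⟩
    refine @NoZeroDivisors.to_isDomain _ _ _ ⟨fun {a b} hab => ?_⟩
    by_cases hb : b = 0
    · exact Or.inr hb
    refine Or.inl (Subtype.ext ?_)
    have hbe : (b : AddMonoid.End W) e ≠ 0 := fun h => hb (Subtype.ext (hzero _ b.2 h))
    obtain ⟨i, hi⟩ := hy.s_trans _ e hbe he
    refine hzero _ a.2 ?_
    rw [← hi, hsx _ a.2]
    have : (a : AddMonoid.End W) ((b : AddMonoid.End W) e) = 0 :=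
      congrArg (fun r : ↥E => (r : AddMonoid.End W) e) hab
    rw [this, hy.s_pow_zero]
  · intro h hh a b c d hac hbd
    obtain ⟨hH, h0, he'⟩ := mem_H01.1 hh
    obtain ⟨r', hr', hre⟩ := hsemi h hh _ a.2
    have hr'c : r' = (c : AddMonoid.End W) := by
      refine congrArg Subtype.val (hinj ⟨r', hr'⟩ c ?_)
      have h1 := hre e
      rw [he'] at h1
      exact h1.symm.trans hac
    show h ((a : AddMonoid.End W) ((b : AddMonoid.End W) e)) =
      (c : AddMonoid.End W) ((d : AddMonoid.End W) e)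
    rw [hre, hr'c]
    exact congrArg _ hbd

/-- An element of `H01` commutes with every other one; if it fixes only `0` and `e`, it generates
and has order `k`. -/
theorem two_point_model {E : Type*} [CommRing E] {k : ℕ} {e : W}
    (hadd : ∀ h ∈ H01 H e, ∀ x y, h (x + y) = h x + h y) (hk : Nat.card W = 2 ^ k)
    (h2 : ∀ w : W, w + w = 0) (hW : 1 < Nat.card W) (F : FieldModel H e E) :
    ∀ a ∈ H01 H e, (∀ b ∈ H01 H e, a * b = b * a) ∧
      ((∀ x, a x = x → x = 0 ∨ x = e) → H01 H e = Subgroup.zpowers a ∧ orderOf a = k) := by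
  classical
  have : IsDomain E := F.domain
  have : Finite W := Nat.finite_of_card_ne_zero (by omega)
  have : Finite E := Finite.of_injective _ F.bij.1
  have : Fintype E := Fintype.ofFinite _
  let _ : Field E := Fintype.fieldOfDomain E
  have hch : CharP E 2 := CharTwo.of_one_ne_zero_of_two_eq_zero one_ne_zero (F.bij.1 (by
    rw [← one_add_one_eq_two, map_add, map_zero]; exact h2 _))
  let _ : Algebra (ZMod 2) E := ZMod.algebra _ 2
  have hfr : Module.finrank (ZMod 2) E = k := by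
    have h1 := Module.natCard_eq_pow_finrank (K := ZMod 2) (V := E)
    rw [Nat.card_zmod, Nat.card_eq_of_bijective _ F.bij, hk] at h1
    exact (Nat.pow_right_injective le_rfl h1).symm
  have hauto : ∀ h : ↥(H01 H e), (∀ x y, (h : Equiv.Perm W) (x + y) = (h : Equiv.Perm W) x + (h : Equiv.Perm W) y) →
      ∃ φ : E ≃ₐ[ZMod 2] E, ∀ r, F.ev (φ r) = (h : Equiv.Perm W) (F.ev r) := by
    intro h hadd
    choose c hc using fun r => F.bij.2 ((h : Equiv.Perm W) (F.ev r))
    let f : E →+* E :=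
      { toFun := c
        map_one' := F.bij.1 (by rw [hc, F.one]; exact (mem_H01.1 h.2).2.2)
        map_zero' := F.bij.1 (by rw [hc, map_zero]; exact (mem_H01.1 h.2).2.1)
        map_add' := fun a b => F.bij.1 (by rw [map_add, hc, hc, hc, map_add, hadd])
        map_mul' := fun a b => F.bij.1 (by rw [hc]; exact F.mul _ h.2 a b _ _ (hc a).symm (hc b).symm) }
    have hbij : Function.Bijective f := Finite.injective_iff_bijective.1 fun a b hab => F.bij.1
      ((h : Equiv.Perm W).injective (by rw [← hc, ← hc]; exact congrArg F.ev hab))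
    exact ⟨AlgEquiv.ofRingEquiv (f := RingEquiv.ofBijective f hbij) fun x =>
      RingHom.congr_fun (Subsingleton.elim (f.comp (algebraMap (ZMod 2) E)) _) x, fun r => hc r⟩
  choose φ hφ using fun h : ↥(H01 H e) => hauto h (hadd _ h.2)
  let Φ : ↥(H01 H e) →* (E ≃ₐ[ZMod 2] E) := MonoidHom.mk' φ fun a b => AlgEquiv.ext fun r =>
    F.bij.1 (by rw [AlgEquiv.mul_apply, hφ, hφ, hφ]; rfl)
  have hinj : Function.Injective Φ := fun a b hab => Subtype.ext (Equiv.ext fun x => by
    obtain ⟨r, rfl⟩ := F.bij.2 x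
    rw [← hφ a, ← hφ b]
    exact congrArg F.ev (DFunLike.congr_fun hab r))
  intro a ha
  refine ⟨fun b hb => congrArg Subtype.val (hinj (by
    rw [map_mul, map_mul]; exact (galois_facts _ _).1) : (⟨a, ha⟩ * ⟨b, hb⟩ : ↥(H01 H e)) = ⟨b, hb⟩ * ⟨a, ha⟩),
    fun hfix => ?_⟩
  obtain ⟨hz, ho⟩ := (galois_facts (Φ ⟨a, ha⟩) (Φ ⟨a, ha⟩)).2 fun r hr => by
    have h2 : a (F.ev r) = F.ev r := by rw [← hφ ⟨a, ha⟩ r]; exact congrArg F.ev hr
    rcases hfix _ h2 with h | h
    · exact Or.inl (F.bij.1 (h.trans (map_zero F.ev).symm))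
    · exact Or.inr (F.bij.1 (h.trans F.one.symm))
  refine ⟨le_antisymm (fun b hb => ?_) (Subgroup.zpowers_le.2 ha), ?_⟩
  · obtain ⟨i, hi⟩ : Φ ⟨b, hb⟩ ∈ Subgroup.zpowers (Φ ⟨a, ha⟩) := hz ▸ Subgroup.mem_top _
    refine ⟨i, ?_⟩
    have : (⟨a, ha⟩ : ↥(H01 H e)) ^ i = ⟨b, hb⟩ := hinj (by rw [map_zpow]; exact hi)
    exact congrArg Subtype.val this
  · rw [← hfr, ← ho, orderOf_injective Φ hinj, Subgroup.orderOf_mk]

theorem Hyp.two_point (hy : Hyp H s) {k : ℕ} (hk : Nat.card W = 2 ^ k) {e : W} (he : e ≠ 0) :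
    ∀ a ∈ H01 H e, (∀ b ∈ H01 H e, a * b = b * a) ∧
      ((∀ x, a x = x → x = 0 ∨ x = e) → H01 H e = Subgroup.zpowers a ∧ orderOf a = k) := by
  obtain ⟨E, hE, ⟨F⟩⟩ := hy.exists_ring he
  let _ : CommRing ↥E := { E.toRing with mul_comm := hE }
  exact two_point_model (fun h hh => hy.apply_add (mem_H01.1 hh).1 (mem_H01.1 hh).2.1) hk hy.two
    (by have := hy.large; omega) F

end Cfsg.Agent.TimesPSLTwo.Affine
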