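import Cfsg.Agent.Lib.TimesPSLTwo.AffineBad

/-!
The dichotomy for affine groups: all translations, or every linear map occurs as a linear part.
-/

namespace Cfsg.Agent.TimesPSLTwo.Affine

variable {W : Type*} [AddCommGroup W]

theorem card_autos_le [Finite W] (h2 : ∀ w : W, w + w = 0) (h8 : Nat.card W = 8) :
    Nat.card (W ≃+ W) ≤ 168 := by
  classical
  have := Fintype.ofFinite W
  obtain ⟨a, ha⟩ : ∃ a : W, a ≠ 0 := by
    by_contra h
    push Not at h
    have : Subsingleton W := ⟨fun x y => by rw [h x, h y]⟩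
    rw [Nat.card_of_subsingleton (0 : W)] at h8
    omega
  obtain ⟨b, hb, hba⟩ : ∃ b : W, b ≠ 0 ∧ b ≠ a := by
    by_contra h
    push Not at h
    have hsub : (Finset.univ : Finset W) ⊆ {0, a} := fun x _ => by
      by_cases hx : x = 0
      · simp [hx]
      · simp [h x hx]
    have := (Finset.card_le_card hsub).trans (Finset.card_le_two)
    rw [Finset.card_univ, ← Nat.card_eq_fintype_card, h8] at this
    omega
  obtain ⟨c, hc⟩ : ∃ c : W, c ∉ ({0, a, b, a + b} : Finset W) := by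
    by_contra h
    push Not at h
    have h' := (Finset.card_le_card (fun x _ => h x : (Finset.univ : Finset W) ⊆ {0, a, b, a + b}))
    have h4 : ({0, a, b, a + b} : Finset W).card ≤ 4 := Finset.card_le_four
    rw [Finset.card_univ, ← Nat.card_eq_fintype_card, h8] at h'
    omega
  -- every element is a combination of `a`, `b`, `c`
  have hneq : ∀ x y : W, x + y = 0 → x = y := fun x y h => by
    rw [← add_zero x, ← h2 y, ← add_assoc, h, zero_add]
  let f : ZMod 2 × ZMod 2 × ZMod 2 → W := fun p =>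
    (if p.1 = 1 then a else 0) + ((if p.2.1 = 1 then b else 0) + (if p.2.2 = 1 then c else 0))
  have hind : ∀ p, f p = 0 → p = 0 := by
    simp only [Finset.mem_insert, Finset.mem_singleton, not_or] at hc
    obtain ⟨hc0, hca, hcb, hcab⟩ := hc
    rintro ⟨i, j, l⟩ h
    rcases (by decide : ∀ x : ZMod 2, x = 0 ∨ x = 1) i with rfl | rfl <;>
      rcases (by decide : ∀ x : ZMod 2, x = 0 ∨ x = 1) j with rfl | rfl <;>
      rcases (by decide : ∀ x : ZMod 2, x = 0 ∨ x = 1) l with rfl | rfl <;>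
      simp [f] at h ⊢
    · exact hc0 h
    · exact hb h
    · exact hcb (hneq _ _ h).symm
    · exact ha h
    · exact hca (hneq _ _ h).symm
    · exact hba (hneq _ _ h).symm
    · exact hcab (hneq _ _ (by rw [← h]; abel))
  have hadd : ∀ p q, f (p + q) = f p + f q := by
    rintro ⟨i, j, l⟩ ⟨i', j', l'⟩
    rcases (by decide : ∀ x : ZMod 2, x = 0 ∨ x = 1) i with rfl | rfl <;>
      rcases (by decide : ∀ x : ZMod 2, x = 0 ∨ x = 1) i' with rfl | rfl <;>
      rcases (by decide : ∀ x : ZMod 2, x = 0 ∨ x = 1) j with rfl | rfl <;>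
      rcases (by decide : ∀ x : ZMod 2, x = 0 ∨ x = 1) j' with rfl | rfl <;>
      rcases (by decide : ∀ x : ZMod 2, x = 0 ∨ x = 1) l with rfl | rfl <;>
      rcases (by decide : ∀ x : ZMod 2, x = 0 ∨ x = 1) l' with rfl | rfl <;>
      simp [f, show (1 : ZMod 2) + 1 = 0 from rfl] <;>
      first
        | abel1
        | (simp [add_assoc, add_comm, add_left_comm, h2]; done)
        | (simp [add_assoc, h2, show ∀ x y : W, x + (x + y) = y from fun x y => by rw [← add_assoc, h2, zero_add],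
            add_comm, add_left_comm]; done)
  have hinj : Function.Injective f := fun p q h => by
    have h1 := hind (p + q) (by rw [hadd, h, h2])
    have hp : ∀ u v : ZMod 2 × ZMod 2 × ZMod 2, u + v = 0 → u = v := by decide
    exact hp p q h1
  have hbij : Function.Bijective f := (Nat.bijective_iff_injective_and_card f).2 ⟨hinj, by
    rw [h8]; simp⟩
  let e : (ZMod 2 × ZMod 2 × ZMod 2) ≃+ W := AddEquiv.ofBijective (AddMonoidHom.mk' f hadd) hbij
  let B := {p : (ZMod 2 × ZMod 2 × ZMod 2) × (ZMod 2 × ZMod 2 × ZMod 2) × (ZMod 2 × ZMod 2 × ZMod 2) //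
    p.1 ≠ 0 ∧ p.2.1 ≠ 0 ∧ p.2.1 ≠ p.1 ∧ p.2.2 ≠ 0 ∧ p.2.2 ≠ p.1 ∧ p.2.2 ≠ p.2.1 ∧ p.2.2 ≠ p.1 + p.2.1}
  have hB : Nat.card B = 168 := by
    rw [Nat.card_eq_fintype_card]
    decide +kernel
  rw [← hB]
  refine Nat.card_le_card_of_injective (fun L => ⟨(e.symm (L (e (1, 0, 0))), e.symm (L (e (0, 1, 0))),
    e.symm (L (e (0, 0, 1)))), ?_⟩) fun L M hLM => ?_
  · have hne : ∀ u v, u ≠ v → e.symm (L (e u)) ≠ e.symm (L (e v)) := fun u v huv h =>
      huv (e.injective (L.injective (e.symm.injective h)))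
    have h0 : e.symm (L (e 0)) = 0 := by simp
    refine ⟨?_, ?_, hne _ _ (by decide), ?_, hne _ _ (by decide), hne _ _ (by decide), ?_⟩
    · rw [← h0]; exact hne _ _ (by decide)
    · rw [← h0]; exact hne _ _ (by decide)
    · rw [← h0]; exact hne _ _ (by decide)
    · show _ ≠ e.symm (L (e (1, 0, 0))) + e.symm (L (e (0, 1, 0)))
      rw [← map_add, ← map_add, ← map_add]; exact hne _ _ (by decide)
  · have h1 := congrArg (fun q : B => q.1.1) hLM
    have h2' := congrArg (fun q : B => q.1.2.1) hLM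
    have h3 := congrArg (fun q : B => q.1.2.2) hLM
    simp only [EmbeddingLike.apply_eq_iff_eq] at h1 h2' h3
    refine AddEquiv.ext fun x => ?_
    obtain ⟨⟨i, j, l⟩, rfl⟩ := e.surjective x
    have hd : ((i, j, l) : ZMod 2 × ZMod 2 × ZMod 2) =
        (i, 0, 0) + ((0, j, 0) + (0, 0, l)) := by simp
    rw [hd]
    simp only [map_add]
    rcases (by decide : ∀ x : ZMod 2, x = 0 ∨ x = 1) i with rfl | rfl <;>
      rcases (by decide : ∀ x : ZMod 2, x = 0 ∨ x = 1) j with rfl | rfl <;>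
      rcases (by decide : ∀ x : ZMod 2, x = 0 ∨ x = 1) l with rfl | rfl <;>
      simp [h1, h2', h3, show ((0 : ZMod 2), (0 : ZMod 2), (0 : ZMod 2)) = 0 from rfl]

/-- All translations, or eight points and every linear map. -/
theorem Hyp.dichotomy {H : Subgroup (Equiv.Perm W)} {s : Equiv.Perm W} (hy : Hyp H s) :
    (∀ w, tr w ∈ H) ∨ (Nat.card W = 8 ∧
      (∀ N : Subgroup ↥H, N.Normal → IsPGroup 2 ↥N → N = ⊥) ∧
      ∀ L : W ≃+ W, ∃ h ∈ H, ∀ x, lin h x = L x) := by
  by_cases hall : ∀ w, tr w ∈ H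
  · exact Or.inl hall
  refine Or.inr ?_
  have := hy.finite
  obtain ⟨e, k, σ, τ, b⟩ := hy.exists_bad hall
  have hk := Bad.k_eq_three hy b
  have h8 : Nat.card W = 8 := by rw [b.hk, hk]; norm_num
  refine ⟨h8, fun N hN hN2 => by_contra fun hne => hall (@Hyp.all_tr_of_normal _ _ _ _ hy N hN hN2 hne),
    fun L => ?_⟩
  let f : ↥H → (W ≃+ W) := fun h => AddEquiv.mk'
    (Equiv.ofBijective (lin (h : Equiv.Perm W)) (Finite.injective_iff_bijective.1 fun _ _ => hy.lin_inj))
    (hy.lin_add h.2)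
  have hinj : Function.Injective f := by
    intro g h hgh
    have hl : ∀ x, lin (g : Equiv.Perm W) x = lin (h : Equiv.Perm W) x := fun x =>
      DFunLike.congr_fun hgh x
    have hd : ∀ x, lin ((g⁻¹ * h : ↥H) : Equiv.Perm W) x = x := fun x => by
      rw [Subgroup.coe_mul, hy.lin_mul (g⁻¹).2, ← hl, ← hy.lin_mul (g⁻¹).2, ← Subgroup.coe_mul,
        inv_mul_cancel, Subgroup.coe_one, hy.lin_one]
    have htr : ((g⁻¹ * h : ↥H) : Equiv.Perm W) = tr (((g⁻¹ * h : ↥H) : Equiv.Perm W) 0) := by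
      ext x
      rw [tr_apply, hy.apply_eq_lin x, hd]
    by_contra hne
    refine hall (hy.all_tr_of_one (w := ((g⁻¹ * h : ↥H) : Equiv.Perm W) 0) (fun h0 => hne ?_)
      (htr ▸ (g⁻¹ * h).2))
    rw [h0, Hyp.tr_zero] at htr
    exact inv_mul_eq_one.1 (Subtype.ext htr)
  have hcard : Nat.card ↥H = 168 := by rw [Bad.card_H hy b, hk]; norm_num
  obtain ⟨h, hh⟩ := ((Nat.bijective_iff_injective_and_card f).2
    ⟨hinj, le_antisymm (Nat.card_le_card_of_injective f hinj)
      ((card_autos_le hy.two h8).trans hcard.ge)⟩).2 L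
  exact ⟨h, h.2, fun x => DFunLike.congr_fun hh x⟩

end Cfsg.Agent.TimesPSLTwo.Affine
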