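import Mathlib
import Cfsg.Agent.Lib.Coprime.PGroup
import Cfsg.Agent.Lib.Transfer.Fusion
import Cfsg.Agent.Lib.Involutions.ThompsonTransfer

/-!
An involution `t` whose centraliser has the elementary abelian Sylow 2-subgroup `A = ⟨t⟩ × V`, with
`V` permuted transitively by a normal cyclic automiser.
-/

namespace Cfsg.Agent.TimesPSLTwo

variable {G : Type*} [Group G]

/-- The local hypothesis at the involution `t`. -/
structure Setup (t : G) (A V : Subgroup G) (s : G) (k : ℕ) : Prop where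
  ot : orderOf t = 2
  memA : t ∈ A
  leC : A ≤ Subgroup.centralizer ({t} : Set G)
  cardA : Nat.card ↥A = 2 ^ (k + 1)
  two_le : 2 ≤ k
  elem : ∀ a ∈ A, a * a = 1
  maxA : ∀ Q : Subgroup G, IsPGroup 2 ↥Q → Q ≤ Subgroup.centralizer ({t} : Set G) →
    ∃ c ∈ Subgroup.centralizer ({t} : Set G), ∀ x ∈ Q, c * x * c⁻¹ ∈ A
  leV : V ≤ A
  tV : t ∉ V
  cardV : Nat.card ↥V = 2 ^ k
  smem : s ∈ Subgroup.centralizer ({t} : Set G)
  sA : s ∈ Subgroup.normalizer (A : Set G)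
  sTrans : ∀ v ∈ V, ∀ w ∈ V, v ≠ 1 → w ≠ 1 → ∃ i : ℕ, s ^ i * v * (s ^ i)⁻¹ = w
  normV : ∀ n ∈ Subgroup.centralizer ({t} : Set G), n ∈ Subgroup.normalizer (A : Set G) →
    ∀ v ∈ V, n * v * n⁻¹ ∈ V
  normS : ∀ n ∈ Subgroup.centralizer ({t} : Set G), n ∈ Subgroup.normalizer (A : Set G) →
    ∃ j : ℕ, ∀ a ∈ A, (n * s * n⁻¹) * a * (n * s * n⁻¹)⁻¹ = s ^ j * a * (s ^ j)⁻¹

theorem two_part_decomp [Finite G] (x : G) :
    ∃ a b : ℕ, orderOf x = 2 ^ a * b ∧ Odd b ∧ ∃ i j : ℤ, x = (x ^ b) ^ i * (x ^ (2 ^ a)) ^ j := by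
  obtain ⟨a, b, hb, he⟩ := Nat.exists_eq_two_pow_mul_odd (orderOf_pos x).ne'
  refine ⟨a, b, he, hb, Nat.gcdA b (2 ^ a), Nat.gcdB b (2 ^ a), ?_⟩
  have hg : Nat.gcd b (2 ^ a) = 1 := (Nat.coprime_two_right.2 hb).pow_right a
  rw [← zpow_natCast x b, ← zpow_mul, ← zpow_natCast x (2 ^ a), ← zpow_mul, ← zpow_add,
    ← Nat.gcd_eq_gcd_ab, hg, Nat.cast_one, zpow_one]

theorem closure_sup_isPGroup [Finite G] {A : Subgroup G} (hA : IsPGroup 2 ↥A) {x : G} {a : ℕ}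
    (hx : orderOf x ∣ 2 ^ a) (hn : x ∈ Subgroup.normalizer (A : Set G)) :
    IsPGroup 2 ↥(A ⊔ Subgroup.zpowers x) := by
  have hz : IsPGroup 2 ↥(Subgroup.zpowers x) := by
    obtain ⟨i, -, hi⟩ := (Nat.dvd_prime_pow Nat.prime_two).1 hx
    exact IsPGroup.of_card (n := i) (by rw [Nat.card_zpowers, hi])
  exact hA.to_sup_of_normal_left' hz (Subgroup.zpowers_le.2 hn)

namespace Setup

variable {t : G} {A V : Subgroup G} {s : G} {k : ℕ} (hb : Setup t A V s k)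

include hb

theorem isPGroup : IsPGroup 2 ↥A := IsPGroup.of_card hb.cardA

theorem comm {a b : G} (ha : a ∈ A) (hb' : b ∈ A) : a * b = b * a := by
  have h := hb.elem _ (mul_mem ha hb')
  have h1 : a⁻¹ = a := inv_eq_of_mul_eq_one_right (hb.elem a ha)
  have h2 : b⁻¹ = b := inv_eq_of_mul_eq_one_right (hb.elem b hb')
  calc a * b = (a * b)⁻¹ := (inv_eq_of_mul_eq_one_right h).symm
    _ = b * a := by rw [mul_inv_rev, h1, h2]

theorem mem_centralizer {a : G} (ha : a ∈ A) : a * t = t * a := hb.comm ha hb.memA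

theorem eq_A [Finite G] {Q : Subgroup G} (hQ : IsPGroup 2 ↥Q) (hA : A ≤ Q)
    (hC : Q ≤ Subgroup.centralizer ({t} : Set G)) : Q = A := by
  obtain ⟨c, -, hc⟩ := hb.maxA Q hQ hC
  refine (Subgroup.eq_of_le_of_card_ge hA (Nat.card_le_card_of_injective
    (fun x : ↥Q => (⟨c * x * c⁻¹, hc x x.2⟩ : ↥A)) fun x y h => Subtype.ext ?_)).symm
  exact mul_left_cancel (mul_right_cancel (congrArg Subtype.val h))

/-- A 2-subgroup centralising a conjugate of `t` is elementary abelian of order at most `|A|`. -/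
theorem small_centralizer [Finite G] {u : G} (hu : IsConj t u) {Q : Subgroup G} (hQ : IsPGroup 2 ↥Q)
    (hC : Q ≤ Subgroup.centralizer ({u} : Set G)) :
    Nat.card ↥Q ≤ 2 ^ (k + 1) ∧ ∀ x ∈ Q, x * x = 1 := by
  obtain ⟨g, hg⟩ := isConj_iff.1 hu
  set Q' := Q.map (MulAut.conj g⁻¹).toMonoidHom with hQ'
  have hle : Q' ≤ Subgroup.centralizer ({t} : Set G) := by
    rintro _ ⟨x, hx, rfl⟩
    rw [Subgroup.mem_centralizer_singleton_iff]
    have h1 := Subgroup.mem_centralizer_singleton_iff.1 (hC hx)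
    rw [← hg] at h1
    simp only [MulEquiv.coe_toMonoidHom, MulAut.conj_apply, inv_inv]
    calc g⁻¹ * x * g * t = g⁻¹ * (x * (g * t * g⁻¹)) * g := by group
      _ = g⁻¹ * (g * t * g⁻¹ * x) * g := by rw [h1]
      _ = _ := by group
  obtain ⟨c, -, hc⟩ := hb.maxA Q' (hQ.map _) hle
  have hm : ∀ x ∈ Q, c * (g⁻¹ * x * g) * c⁻¹ ∈ A := fun x hx => by
    have := hc _ ⟨x, hx, rfl⟩
    simpa using this
  refine ⟨?_, fun x hx => ?_⟩
  · rw [← hb.cardA]
    refine Nat.card_le_card_of_injective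
      (fun x : ↥Q => (⟨c * (g⁻¹ * x * g) * c⁻¹, hm x x.2⟩ : ↥A)) fun x y h => Subtype.ext ?_
    exact mul_left_cancel (mul_right_cancel (mul_left_cancel (mul_right_cancel
      (congrArg Subtype.val h))))
  · have h1 := hb.elem _ (hm x hx)
    rw [show c * (g⁻¹ * x * g) * c⁻¹ * (c * (g⁻¹ * x * g) * c⁻¹) =
      (c * g⁻¹) * (x * x) * (c * g⁻¹)⁻¹ by group] at h1
    exact conj_eq_one_iff.1 h1

/-- A 2-element of `C(t)` normalising `A` lies in it. -/
theorem two_mem [Finite G] {x : G} (hx : x ∈ Subgroup.centralizer ({t} : Set G))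
    (hn : x ∈ Subgroup.normalizer (A : Set G)) {a : ℕ} (ho : orderOf x ∣ 2 ^ a) : x ∈ A := by
  have := hb.eq_A (closure_sup_isPGroup hb.isPGroup ho hn) le_sup_left
    (sup_le hb.leC (Subgroup.zpowers_le.2 hx))
  exact this ▸ Subgroup.mem_sup_right (Subgroup.mem_zpowers x)

/-- The action of `C(t) ∩ N(A)` on `A` has odd order. -/
theorem odd_action [Finite G] {n : G} (hn : n ∈ Subgroup.centralizer ({t} : Set G))
    (hn' : n ∈ Subgroup.normalizer (A : Set G)) :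
    ∃ m : ℕ, Odd m ∧ ∀ a ∈ A, n ^ m * a * (n ^ m)⁻¹ = a := by
  obtain ⟨a, b, he, hodd, -⟩ := two_part_decomp n
  refine ⟨b, hodd, fun x hx => ?_⟩
  have hm : n ^ b ∈ A := hb.two_mem (pow_mem hn b) (pow_mem hn' b) (a := a)
    (orderOf_dvd_of_pow_eq_one (by rw [← pow_mul, mul_comm, ← he, pow_orderOf_eq_one]))
  rw [hb.comm hm hx, mul_inv_cancel_right]

theorem normalizer_le [Finite G] {T : Subgroup G} (hT : IsPGroup 2 ↥T) (hA : A ≤ T) :
    T ⊓ Subgroup.centralizer ({t} : Set G) = A :=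
  hb.eq_A (hT.to_le inf_le_left) (le_inf hA hb.leC) inf_le_right

theorem mem_normalizer_A [Finite G] {T : Subgroup G} (hT : IsPGroup 2 ↥T) (hA : A ≤ T) {x : G}
    (hx : x ∈ Subgroup.centralizer ({t} : Set G)) (hn : x ∈ Subgroup.normalizer (T : Set G)) :
    x ∈ Subgroup.normalizer (A : Set G) := by
  rw [← hb.normalizer_le hT hA, Subgroup.mem_normalizer_iff]
  intro y
  rw [Subgroup.mem_inf, Subgroup.mem_inf, ← (Subgroup.mem_normalizer_iff.1 hn y)]
  refine and_congr_right fun _ => ⟨fun h => mul_mem (mul_mem hx h) (inv_mem hx), fun h => ?_⟩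
  have := mul_mem (mul_mem (inv_mem hx) h) hx
  rwa [show x⁻¹ * (x * y * x⁻¹) * x = y by group] at this

/-- An element of `C(t) ∩ N(T)` centralising `A` acts on `T` as an element of `A`. -/
theorem inner_of_trivial [Finite G] {T : Subgroup G} (hT : IsPGroup 2 ↥T) (hA : A ≤ T) {x : G}
    (hx : x ∈ Subgroup.centralizer ({t} : Set G)) (hn : x ∈ Subgroup.normalizer (T : Set G))
    (htriv : ∀ a ∈ A, x * a * x⁻¹ = a) :
    ∃ a ∈ A, ∀ y ∈ T, x * y * x⁻¹ = a * y * a⁻¹ := by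
  have : Fact (Nat.Prime 2) := ⟨Nat.prime_two⟩
  obtain ⟨a, b, he, hodd, i, j, hij⟩ := two_part_decomp x
  have hnA := hb.mem_normalizer_A hT hA hx hn
  have hm : x ^ b ∈ A := hb.two_mem (pow_mem hx b) (pow_mem hnA b) (a := a)
    (orderOf_dvd_of_pow_eq_one (by rw [← pow_mul, mul_comm, ← he, pow_orderOf_eq_one]))
  have hop : Odd (orderOf (x ^ (2 ^ a))) := hodd.of_dvd_nat
    (orderOf_dvd_of_pow_eq_one (by rw [← pow_mul, ← he, pow_orderOf_eq_one]))
  have hQ := Coprime.le_centralizer_of_pxq (p := 2) (P := Subgroup.zpowers t)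
    (Q := Subgroup.zpowers (x ^ (2 ^ a))) (U := T)
    (IsPGroup.of_card (n := 1) (by rw [Nat.card_zpowers, hb.ot, pow_one]))
    (by rw [Nat.card_zpowers]; exact Nat.coprime_two_right.2 hop) hT
    (Subgroup.zpowers_le.2 (Subgroup.mem_centralizer_iff.2 fun y hy => by
      obtain ⟨i, rfl⟩ := hy
      have h1 : Commute x t := Subgroup.mem_centralizer_singleton_iff.1 hx
      exact ((h1.pow_left _).zpow_left i).eq))
    (Subgroup.zpowers_le.2 (Subgroup.le_normalizer (hA hb.memA)))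
    (Subgroup.zpowers_le.2 (pow_mem hn _))
    (fun y hy => by
      have hy' : y ∈ A := by
        rw [← hb.normalizer_le hT hA]
        exact ⟨hy.1, Subgroup.mem_centralizer_singleton_iff.2
          ((Subgroup.mem_centralizer_iff.1 hy.2 t (Subgroup.mem_zpowers t)).symm)⟩
      rw [Subgroup.mem_centralizer_iff]
      rintro _ ⟨i, rfl⟩
      have h1 : Commute x y := mul_inv_eq_iff_eq_mul.1 (htriv y hy')
      exact ((h1.pow_left _).zpow_left i).eq)
  refine ⟨(x ^ b) ^ i, zpow_mem hm i, fun y hy => ?_⟩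
  have h1 : Commute ((x ^ (2 ^ a)) ^ j) y :=
    (Subgroup.mem_centralizer_iff.1 (hQ (zpow_mem (Subgroup.mem_zpowers _) j)) y hy).symm
  conv_lhs => rw [hij]
  calc (x ^ b) ^ i * (x ^ 2 ^ a) ^ j * y * ((x ^ b) ^ i * (x ^ 2 ^ a) ^ j)⁻¹
      = (x ^ b) ^ i * ((x ^ 2 ^ a) ^ j * y * ((x ^ 2 ^ a) ^ j)⁻¹) * ((x ^ b) ^ i)⁻¹ := by group
    _ = _ := by rw [h1.eq, mul_inv_cancel_right]

/-- An element of `C(t) ∩ N(T)` acting trivially on `T / ⁅T, T⁆` centralises `A`. -/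
theorem trivial_of_mod [Finite G] {T : Subgroup G} (hT : IsPGroup 2 ↥T) (hA : A ≤ T) {x : G}
    (hx : x ∈ Subgroup.centralizer ({t} : Set G)) (hn : x ∈ Subgroup.normalizer (T : Set G))
    (htriv : ∀ y ∈ T, x * y * x⁻¹ * y⁻¹ ∈ ⁅T, T⁆) {c : G} (hc : c ∈ A) : x * c * x⁻¹ = c := by
  have : Fact (Nat.Prime 2) := ⟨Nat.prime_two⟩
  obtain ⟨a, b, he, hodd, i, j, hij⟩ := two_part_decomp x
  have hnA := hb.mem_normalizer_A hT hA hx hn
  have hm : x ^ b ∈ A := hb.two_mem (pow_mem hx b) (pow_mem hnA b) (a := a)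
    (orderOf_dvd_of_pow_eq_one (by rw [← pow_mul, mul_comm, ← he, pow_orderOf_eq_one]))
  have hnD : x ∈ Subgroup.normalizer ((⁅T, T⁆ : Subgroup G) : Set G) := by
    rw [← Transfer.Fusion.map_conj_eq_self_iff, Subgroup.map_commutator,
      Transfer.Fusion.map_conj_eq_self_iff.2 hn]
  have hpow : ∀ m : ℕ, ∀ y ∈ T, x ^ m * y * (x ^ m)⁻¹ * y⁻¹ ∈ ⁅T, T⁆ := by
    intro m
    induction m with
    | zero => intro y hy; simp
    | succ m ih =>
      intro y hy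
      have e : x ^ (m + 1) * y * (x ^ (m + 1))⁻¹ * y⁻¹ =
          x * (x ^ m * y * (x ^ m)⁻¹ * y⁻¹) * x⁻¹ * (x * y * x⁻¹ * y⁻¹) := by
        rw [pow_succ']; group
      rw [e]
      exact mul_mem ((Subgroup.mem_normalizer_iff.1 hnD _).1 (ih y hy)) (htriv y hy)
  have hop : Odd (orderOf (x ^ (2 ^ a))) := hodd.of_dvd_nat
    (orderOf_dvd_of_pow_eq_one (by rw [← pow_mul, ← he, pow_orderOf_eq_one]))
  have hzn : Subgroup.zpowers (x ^ (2 ^ a)) ≤ Subgroup.normalizer (T : Set G) :=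
    Subgroup.zpowers_le.2 (pow_mem hn _)
  have hnil := hT.isNilpotent
  have hQ : Subgroup.zpowers (x ^ (2 ^ a)) ≤ Subgroup.centralizer (T : Set G) := by
    obtain ⟨r, hr⟩ := IsPGroup.iff_card.1 (hT.to_subgroup (frattini ↥T))
    refine Coprime.le_centralizer_of_frattini hzn (by
      rw [Nat.card_zpowers, hr]; exact (Nat.coprime_two_right.2 hop).pow_right r) ?_
    rintro _ ⟨i, rfl⟩ y hy
    have hsub : ⁅T, T⁆ ≤ (frattini ↥T).map T.subtype := by
      rw [← Subgroup.map_subtype_commutator]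
      exact Subgroup.map_mono (Coprime.commutator_le_frattini _)
    obtain ⟨m, hm'⟩ : ∃ m : ℕ, (x ^ (2 ^ a)) ^ i = x ^ m := by
      obtain ⟨n, hn'⟩ := (mem_powers_iff_mem_zpowers).2 (zpow_mem (Subgroup.mem_zpowers (x ^ (2 ^ a))) i)
      exact ⟨2 ^ a * n, by rw [pow_mul]; exact hn'.symm⟩
    simp only [hm']
    exact hsub (hpow m y hy)
  have h1 : Commute ((x ^ (2 ^ a)) ^ j) c :=
    (Subgroup.mem_centralizer_iff.1 (hQ (zpow_mem (Subgroup.mem_zpowers _) j)) c (hA hc)).symm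
  conv_lhs => rw [hij]
  calc (x ^ b) ^ i * (x ^ 2 ^ a) ^ j * c * ((x ^ b) ^ i * (x ^ 2 ^ a) ^ j)⁻¹
      = (x ^ b) ^ i * ((x ^ 2 ^ a) ^ j * c * ((x ^ 2 ^ a) ^ j)⁻¹) * ((x ^ b) ^ i)⁻¹ := by group
    _ = _ := by rw [h1.eq, mul_inv_cancel_right, hb.comm (zpow_mem hm i) hc, mul_inv_cancel_right]

end Setup

end Cfsg.Agent.TimesPSLTwo
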