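import Mathlib

/-!
The facts about dihedral 2-groups that are used.
-/

namespace Cfsg.Agent.TimesPSLTwo

/-- `D` behaves like a dihedral 2-group of order at least eight with central involution `z`. -/
structure DihProps (D : Type*) [Group D] (z : D) : Prop where
  zz : z * z = 1
  z1 : z ≠ 1
  zc : ∀ x : D, x * z = z * x
  center : ∀ x : D, (∀ y : D, x * y = y * x) → x = 1 ∨ x = z
  commz : z ∈ commutator D
  commu : ∀ x ∈ commutator D, x * x = 1 → x = 1 ∨ x = z
  refl : ∃ e : D, e * e = 1 ∧ e ≠ 1 ∧ e ≠ z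
  gen : Subgroup.closure {x : D | x * x = 1} = ⊤
  small : ∀ e f x : D, e * e = 1 → f * f = 1 → e ≠ 1 → f ≠ 1 → e ≠ f → e * f = f * e →
    x * e = e * x → x * f = f * x → x = 1 ∨ x = e ∨ x = f ∨ x = e * f
  count : Nat.card {x : D // x * x = 1 ∧ x ≠ 1} % 4 = 1

theorem dihProps_model {j : ℕ} (hj : 2 ≤ j) :
    DihProps (DihedralGroup (2 ^ j)) (DihedralGroup.r ((2 ^ (j - 1) : ℕ) : ZMod (2 ^ j))) := by
  classical
  set n := 2 ^ j with hn
  set m := 2 ^ (j - 1) with hm
  have hnm : n = 2 * m := by rw [hn, hm, ← pow_succ']; congr 1; omega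
  obtain ⟨l, hl⟩ : ∃ l, m = 2 * l := by
    refine ⟨2 ^ (j - 2), ?_⟩
    rw [hm, ← pow_succ']; congr 1; omega
  have hl0 : 0 < l := by
    rcases Nat.eq_zero_or_pos l with h | h
    · rw [h, mul_zero, hm] at hl
      exact absurd hl (Nat.two_pow_pos _).ne'
    · exact h
  have : NeZero n := ⟨by omega⟩
  set h : ZMod n := (m : ZMod n) with hh
  have h2 : h + h = 0 := by rw [hh, ← Nat.cast_add, ← two_mul, ← hnm, ZMod.natCast_self]
  have h0 : h ≠ 0 := fun e => by
    rw [hh, ZMod.natCast_eq_zero_iff] at e
    have := Nat.le_of_dvd (by omega) e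
    omega
  have hneg : -h = h := neg_eq_of_add_eq_zero_left h2
  have hdbl : ∀ k : ZMod n, k + k = 0 → k = 0 ∨ k = h := by
    intro k hk
    have hk' : ((k.val + k.val : ℕ) : ZMod n) = 0 := by rw [Nat.cast_add, ZMod.natCast_zmod_val, hk]
    rw [ZMod.natCast_eq_zero_iff] at hk'
    obtain ⟨c, hc⟩ := hk'
    have hlt := ZMod.val_lt k
    have hc2 : c < 2 := by
      by_contra h
      have : n * 2 ≤ n * c := Nat.mul_le_mul_left n (by omega)
      omega
    interval_cases c
    · exact Or.inl ((ZMod.val_eq_zero k).1 (by omega))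
    · refine Or.inr ?_
      rw [← ZMod.natCast_zmod_val k, hh]
      congr 1
      omega
  have hinv : ∀ x : DihedralGroup n, x * x = 1 → (∃ i, x = .sr i) ∨ x = 1 ∨ x = .r h := by
    rintro (i | i) hx
    · rw [DihedralGroup.r_mul_r, DihedralGroup.one_def] at hx
      rcases hdbl i (DihedralGroup.r.inj hx) with rfl | rfl
      · exact Or.inr (Or.inl rfl)
      · exact Or.inr (Or.inr rfl)
    · exact Or.inl ⟨i, rfl⟩
  have hcomm : ∀ x ∈ commutator (DihedralGroup n), ∃ i, x = .r i := by
    let φ : DihedralGroup n →* Multiplicative (ZMod 2) := MonoidHom.mk' (fun x => match x with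
      | .r _ => 1
      | .sr _ => Multiplicative.ofAdd 1) (by
        rintro (a | a) (b | b) <;> simp <;> rfl)
    intro x hx
    have h1 := MonoidHom.mem_ker.1 (Abelianization.commutator_subset_ker φ hx)
    rcases x with i | i
    · exact ⟨i, rfl⟩
    · exact absurd (congrArg Multiplicative.toAdd h1) (by decide : ((1 : ZMod 2)) ≠ 0)
  -- the centraliser of a reflection
  have hcent : ∀ (i : ZMod n) (x : DihedralGroup n), x * .sr i = .sr i * x →
      x = 1 ∨ x = .r h ∨ x = .sr i ∨ x = .sr (i + h) := by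
    intro i x hx
    rcases x with k | k
    · rw [DihedralGroup.r_mul_sr, DihedralGroup.sr_mul_r] at hx
      have h1 := DihedralGroup.sr.inj hx
      rcases hdbl k (by linear_combination -h1) with rfl | rfl
      · exact Or.inl rfl
      · exact Or.inr (Or.inl rfl)
    · rw [DihedralGroup.sr_mul_sr, DihedralGroup.sr_mul_sr] at hx
      have h1 := DihedralGroup.r.inj hx
      rcases hdbl (k - i) (by linear_combination -h1) with e | e
      · exact Or.inr (Or.inr (Or.inl (by rw [sub_eq_zero.1 e])))
      · exact Or.inr (Or.inr (Or.inr (by rw [← e, add_sub_cancel])))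
  refine ⟨?_, ?_, ?_, ?_, ?_, ?_, ⟨.sr 0, by simp, (fun h => by rw [DihedralGroup.one_def] at h; cases h), fun h => by cases h⟩, ?_, ?_, ?_⟩
  · rw [DihedralGroup.r_mul_r, h2]; rfl
  · exact fun e => h0 (DihedralGroup.r.inj e)
  · rintro (i | i)
    · rw [DihedralGroup.r_mul_r, DihedralGroup.r_mul_r, add_comm]
    · rw [DihedralGroup.sr_mul_r, DihedralGroup.r_mul_sr, sub_eq_add_neg, hneg]
  · intro x hx
    rcases hcent 0 x (hx _) with e | e | e | e
    · exact Or.inl e
    · exact Or.inr e
    all_goals
      exfalso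
      have h1 := hx (.r 1)
      rw [e, DihedralGroup.sr_mul_r, DihedralGroup.r_mul_sr] at h1
      have h2' := DihedralGroup.sr.inj h1
      rcases hdbl 1 (by linear_combination h2') with e1 | e1
      · exact absurd ((ZMod.one_eq_zero_iff).1 e1) (by omega)
      · rw [hh] at e1
        have := congrArg ZMod.val e1
        rw [ZMod.val_natCast, Nat.mod_eq_of_lt (by omega), ZMod.val_one_eq_one_mod,
          Nat.mod_eq_of_lt (by omega)] at this
        omega
  · have := Subgroup.commutator_mem_commutator (H₁ := (⊤ : Subgroup (DihedralGroup n))) (H₂ := ⊤)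
      (Subgroup.mem_top (DihedralGroup.r ((l : ℕ) : ZMod n))) (Subgroup.mem_top (DihedralGroup.sr (0 : ZMod n)))
    rw [commutatorElement_def, DihedralGroup.inv_r, DihedralGroup.inv_sr, DihedralGroup.r_mul_sr,
      DihedralGroup.sr_mul_r, DihedralGroup.sr_mul_sr] at this
    show DihedralGroup.r h ∈ _
    rw [hh, hl, Nat.cast_mul, Nat.cast_ofNat]
    rw [show (0 - (0 - (l : ZMod n) + -(l : ZMod n))) = 2 * (l : ZMod n) by ring] at this
    exact this
  · intro x hx hxx
    obtain ⟨i, rfl⟩ := hcomm x hx
    rcases hinv _ hxx with ⟨j', hj'⟩ | h | h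
    · simp at hj'
    · exact Or.inl h
    · exact Or.inr h
  · rw [eq_top_iff]
    rintro (i | i) -
    · rw [show DihedralGroup.r i = .sr 0 * .sr i by rw [DihedralGroup.sr_mul_sr, sub_zero]]
      exact mul_mem (Subgroup.subset_closure (by simp)) (Subgroup.subset_closure (by simp))
    · exact Subgroup.subset_closure (by simp)
  · intro e f x he hf he1 hf1 hef hc hxe hxf
    -- one of them is a reflection
    have key : ∀ (i : ZMod n) (f : DihedralGroup n), f * f = 1 → f ≠ 1 → f ≠ .sr i → .sr i * f = f * .sr i →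
        ∀ x, x * .sr i = .sr i * x → x = 1 ∨ x = .sr i ∨ x = f ∨ x = .sr i * f := by
      intro i f hf hf1 hfi hc x hx
      rcases hcent i f hc.symm with e1 | e1 | e1 | e1
      · exact absurd e1 hf1
      · subst e1
        rw [DihedralGroup.sr_mul_r]
        rcases hcent i x hx with h | h | h | h <;> tauto
      · exact absurd e1 hfi
      · subst e1
        rw [DihedralGroup.sr_mul_sr, add_sub_cancel_left]
        rcases hcent i x hx with h | h | h | h <;> tauto
    rcases hinv e he with ⟨i, rfl⟩ | e1 | e1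
    · exact key i f hf hf1 (Ne.symm hef) hc x hxe
    · exact absurd e1 he1
    rcases hinv f hf with ⟨i, rfl⟩ | f1 | f1
    · rcases key i e he he1 hef hc.symm x hxf with h | h | h | h
      · exact Or.inl h
      · exact Or.inr (Or.inr (Or.inl h))
      · exact Or.inr (Or.inl h)
      · exact Or.inr (Or.inr (Or.inr (h.trans hc.symm)))
    · exact absurd f1 hf1
    · exact absurd (e1.trans f1.symm) hef
  · have e : {x : DihedralGroup n // x * x = 1 ∧ x ≠ 1} ≃ Option (ZMod n) :=
      { toFun := fun x => match x.1 with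
          | .r _ => none
          | .sr i => some i
        invFun := fun o => match o with
          | none => ⟨.r h, by rw [DihedralGroup.r_mul_r, h2]; rfl, fun e => h0 (DihedralGroup.r.inj e)⟩
          | some i => ⟨.sr i, by simp, fun h => by rw [DihedralGroup.one_def] at h; cases h⟩
        left_inv := by
          rintro ⟨x, hx, hx1⟩
          rcases hinv x hx with ⟨i, rfl⟩ | h | h
          · rfl
          · exact absurd h hx1
          · subst h; rfl
        right_inv := by rintro (_ | i) <;> rfl }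
    rw [Nat.card_congr e, Finite.card_option, Nat.card_zmod]
    omega

theorem DihProps.of_equiv {D D' : Type*} [Group D] [Group D'] {z : D} (h : DihProps D z) (e : D ≃* D') :
    DihProps D' (e z) := by
  obtain ⟨hzz, hz1, hzc, hcen, hcz, hcu, ⟨r, hr, hr1, hrz⟩, hgen, hsmall, hcount⟩ := h
  have hmap : (commutator D).map e.toMonoidHom = commutator D' := by
    rw [commutator_def, Subgroup.map_commutator, Subgroup.map_top_of_surjective _ e.surjective, commutator_def]
  refine ⟨by rw [← map_mul, hzz, map_one], by simpa using hz1, fun x => ?_, fun x hx => ?_,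
    hmap ▸ ⟨z, hcz, rfl⟩, fun x hx hxx => ?_,
    ⟨e r, by rw [← map_mul, hr, map_one], by simpa using hr1, fun he => hrz (e.injective he)⟩, ?_,
    fun a b x ha hb ha1 hb1 hab hc hxa hxb => ?_, ?_⟩
  · obtain ⟨x, rfl⟩ := e.surjective x
    rw [← map_mul, ← map_mul, hzc]
  · obtain ⟨x, rfl⟩ := e.surjective x
    rcases hcen x (fun y => e.injective (by rw [map_mul, map_mul]; exact hx _)) with rfl | rfl
    · exact Or.inl (map_one e)
    · exact Or.inr rfl
  · rw [← hmap] at hx
    obtain ⟨y, hy, rfl⟩ := hx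
    change e y * e y = 1 at hxx
    rcases hcu y hy (e.injective (by rw [map_mul, map_one]; exact hxx)) with rfl | rfl
    · exact Or.inl (map_one e)
    · exact Or.inr rfl
  · rw [eq_top_iff, ← Subgroup.map_top_of_surjective e.toMonoidHom e.surjective, ← hgen, MonoidHom.map_closure]
    refine Subgroup.closure_mono ?_
    rintro _ ⟨y, hy, rfl⟩
    show e y * e y = 1
    rw [← map_mul, show y * y = 1 from hy, map_one]
  · obtain ⟨a, rfl⟩ := e.surjective a
    obtain ⟨b, rfl⟩ := e.surjective b
    obtain ⟨x, rfl⟩ := e.surjective x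
    simp only [← map_mul, e.injective.eq_iff, map_eq_one_iff _ e.injective, ne_eq] at ha hb ha1 hb1 hc hxa hxb ⊢
    exact hsmall a b x ha hb ha1 hb1 (fun h => hab (by rw [h])) hc hxa hxb
  · rw [← hcount]
    congr 1
    refine (Nat.card_congr (Equiv.subtypeEquiv e.toEquiv fun y => ?_)).symm
    show y * y = 1 ∧ y ≠ 1 ↔ e y * e y = 1 ∧ e y ≠ 1
    rw [← map_mul, map_eq_one_iff _ e.injective, Ne, Ne, map_eq_one_iff _ e.injective]

end Cfsg.Agent.TimesPSLTwo
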