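import Cfsg.Agent.Lib.TimesPSLTwo.DihedralModel

/-!
A dihedral Sylow 2-subgroup of `PSL₂` is impossible.
-/

namespace Cfsg.Agent.TimesPSLTwo

namespace Model

variable {G X : Type*} [Group G] [Group X] {t : G} {N : Subgroup G} {f : ↥N →* Z2 × X}
  {Q : Subgroup X} {z0 : ↥Q} {χ : Z2 × ↥Q →* G}

section

variable (hm : Model t N f Q z0 χ)
include hm

theorem ne_one {v : Z2 × ↥Q} (h : v ≠ 1) : χ v ≠ 1 := fun e => h (hm.inj (e.trans (map_one χ).symm))

theorem isK_iff {v : Z2 × ↥Q} : Loc.IsK N f (χ v) ↔ v.1 = 1 ∧ v.2 * v.2 = 1 ∧ v.2 ≠ 1 := by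
  obtain ⟨h, hf⟩ := hm.inN v
  constructor
  · rintro ⟨h', hxx, hx1, hfst⟩
    rw [hf] at hfst
    have hv : v * v = 1 := hm.inj (by rw [map_mul, map_one]; exact hxx)
    exact ⟨hfst, congrArg Prod.snd hv, fun e => hx1 (by rw [show v = 1 from Prod.ext hfst e, map_one])⟩
  · rintro ⟨h1, h2, h3⟩
    refine ⟨h, by rw [← map_mul, show v * v = 1 from Prod.ext (z2_sq _) h2, map_one],
      hm.ne_one fun e => h3 (congrArg Prod.snd e), by rw [hf]; exact h1⟩

theorem range_le : χ.range ≤ Subgroup.centralizer ({t} : Set G) := by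
  rintro _ ⟨v, rfl⟩
  exact hm.loc.le (hm.inN v).choose

theorem isPGroup : IsPGroup 2 ↥χ.range := by
  rintro ⟨_, v, rfl⟩
  obtain ⟨j, hj⟩ := hm.pq v.2
  refine ⟨j + 1, Subtype.ext ?_⟩
  rw [Subgroup.coe_pow, Subgroup.coe_one, ← map_pow, show v ^ 2 ^ (j + 1) = 1 from Prod.ext ?_ ?_, map_one]
  · show v.1 ^ 2 ^ (j + 1) = 1
    rw [pow_succ, pow_mul, pow_two, z2_sq]
  · show v.2 ^ 2 ^ (j + 1) = 1
    rw [pow_succ, pow_mul, hj, one_pow]

theorem card_range : Nat.card ↥χ.range = 2 * Nat.card ↥Q := by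
  rw [Nat.card_congr (MonoidHom.ofInjective hm.inj).symm.toEquiv, Nat.card_prod]
  simp

theorem small [Finite G] {R : Subgroup G} (hR : IsPGroup 2 ↥R) {u : G} (hu : IsConj t u)
    (hC : R ≤ Subgroup.centralizer ({u} : Set G)) : Nat.card ↥R ≤ Nat.card ↥χ.range := by
  obtain ⟨g, hg⟩ := isConj_iff.1 hu
  obtain ⟨c, -, hc⟩ := hm.maxP (R.map (MulAut.conj g⁻¹).toMonoidHom) (hR.map _) (by
    rintro _ ⟨x, hx, rfl⟩
    rw [Subgroup.mem_centralizer_singleton_iff]
    have h1 := Subgroup.mem_centralizer_singleton_iff.1 (hC hx)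
    rw [← hg] at h1
    simp only [MulEquiv.coe_toMonoidHom, MulAut.conj_apply, inv_inv]
    calc g⁻¹ * x * g * t = g⁻¹ * (x * (g * t * g⁻¹)) * g := by group
      _ = g⁻¹ * (g * t * g⁻¹ * x) * g := by rw [h1]
      _ = _ := by group)
  refine Nat.card_le_card_of_injective
    (fun x : ↥R => (⟨c * (g⁻¹ * x * g) * c⁻¹, by simpa using hc _ ⟨x, x.2, rfl⟩⟩ : ↥χ.range))
    fun x y h => Subtype.ext ?_
  exact mul_left_cancel (mul_right_cancel (mul_left_cancel (mul_right_cancel (congrArg Subtype.val h))))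

theorem mem_center {v : Z2 × ↥Q} (h : ∀ w, χ v * χ w = χ w * χ v) : v.2 = 1 ∨ v.2 = z0 :=
  hm.dih.center _ fun y => congrArg Prod.snd (hm.inj ((map_mul χ v (1, y)).trans ((h (1, y)).trans (map_mul χ _ _).symm)))

theorem derived_spec : χ (1, z0) ∈ ⁅χ.range, χ.range⁆ ∧
    ∀ x ∈ ⁅χ.range, χ.range⁆, x * x = 1 → x = 1 ∨ x = χ (1, z0) := by
  have he : ⁅χ.range, χ.range⁆ = (commutator (Z2 × ↥Q)).map χ := by
    rw [commutator_def, Subgroup.map_commutator, ← MonoidHom.range_eq_map]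
  rw [he]
  constructor
  · refine ⟨_, ?_, rfl⟩
    have hc : (commutator ↥Q).map (MonoidHom.inr Z2 ↥Q) ≤ commutator (Z2 × ↥Q) := by
      rw [commutator_def, Subgroup.map_commutator]
      exact Subgroup.commutator_mono le_top le_top
    exact hc ⟨z0, hm.dih.commz, rfl⟩
  · rintro _ ⟨v, hv, rfl⟩ hxx
    have h1 : v.1 = 1 := Abelianization.commutator_subset_ker (MonoidHom.fst Z2 ↥Q) hv
    have h2 : v.2 ∈ commutator ↥Q := by
      have hc : (commutator (Z2 × ↥Q)).map (MonoidHom.snd Z2 ↥Q) ≤ commutator ↥Q := by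
        rw [commutator_def, Subgroup.map_commutator]
        exact Subgroup.commutator_mono le_top le_top
      exact hc ⟨v, hv, rfl⟩
    have hv2 : v * v = 1 := hm.inj (by rw [map_mul, map_one]; exact hxx)
    rcases hm.dih.commu _ h2 (congrArg Prod.snd hv2) with h | h
    · exact Or.inl (by rw [show v = 1 from Prod.ext h1 h, map_one])
    · exact Or.inr (by rw [show v = (1, z0) from Prod.ext h1 h])

/-- Rotations lift to `C(t)`. -/
theorem rotation [Finite G] {p q : ↥Q} (hp : p * p = 1) (hq : q * q = 1) (hp1 : p ≠ 1) (hq1 : q ≠ 1)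
    (hne : p ≠ q) (hc : p * q = q * p) :
    ∃ s ∈ Subgroup.centralizer ({t} : Set G),
      s * χ (1, p) * s⁻¹ = χ (1, q) ∧ s * χ (1, q) * s⁻¹ = χ (1, p * q) := by
  classical
  have ho : ∀ p : ↥Q, p * p = 1 → p ≠ 1 → orderOf (p : X) = 2 := fun p hp hp1 => by
    rw [Subgroup.orderOf_coe]
    exact orderOf_eq_prime (by rw [pow_two, hp]) hp1
  obtain ⟨w, hwp, hwq⟩ := hm.rot (p : X) (q : X) (ho p hp hp1) (ho q hq hq1) (fun e => hne (Subtype.ext e))
    (congrArg Subtype.val hc)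
  let ι : ↥Q →* ↥N := ((χ.comp (MonoidHom.inr Z2 ↥Q))).codRestrict N fun x => (hm.inN _).choose
  have hι : ∀ x : ↥Q, f (ι x) = (1, (x : X)) := fun x => (hm.inN (1, x)).choose_spec
  have hιinj : Function.Injective ι := fun a b h =>
    congrArg Prod.snd (hm.inj (show χ (1, a) = χ (1, b) from congrArg Subtype.val h))
  set U : Subgroup ↥N := (Subgroup.closure ({p, q} : Set ↥Q)).map ι with hU
  have hU2 : IsPGroup 2 ↥U := (hm.pq.to_subgroup _).map _
  have hwm : ∀ x ∈ Subgroup.closure ({p, q} : Set ↥Q), ∃ y ∈ Subgroup.closure ({p, q} : Set ↥Q),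
      w * (x : X) * w⁻¹ = (y : X) := by
    intro x hx
    induction hx using Subgroup.closure_induction with
    | mem x hx =>
      rcases hx with rfl | rfl
      · exact ⟨q, Subgroup.subset_closure (Or.inr rfl), hwp⟩
      · exact ⟨p * x, mul_mem (Subgroup.subset_closure (Or.inl rfl)) (Subgroup.subset_closure (Or.inr rfl)), hwq⟩
    | one => exact ⟨1, one_mem _, by simp⟩
    | mul a b _ _ ha hb =>
      obtain ⟨a', ha', ea⟩ := ha
      obtain ⟨b', hb', eb⟩ := hb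
      exact ⟨a' * b', mul_mem ha' hb', by rw [Subgroup.coe_mul, Subgroup.coe_mul, ← ea, ← eb]; group⟩
    | inv a _ ha =>
      obtain ⟨a', ha', ea⟩ := ha
      exact ⟨a'⁻¹, inv_mem ha', by rw [Subgroup.coe_inv, Subgroup.coe_inv, ← ea]; group⟩
  have : Finite ↥(U.map f) :=
    Finite.of_surjective (fun x : ↥U => (⟨f x, x, x.2, rfl⟩ : ↥(U.map f))) fun ⟨_, x, hx, e⟩ => ⟨⟨x, hx⟩, Subtype.ext e⟩
  have hmN : ((1 : Z2), w) ∈ Subgroup.normalizer ((U.map f : Subgroup (Z2 × X)) : Set (Z2 × X)) := by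
    rw [← Transfer.Fusion.map_conj_eq_self_iff]
    refine Subgroup.eq_of_le_of_card_ge ?_ (Subgroup.card_map_of_injective (MulAut.conj _).injective).ge
    rintro _ ⟨_, ⟨_, ⟨x, hx, rfl⟩, rfl⟩, rfl⟩
    obtain ⟨y, hy, e⟩ := hwm x hx
    refine ⟨ι y, ⟨y, hy, rfl⟩, ?_⟩
    rw [hι, MulEquiv.coe_toMonoidHom, MulAut.conj_apply, hι, ← e]
    simp
  obtain ⟨n, hn, hfn⟩ := hm.loc.lift_normalizer hU2 hmN
  have key : ∀ (x y : ↥Q), x ∈ Subgroup.closure ({p, q} : Set ↥Q) → y ∈ Subgroup.closure ({p, q} : Set ↥Q) →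
      w * (x : X) * w⁻¹ = (y : X) → (n : G) * χ (1, x) * (n : G)⁻¹ = χ (1, y) := by
    intro x y hx hy e
    have h1 : n * ι x * n⁻¹ ∈ U := (Subgroup.mem_normalizer_iff.1 hn _).1 ⟨x, hx, rfl⟩
    have h2 := hm.loc.inj hU2 h1 (⟨y, hy, rfl⟩ : ι y ∈ U) (by
      rw [map_mul, map_mul, map_inv, hfn, hι, hι, ← e]; simp)
    exact congrArg Subtype.val h2
  exact ⟨n, hm.loc.le n.2,
    key p q (Subgroup.subset_closure (Or.inl rfl)) (Subgroup.subset_closure (Or.inr rfl)) hwp,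
    key q (p * q) (Subgroup.subset_closure (Or.inr rfl))
      (mul_mem (Subgroup.subset_closure (Or.inl rfl)) (Subgroup.subset_closure (Or.inr rfl))) hwq⟩

/-- At most eight elements of the Sylow subgroup centralise a four group of involutions off `t`. -/
theorem cent_four [Finite G] {R : Subgroup G} (hR : R ≤ χ.range) {a b : G} (ha : Loc.IsK N f a)
    (hb : Loc.IsK N f b) (haP : a ∈ χ.range) (hbP : b ∈ χ.range) (hne : a ≠ b) (hc : a * b = b * a)
    (hca : ∀ x ∈ R, x * a = a * x) (hcb : ∀ x ∈ R, x * b = b * x) : Nat.card ↥R ≤ 8 := by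
  classical
  obtain ⟨u, rfl⟩ := haP
  obtain ⟨v, rfl⟩ := hbP
  obtain ⟨hu1, huu, hu2⟩ := hm.isK_iff.1 ha
  obtain ⟨hv1, hvv, hv2⟩ := hm.isK_iff.1 hb
  have huv : u.2 ≠ v.2 := fun e => hne (by rw [show u = v from Prod.ext (hu1.trans hv1.symm) e])
  have hcq : u.2 * v.2 = v.2 * u.2 :=
    congrArg Prod.snd (hm.inj ((map_mul χ u v).trans (hc.trans (map_mul χ v u).symm)))
  let g : Z2 × Fin 4 → G := fun i => χ (i.1, ![1, u.2, v.2, u.2 * v.2] i.2)
  have hsub : ∀ x ∈ R, x ∈ Set.range g := by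
    intro x hx
    obtain ⟨r, rfl⟩ := hR hx
    have h1 : r.2 * u.2 = u.2 * r.2 :=
      congrArg Prod.snd (hm.inj ((map_mul χ r u).trans ((hca _ hx).trans (map_mul χ u r).symm)))
    have h2 : r.2 * v.2 = v.2 * r.2 :=
      congrArg Prod.snd (hm.inj ((map_mul χ r v).trans ((hcb _ hx).trans (map_mul χ v r).symm)))
    rcases hm.dih.small _ _ _ huu hvv hu2 hv2 huv hcq h1 h2 with h | h | h | h
    · exact ⟨(r.1, 0), congrArg χ (Prod.ext rfl h.symm)⟩
    · exact ⟨(r.1, 1), congrArg χ (Prod.ext rfl h.symm)⟩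
    · exact ⟨(r.1, 2), congrArg χ (Prod.ext rfl h.symm)⟩
    · exact ⟨(r.1, 3), congrArg χ (Prod.ext rfl h.symm)⟩
  calc Nat.card ↥R ≤ Nat.card ↥(Set.range g) :=
        Nat.card_le_card_of_injective (fun x : ↥R => (⟨x, hsub x x.2⟩ : ↥(Set.range g))) fun a b h =>
          Subtype.ext (congrArg (fun z : ↥(Set.range g) => (z : G)) h)
    _ ≤ Nat.card (Z2 × Fin 4) := Nat.card_le_card_of_surjective _ Set.rangeFactorization_surjective
    _ = 8 := by simp

/-- The number of involutions in the kernel of the first coordinate is `1` modulo `4`. -/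
theorem count_K [Finite G] : Nat.card {x : G // Loc.IsK N f x} % 4 = 1 := by
  classical
  have : Fintype G := Fintype.ofFinite G
  have : Fact (Nat.Prime 2) := ⟨Nat.prime_two⟩
  let Din : Subgroup G := (χ.comp (MonoidHom.inr Z2 ↥Q)).range
  let K1 := {x : G // Loc.IsK N f x ∧ x ∈ Din}
  let K2 := {x : G // Loc.IsK N f x ∧ x ∉ Din}
  have hsum : Nat.card {x : G // Loc.IsK N f x} = Nat.card K1 + Nat.card K2 := by
    rw [← Nat.card_sum]
    refine (Nat.card_congr ?_).symm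
    refine Equiv.ofBijective (Sum.elim (fun x => ⟨x.1, x.2.1⟩) (fun x => ⟨x.1, x.2.1⟩)) ⟨?_, fun x => ?_⟩
    · rintro (a | a) (b | b) h <;> have h' := congrArg Subtype.val h
      · exact congrArg Sum.inl (Subtype.ext h')
      · exact absurd ((show a.1 = b.1 from h') ▸ a.2.2) b.2.2
      · exact absurd ((show b.1 = a.1 from h'.symm) ▸ b.2.2) a.2.2
      · exact congrArg Sum.inr (Subtype.ext h')
    · by_cases h : x.1 ∈ Din
      · exact ⟨Sum.inl ⟨x.1, x.2, h⟩, rfl⟩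
      · exact ⟨Sum.inr ⟨x.1, x.2, h⟩, rfl⟩
  have hK1 : Nat.card K1 = Nat.card {p : ↥Q // p * p = 1 ∧ p ≠ 1} := by
    refine (Nat.card_eq_of_bijective
      (fun p => ⟨χ (1, p.1), hm.isK_iff.2 ⟨rfl, p.2.1, p.2.2⟩, p.1, rfl⟩) ⟨fun a b h => ?_, ?_⟩).symm
    · exact Subtype.ext (congrArg Prod.snd (hm.inj (congrArg Subtype.val h)))
    · rintro ⟨_, hK, p, rfl⟩
      obtain ⟨-, hpp, hp1⟩ := hm.isK_iff.1 hK
      exact ⟨⟨p, hpp, hp1⟩, Subtype.ext rfl⟩
  let act : ↥Din → K2 → K2 := fun d k => ⟨d * k.1 * (d : G)⁻¹,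
    hm.loc.isK_conj (hm.range_le ⟨(1, d.2.choose), d.2.choose_spec⟩) k.2.1, fun h => k.2.2 (by
      have := mul_mem (mul_mem (inv_mem d.2) h) d.2
      rwa [show (d : G)⁻¹ * ((d : G) * k.1 * (d : G)⁻¹) * d = k.1 by group] at this)⟩
  let _ : MulAction ↥Din K2 :=
    { smul := act
      one_smul := fun k => Subtype.ext (show ((1 : ↥Din) : G) * k.1 * ((1 : ↥Din) : G)⁻¹ = k.1 by simp)
      mul_smul := fun a b k => Subtype.ext (by
        show ((a * b : ↥Din) : G) * k.1 * ((a * b : ↥Din) : G)⁻¹ = (a : G) * ((b : G) * k.1 * (b : G)⁻¹) * (a : G)⁻¹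
        simp only [Subgroup.coe_mul]; group) }
  have horb : ∀ k : K2, 4 ∣ Nat.card (MulAction.orbit ↥Din k) := by
    intro k
    rw [← Nat.card_congr (MulAction.orbitEquivQuotientStabilizer ↥Din k).symm, ← Subgroup.index_eq_card]
    have hDin : IsPGroup 2 ↥Din := hm.isPGroup.to_le (by rintro _ ⟨p, rfl⟩; exact ⟨(1, p), rfl⟩)
    obtain ⟨n, hn⟩ := IsPGroup.index hDin (MulAction.stabilizer ↥Din k)
    rcases Nat.lt_or_ge n 2 with hn2 | hn2
    swap
    · rw [hn]; exact (show 4 = 2 ^ 2 by norm_num) ▸ pow_dvd_pow 2 hn2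
    exfalso
    -- a Sylow subgroup containing `k` and the stabiliser
    let U0 : Subgroup ↥Q := (MulAction.stabilizer ↥Din k).comap
      ((χ.comp (MonoidHom.inr Z2 ↥Q)).rangeRestrict)
    have hU0 : U0.index = 2 ^ n := by
      rw [Subgroup.index_comap_of_surjective _ (MonoidHom.rangeRestrict_surjective _), hn]
    set U : Subgroup G := ((⊤ : Subgroup Z2).prod U0).map χ with hUdef
    have hUc : Nat.card ↥χ.range ≤ 2 * Nat.card ↥U := by
      rw [hm.card_range, Subgroup.card_map_of_injective hm.inj,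
        Nat.card_congr ((⊤ : Subgroup Z2).prodEquiv U0).toEquiv, Nat.card_prod, ← U0.card_mul_index, hU0,
        Subgroup.card_top, show Nat.card Z2 = 2 by simp]
      have : 2 ^ n ≤ 2 ^ 1 := Nat.pow_le_pow_right two_pos (by omega)
      nlinarith
    have hkt : t * k.1 = k.1 * t := (Subgroup.mem_centralizer_singleton_iff.1 (hm.loc.le k.2.1.choose)).symm
    have hcent : ∀ u ∈ U, u * k.1 = k.1 * u := by
      rintro _ ⟨⟨a, p⟩, ⟨-, hp⟩, rfl⟩
      have h1 : χ (1, p) * k.1 * (χ (1, p))⁻¹ = k.1 := congrArg Subtype.val (MulAction.mem_stabilizer_iff.1 hp)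
      have h2 : Commute (χ (1, p)) k.1 := mul_inv_eq_iff_eq_mul.1 h1
      rw [show ((a, p) : Z2 × ↥Q) = (a, 1) * (1, p) by simp, map_mul]
      refine (Commute.mul_left ?_ h2).eq
      rcases z2_cases a with rfl | rfl
      · rw [show ((1 : Z2), (1 : ↥Q)) = 1 from rfl, map_one]; exact Commute.one_left _
      · rw [hm.tχ]; exact hkt
    have hkU : k.1 ∉ U := by
      rintro ⟨v, -, hv⟩
      obtain ⟨h1, -, -⟩ := hm.isK_iff.1 (hv ▸ k.2.1 : Loc.IsK N f (χ v))
      exact k.2.2 ⟨v.2, hv ▸ congrArg χ (Prod.ext h1.symm rfl)⟩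
    have hUR : U ≤ χ.range := Subgroup.map_le_range _ _
    have hkk : k.1 * k.1 = 1 := k.2.1.choose_spec.1
    have hnorm : Subgroup.zpowers k.1 ≤ Subgroup.normalizer (U : Set G) :=
      Subgroup.zpowers_le.2 (Subgroup.mem_normalizer_iff.2 fun u =>
        ⟨fun hu => by rwa [← hcent u hu, mul_inv_cancel_right], fun hu => by
          have h := hcent _ hu
          rw [show u = k.1 * u * k.1⁻¹ by
            calc u = k.1⁻¹ * (k.1 * u * k.1⁻¹ * k.1) := by group
              _ = k.1⁻¹ * (k.1 * (k.1 * u * k.1⁻¹)) := by rw [h]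
              _ = _ := by group]
          exact hu⟩)
    have hW2 : IsPGroup 2 ↥(U ⊔ Subgroup.zpowers k.1) :=
      (hm.isPGroup.to_le hUR).to_sup_of_normal_left'
        (IsPGroup.of_card (n := 1) (by
          rw [Nat.card_zpowers, pow_one]; exact orderOf_eq_prime (by rw [pow_two, hkk]) k.2.1.choose_spec.2.1))
        hnorm
    have hWC : U ⊔ Subgroup.zpowers k.1 ≤ Subgroup.centralizer ({t} : Set G) :=
      sup_le (hUR.trans hm.range_le) (Subgroup.zpowers_le.2 (hm.loc.le k.2.1.choose))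
    obtain ⟨c, hcC, hc⟩ := hm.maxP _ hW2 hWC
    set W := U ⊔ Subgroup.zpowers k.1 with hW
    have hUW : U < W := lt_of_le_of_ne le_sup_left fun e =>
      hkU (e ▸ Subgroup.mem_sup_right (Subgroup.mem_zpowers _))
    have hcardW : 2 * Nat.card ↥U ≤ Nat.card ↥W := by
      have h1 := (U.subgroupOf W).card_mul_index
      rw [Nat.card_congr (Subgroup.subgroupOfEquivOfLe hUW.le).toEquiv] at h1
      have h3 : (U.subgroupOf W).index ≠ 1 := fun e =>
        hUW.not_ge (Subgroup.subgroupOf_eq_top.1 (Subgroup.index_eq_one.1 e))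
      have h4 := Nat.pos_of_ne_zero (Subgroup.index_ne_zero_of_finite (H := U.subgroupOf W))
      have h5 : Nat.card ↥U * 2 ≤ Nat.card ↥U * (U.subgroupOf W).index :=
        Nat.mul_le_mul_left _ (by omega)
      omega
    have heq : W.map (MulAut.conj c).toMonoidHom = χ.range :=
      Subgroup.eq_of_le_of_card_ge (by rintro _ ⟨x, hx, rfl⟩; exact hc x hx) (by
        rw [Subgroup.card_map_of_injective (MulAut.conj c).injective]
        exact hUc.trans hcardW)
    -- `k` is central in it, so it is `z`, which is a commutator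
    have hkcent : ∀ y ∈ W, y * k.1 = k.1 * y := fun y hy => by
      have : W ≤ Subgroup.centralizer ({k.1} : Set G) :=
        sup_le (fun u hu => Subgroup.mem_centralizer_singleton_iff.2 (hcent u hu))
          (Subgroup.zpowers_le.2 (Subgroup.mem_centralizer_singleton_iff.2 rfl))
      exact Subgroup.mem_centralizer_singleton_iff.1 (this hy)
    obtain ⟨v, hv⟩ : c * k.1 * c⁻¹ ∈ χ.range := hc _ (Subgroup.mem_sup_right (Subgroup.mem_zpowers _))
    have hvz : v = (1, z0) := by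
      obtain ⟨h1, -, h3⟩ := hm.isK_iff.1 (hv ▸ hm.loc.isK_conj hcC k.2.1 : Loc.IsK N f (χ v))
      refine Prod.ext h1 ((hm.mem_center fun w => ?_).resolve_left h3)
      obtain ⟨y, hy, hye⟩ : χ w ∈ W.map (MulAut.conj c).toMonoidHom := heq ▸ ⟨w, rfl⟩
      rw [hv, ← hye]
      simp only [MulEquiv.coe_toMonoidHom, MulAut.conj_apply]
      calc c * k.1 * c⁻¹ * (c * y * c⁻¹) = c * (k.1 * y) * c⁻¹ := by group
        _ = c * (y * k.1) * c⁻¹ := by rw [hkcent y hy]
        _ = _ := by group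
    have hWW : ⁅W, W⁆ ≤ U := by
      have hdec : ∀ a ∈ W, ∃ a' ∈ U, ∃ i : ℤ, a = a' * k.1 ^ i := by
        intro a ha
        rw [hW, ← SetLike.mem_coe, Subgroup.coe_mul_of_right_le_normalizer_left _ _ hnorm] at ha
        obtain ⟨a', ha', _, ⟨i, rfl⟩, rfl⟩ := Set.mem_mul.1 ha
        exact ⟨a', ha', i, rfl⟩
      refine Subgroup.commutator_le.2 fun a ha b hb => ?_
      rw [commutatorElement_def]
      obtain ⟨a', ha', i, rfl⟩ := hdec a ha
      obtain ⟨b', hb', l, rfl⟩ := hdec b hb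
      have e1 : Commute (k.1 ^ i) b' :=
        (show Commute k.1 b' from (hkcent b' (Subgroup.mem_sup_left hb')).symm).zpow_left i
      have e2 : Commute (k.1 ^ l) a' :=
        (show Commute k.1 a' from (hkcent a' (Subgroup.mem_sup_left ha')).symm).zpow_left l
      have e3 : Commute (k.1 ^ i) (k.1 ^ l) := (Commute.refl _).zpow_zpow _ _
      have hab : a' * k.1 ^ i * (b' * k.1 ^ l) = a' * b' * (k.1 ^ i * k.1 ^ l) := by
        rw [mul_assoc a', ← mul_assoc (k.1 ^ i), e1.eq]; group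
      have hba : b' * k.1 ^ l * (a' * k.1 ^ i) = b' * a' * (k.1 ^ i * k.1 ^ l) := by
        rw [mul_assoc b', ← mul_assoc (k.1 ^ l), e2.eq, mul_assoc a', ← e3.eq]; group
      rw [show a' * k.1 ^ i * (b' * k.1 ^ l) * (a' * k.1 ^ i)⁻¹ * (b' * k.1 ^ l)⁻¹ =
        a' * k.1 ^ i * (b' * k.1 ^ l) * (b' * k.1 ^ l * (a' * k.1 ^ i))⁻¹ by group, hab, hba,
        show a' * b' * (k.1 ^ i * k.1 ^ l) * (b' * a' * (k.1 ^ i * k.1 ^ l))⁻¹ = a' * b' * (b' * a')⁻¹ by group]
      exact mul_mem (mul_mem ha' hb') (inv_mem (mul_mem hb' ha'))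
    obtain ⟨y, hy, hye⟩ : c * k.1 * c⁻¹ ∈ ⁅W, W⁆.map (MulAut.conj c).toMonoidHom := by
      rw [Subgroup.map_commutator, heq, ← hv, hvz]
      exact hm.derived_spec.1
    simp only [MulEquiv.coe_toMonoidHom, MulAut.conj_apply] at hye
    rw [mul_left_cancel (mul_right_cancel hye)] at hy
    exact hkU (hWW hy)
  have hK2 : 4 ∣ Nat.card K2 := by
    have : Fintype (Quotient (MulAction.orbitRel ↥Din K2)) := Fintype.ofFinite _
    rw [Nat.card_congr (MulAction.selfEquivSigmaOrbits ↥Din K2), Nat.card_sigma]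
    exact Finset.dvd_sum fun q _ => horb _
  rw [hsum, hK1, Nat.add_mod, hm.dih.count, Nat.mod_eq_zero_of_dvd hK2]


end

end Model

end Cfsg.Agent.TimesPSLTwo
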