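import Cfsg.Agent.Lib.TimesPSLTwo.Dihedral

/-!
Counting the class of `t` in the dihedral case.
-/

namespace Cfsg.Agent.TimesPSLTwo

namespace Model

variable {G X : Type*} [Group G] [Finite G] [Group X] {t : G} {N : Subgroup G} {f : ↥N →* Z2 × X}
  {Q : Subgroup X} {z0 : ↥Q} {χ : Z2 × ↥Q →* G} (hm : Model t N f Q z0 χ)

include hm

/-- Only half of the conjugates of `t` outside `C(t)` are moved in pairs. -/
theorem sign_count (hsimp : IsSimpleGroup G) (hna : ¬ IsMulCommutative G) :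
    4 ∣ Nat.card {x : G // IsConj t x} - Nat.card {x : G // IsConj t x ∧ t * x = x * t} := by
  classical
  have : Fintype G := Fintype.ofFinite G
  let Ω := {x : G // IsConj t x}
  let θ : G →* Equiv.Perm Ω :=
    { toFun := fun g =>
        { toFun := fun x => ⟨g * x.1 * g⁻¹, x.2.trans (isConj_iff.2 ⟨g, rfl⟩)⟩
          invFun := fun x => ⟨g⁻¹ * x.1 * g, x.2.trans (isConj_iff.2 ⟨g⁻¹, by group⟩)⟩
          left_inv := fun x => Subtype.ext (by simp only; group)
          right_inv := fun x => Subtype.ext (by simp only; group) }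
      map_one' := Equiv.ext fun x => Subtype.ext (by simp)
      map_mul' := fun a b => Equiv.ext fun x => Subtype.ext (by simp [mul_assoc]) }
  have hone : ∀ g, Equiv.Perm.sign (θ g) = 1 := by
    rcases IsSimpleGroup.eq_bot_or_eq_top_of_normal (Equiv.Perm.sign.comp θ).ker inferInstance with h | h
    · exfalso
      have hinj := (MonoidHom.ker_eq_bot_iff _).1 h
      exact hna ⟨⟨fun a b => hinj (by rw [map_mul, map_mul, mul_comm])⟩⟩
    · intro g
      exact MonoidHom.mem_ker.1 (h ▸ Subgroup.mem_top g : g ∈ (Equiv.Perm.sign.comp θ).ker)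
  set σ := θ t with hσ
  have hσ2 : σ ^ 2 = 1 := by
    rw [hσ, ← map_pow, pow_two, hm.loc.tt, map_one]
  have heven : 4 ∣ σ.support.card := by
    rcases eq_or_ne σ 1 with h | h
    · rw [h]; simp
    obtain ⟨n, hn⟩ : ∃ n, σ.cycleType = Multiset.replicate n 2 := by
      refine ⟨σ.cycleType.card, Multiset.eq_replicate.2 ⟨rfl, fun b hb => ?_⟩⟩
      have h1 : b ∣ orderOf σ := Equiv.Perm.dvd_of_mem_cycleType hb
      have h2 : 2 ≤ b := Equiv.Perm.two_le_of_mem_cycleType hb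
      have h3 := Nat.le_of_dvd two_pos (h1.trans (orderOf_dvd_of_pow_eq_one hσ2))
      omega
    have hs := hone t
    rw [← hσ, Equiv.Perm.sign_of_cycleType, hn, Multiset.sum_replicate, Multiset.card_replicate, smul_eq_mul,
      pow_add] at hs
    have hsc : σ.support.card = n * 2 := by
      rw [← Equiv.Perm.sum_cycleType, hn, Multiset.sum_replicate, smul_eq_mul]
    rcases Nat.even_or_odd n with ⟨r, hr⟩ | hodd
    · rw [hsc, hr]; exact ⟨r, by ring⟩
    · exfalso
      rw [pow_mul, hodd.neg_one_pow] at hs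
      simp at hs
  have hfix : Nat.card {x : G // IsConj t x ∧ t * x = x * t} = (σ.supportᶜ).card := by
    rw [← Nat.card_eq_finsetCard]
    refine Nat.card_congr
      { toFun := fun x => ⟨⟨x.1, x.2.1⟩, Finset.mem_compl.2 (Equiv.Perm.notMem_support.2 (Subtype.ext ?_))⟩
        invFun := fun x => ⟨x.1.1, x.1.2, ?_⟩
        left_inv := fun x => rfl
        right_inv := fun x => rfl }
    · show t * x.1 * t⁻¹ = x.1
      rw [x.2.2, mul_inv_cancel_right]
    · have h1 := congrArg Subtype.val (Equiv.Perm.notMem_support.1 (Finset.mem_compl.1 x.2))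
      have h2 : t * x.1.1 * t⁻¹ = x.1.1 := h1
      exact mul_inv_eq_iff_eq_mul.1 h2
  rw [hfix, Nat.card_eq_fintype_card, ← Finset.card_add_card_compl σ.support, Nat.add_sub_cancel]
  exact heven

theorem contra (hsimp : IsSimpleGroup G) (hna : ¬ IsMulCommutative G)
    (hG : ∀ H : Subgroup G, H.index ≠ 2) : False := by
  classical
  have : Fact (Nat.Prime 2) := ⟨Nat.prime_two⟩
  set P : Subgroup G := χ.range with hP
  have hPm : ∀ v, χ v ∈ P := fun v => ⟨v, rfl⟩
  have hcomm : ∀ v, t * χ v = χ v * t := fun v =>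
    (Subgroup.mem_centralizer_singleton_iff.1 (hm.range_le (hPm v))).symm
  set z : G := χ (1, z0) with hz
  have hzK : Loc.IsK N f z := hm.isK_iff.2 ⟨rfl, hm.dih.zz, hm.dih.z1⟩
  have hclassK : ∀ k, Loc.IsK N f k → IsConj k z := fun k hk => by
    obtain ⟨c, -, hc⟩ := hm.loc.isK_class hm.cls hk hzK
    exact isConj_iff.2 ⟨c, hc⟩
  have hzc : ∀ v, z * χ v = χ v * z := fun v => by
    rw [hz, ← map_mul, ← map_mul]
    exact congrArg χ (Prod.ext (mul_comm _ _) (hm.dih.zc v.2).symm)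
  have htz : t ≠ z := fun e => one2_ne (congrArg Prod.fst (hm.inj (hm.tχ.trans e)))
  have hz1 : z ≠ 1 := hm.ne_one fun e => hm.dih.z1 (congrArg Prod.snd e)
  have hzfix : ∀ n ∈ Subgroup.normalizer (P : Set G), n * z * n⁻¹ = z := fun n hn => by
    have h1 : n * z * n⁻¹ ∈ ⁅P, P⁆ :=
      (Subgroup.mem_normalizer_iff.1 (normalizer_le_commutator hn) z).1 hm.derived_spec.1
    refine (hm.derived_spec.2 _ h1 ?_).resolve_left fun e => hz1 (conj_eq_one_iff.1 e)
    rw [show n * z * n⁻¹ * (n * z * n⁻¹) = n * (z * z) * n⁻¹ by group, hz, ← map_mul,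
      show ((1 : Z2), z0) * ((1 : Z2), z0) = 1 from Prod.ext (one_mul _) hm.dih.zz, map_one, mul_one,
      mul_inv_cancel]
  obtain ⟨S0, hS0⟩ := hm.isPGroup.exists_le_sylow
  by_cases hS : (S0 : Subgroup G) = P
  · let D : Subgroup G := (χ.comp (MonoidHom.inr Z2 ↥Q)).range
    have hDP : D ≤ P := by rintro _ ⟨q, rfl⟩; exact hPm _
    obtain ⟨g, hg⟩ := Involutions.ThompsonTransfer.exists_conj_mem hG S0 D (hS ▸ hDP) (by
      rw [hS, Subgroup.relIndex]
      have h1 := (D.subgroupOf P).card_mul_index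
      rw [Nat.card_congr (Subgroup.subgroupOfEquivOfLe hDP).toEquiv, hP, hm.card_range, mul_comm 2,
        show Nat.card ↥D = Nat.card ↥Q from (Nat.card_congr (MonoidHom.ofInjective
          (f := χ.comp (MonoidHom.inr Z2 ↥Q)) fun a b h => congrArg Prod.snd (hm.inj h)).toEquiv).symm] at h1
      exact Nat.eq_of_mul_eq_mul_left (by have := hm.big; omega) h1) t hm.loc.ot
    obtain ⟨q, hq⟩ := hg
    have hK : Loc.IsK N f (g * t * g⁻¹) := by
      have e : χ (1, q) = g * t * g⁻¹ := hq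
      rw [← e]
      refine hm.isK_iff.2 ⟨rfl, congrArg Prod.snd (hm.inj (a₁ := (1, q) * (1, q)) (a₂ := 1) ?_), fun h1 => ?_⟩
      · rw [map_mul, map_one, e, show g * t * g⁻¹ * (g * t * g⁻¹) = g * (t * t) * g⁻¹ by group, hm.loc.tt, mul_one,
          mul_inv_cancel]
      · refine hm.loc.t_ne_one (conj_eq_one_iff.1 (e.symm.trans ?_))
        rw [show ((1 : Z2), q) = 1 from Prod.ext rfl h1, map_one]
    obtain ⟨x, hx⟩ := isConj_iff.1 ((isConj_iff.2 ⟨g, rfl⟩ : IsConj t (g * t * g⁻¹)).trans (hclassK _ hK))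
    have hcenP : ∀ y : G, (∀ v, y * χ v = χ v * y) → y ∈ Subgroup.centralizer ((S0 : Subgroup G) : Set G) := by
      intro y hy
      rw [hS, Subgroup.mem_centralizer_iff]
      rintro _ ⟨v, rfl⟩
      exact (hy v).symm
    obtain ⟨n, hn, hne⟩ := S0.conj_eq_normalizer_conj_of_mem_centralizer t x⁻¹ (hcenP t hcomm)
      (by rw [inv_inv, hx]; exact hcenP z hzc)
    rw [inv_inv, hx] at hne
    have h2 := hzfix n (by rw [← hS]; exact hn)
    rw [hne, show n * (n⁻¹ * t * n) * n⁻¹ = t by group, ← hne] at h2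
    exact htz h2
  -- an element normalising `P` outside it
  obtain ⟨x, hxS, hxN, hxP⟩ : ∃ x ∈ (S0 : Subgroup G), x ∈ Subgroup.normalizer (P : Set G) ∧ x ∉ P := by
    have hlt : P.subgroupOf S0 < ⊤ := lt_top_iff_ne_top.2 fun h =>
      hS (le_antisymm (Subgroup.subgroupOf_eq_top.1 h) hS0)
    have := S0.2.isNilpotent
    obtain ⟨y, hy, hyA⟩ := SetLike.exists_of_lt (normalizerCondition_of_isNilpotent _ hlt)
    refine ⟨y, y.2, Subgroup.mem_normalizer_iff.2 fun a => ⟨fun ha => ?_, fun ha => ?_⟩,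
      fun h => hyA (Subgroup.mem_subgroupOf.2 h)⟩
    · exact Subgroup.mem_subgroupOf.1 ((Subgroup.mem_normalizer_iff.1 hy ⟨a, hS0 ha⟩).1 (Subgroup.mem_subgroupOf.2 ha))
    · have haS : a ∈ (S0 : Subgroup G) := by
        have := mul_mem (mul_mem (inv_mem y.2) (hS0 ha)) y.2
        rwa [show (y : G)⁻¹ * ((y : G) * a * (y : G)⁻¹) * y = a by group] at this
      exact Subgroup.mem_subgroupOf.1 ((Subgroup.mem_normalizer_iff.1 hy ⟨a, haS⟩).2 (Subgroup.mem_subgroupOf.2 ha))
  have hbig : IsPGroup 2 ↥(P ⊔ Subgroup.zpowers x) := S0.2.to_le (sup_le hS0 (Subgroup.zpowers_le.2 hxS))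
  have hbiglt : Nat.card ↥P < Nat.card ↥(P ⊔ Subgroup.zpowers x) := lt_of_not_ge fun h =>
    hxP (Subgroup.eq_of_le_of_card_ge le_sup_left h ▸ Subgroup.mem_sup_right (Subgroup.mem_zpowers x))
  have hxt : x * t * x⁻¹ ≠ t := fun h => absurd (hm.small hbig (IsConj.refl t)
    (sup_le hm.range_le (Subgroup.zpowers_le.2 (Subgroup.mem_centralizer_singleton_iff.2
      (mul_inv_eq_iff_eq_mul.1 h))))) (not_le.2 hbiglt)
  have hxz := hzfix x hxN
  have hzt : ¬ IsConj t z := fun h => absurd (hm.small hbig h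
    (sup_le (by rintro _ ⟨v, rfl⟩; exact Subgroup.mem_centralizer_singleton_iff.2 (hzc v).symm)
      (Subgroup.zpowers_le.2 (Subgroup.mem_centralizer_singleton_iff.2
        (mul_inv_eq_iff_eq_mul.1 hxz))))) (not_le.2 hbiglt)
  have hKt : ∀ k, Loc.IsK N f k → ¬ IsConj t k := fun k hk h => hzt (h.trans (hclassK k hk))
  -- `x t x⁻¹ = t z`
  have hxtz : x * t * x⁻¹ = t * z := by
    have htP : t ∈ P := ⟨_, hm.tχ⟩
    obtain ⟨v, hv⟩ := (Subgroup.mem_normalizer_iff.1 hxN t).1 htP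
    have hcv : ∀ w, χ v * χ w = χ w * χ v := fun w => by
      obtain ⟨w', hw'⟩ : x⁻¹ * χ w * x ∈ P := by
        have := (Subgroup.mem_normalizer_iff.1 (inv_mem hxN) _).1 (hPm w)
        rwa [inv_inv] at this
      calc χ v * χ w = x * (t * (x⁻¹ * χ w * x)) * x⁻¹ := by rw [hv]; group
        _ = x * (x⁻¹ * χ w * x * t) * x⁻¹ := by rw [← hw', hcomm]
        _ = χ w * χ v := by rw [hv]; group
    rcases hm.mem_center hcv with h2 | h2 <;> rcases z2_cases v.1 with h1 | h1
    · exact absurd (conj_eq_one_iff.1 (hv.symm.trans (by rw [show v = 1 from Prod.ext h1 h2, map_one]))) hm.loc.t_ne_one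
    · exact absurd (hv.symm.trans (by rw [show v = (one2, 1) from Prod.ext h1 h2, hm.tχ])) hxt
    · refine absurd (isConj_iff.2 ⟨x, hv.symm.trans ?_⟩) hzt
      rw [show v = (1, z0) from Prod.ext h1 h2]
    · rw [← hv, show v = (one2, 1) * ((1 : Z2), z0) from Prod.ext (by simp [h1]) (by simp [h2]), map_mul, hm.tχ]
  have hxinv : x⁻¹ * t * x = t * z := by
    have h1 : x * (t * z) * x⁻¹ = t := by
      rw [show x * (t * z) * x⁻¹ = (x * t * x⁻¹) * (x * z * x⁻¹) by group, hxtz, hxz, mul_assoc, hz, ← map_mul,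
        show ((1 : Z2), z0) * ((1 : Z2), z0) = 1 from Prod.ext (one_mul _) hm.dih.zz, map_one, mul_one]
    calc x⁻¹ * t * x = x⁻¹ * (x * (t * z) * x⁻¹) * x := by rw [h1]
      _ = _ := by group
  -- the conjugates of `t` in `C(t)`
  have hclassC : ∀ u, IsConj t u → u ∈ Subgroup.centralizer ({t} : Set G) → u = t ∨ Loc.IsK N f (t * u) := by
    intro u hu huC
    obtain ⟨g, hg⟩ := isConj_iff.1 hu
    have huu : u * u = 1 := by
      rw [← hg, show g * t * g⁻¹ * (g * t * g⁻¹) = g * (t * t) * g⁻¹ by group, hm.loc.tt, mul_one, mul_inv_cancel]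
    have hu1 : u ≠ 1 := fun e => hm.loc.t_ne_one (conj_eq_one_iff.1 (hg.trans e))
    rcases hm.loc.t_mul_cases huC huu hu1 with h | h | h
    · exact Or.inl h
    · exact absurd hu (hKt u h)
    · exact Or.inr h
  have htK : ∀ k, Loc.IsK N f k → IsConj t (t * k) := by
    intro k hk
    obtain ⟨c, hc, hck⟩ := hm.loc.isK_class hm.cls hzK hk
    refine isConj_iff.2 ⟨c * x, ?_⟩
    rw [show c * x * t * (c * x)⁻¹ = c * (x * t * x⁻¹) * c⁻¹ by group, hxtz,
      show c * (t * z) * c⁻¹ = (c * t * c⁻¹) * (c * z * c⁻¹) by group, hck,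
      Subgroup.mem_centralizer_singleton_iff.1 hc, mul_inv_cancel_right]
  -- a reflection and its image
  obtain ⟨e0, he0, he01, he0z⟩ := hm.dih.refl
  set e : G := χ (1, e0) with hedef
  have heK : Loc.IsK N f e := hm.isK_iff.2 ⟨rfl, he0, he01⟩
  obtain ⟨v, hv⟩ := (Subgroup.mem_normalizer_iff.1 hxN e).1 (hPm _)
  have hxnot : ¬ IsConj t (χ v) := fun h => hKt e heK
    (h.trans (isConj_iff.2 ⟨x⁻¹, by rw [hv]; group⟩))
  have hxe : v.1 = 1 ∧ v.2 * v.2 = 1 ∧ v.2 ≠ 1 := by
    have huu : χ v * χ v = 1 := by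
      rw [hv, show x * e * x⁻¹ * (x * e * x⁻¹) = x * (e * e) * x⁻¹ by group, heK.choose_spec.1, mul_one,
        mul_inv_cancel]
    have hu1 : χ v ≠ 1 := fun h => heK.choose_spec.2.1 (conj_eq_one_iff.1 (hv.symm.trans h))
    rcases hm.loc.t_mul_cases (hm.range_le (hPm v)) huu hu1 with h | h | h
    · exact absurd (by rw [h]) hxnot
    · exact hm.isK_iff.1 h
    · have := htK _ h
      rw [← mul_assoc, hm.loc.tt, one_mul] at this
      exact absurd this hxnot
  obtain ⟨hv1, hvv, hv2⟩ := hxe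
  have hv' : χ v = χ (1, v.2) := congrArg χ (Prod.ext hv1 rfl)
  have hvz : v.2 ≠ z0 := fun h => he0z (congrArg Prod.snd (hm.inj (a₁ := ((1 : Z2), e0)) (a₂ := (1, z0)) (by
    refine mul_left_cancel (a := x) (mul_right_cancel (b := x⁻¹) ?_)
    show x * e * x⁻¹ = x * z * x⁻¹
    rw [hxz, ← hv, hv', h])))
  obtain ⟨s', hs'C, hs'z, hs'e⟩ := hm.rotation hm.dih.zz hvv hm.dih.z1 hv2 (Ne.symm hvz) (hm.dih.zc _).symm
  obtain ⟨s, hsC, hsz, hse⟩ := hm.rotation hm.dih.zz he0 hm.dih.z1 he01 (Ne.symm he0z) (hm.dih.zc _).symm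
  rw [← hz, ← hedef] at hsz
  rw [← hedef] at hse
  rw [show χ (1, z0 * e0) = z * e by rw [hz, hedef, ← map_mul, Prod.mk_mul_mk, one_mul]] at hse
  rw [← hz, ← hv'] at hs'z
  rw [← hv'] at hs'e
  rw [show χ (1, z0 * v.2) = z * χ v by rw [hz, ← map_mul]; exact congrArg χ (Prod.ext (by simp [hv1]) rfl)] at hs'e
  have hst : s * t * s⁻¹ = t := by rw [Subgroup.mem_centralizer_singleton_iff.1 hsC, mul_inv_cancel_right]
  have hs't : s' * t * s'⁻¹ = t := by rw [Subgroup.mem_centralizer_singleton_iff.1 hs'C, mul_inv_cancel_right]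
  have hxv : x⁻¹ * χ v * x = e := by rw [hv]; group
  have hxz' : x⁻¹ * z * x = z := by
    calc x⁻¹ * z * x = x⁻¹ * (x * z * x⁻¹) * x := by rw [hxz]
      _ = z := by group
  -- an element centralising `⟨z, e⟩` and moving `t` to `t e`
  set g := s⁻¹ * (x⁻¹ * s' * x) with hgdef
  have hgz : g * z * g⁻¹ = z := by
    calc g * z * g⁻¹ = s⁻¹ * (x⁻¹ * (s' * (x * z * x⁻¹) * s'⁻¹) * x) * s := by rw [hgdef]; group
      _ = s⁻¹ * (s * z * s⁻¹) * s := by rw [hxz, hs'z, hxv, hsz]
      _ = z := by group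
  have hge : g * e * g⁻¹ = e := by
    calc g * e * g⁻¹ = s⁻¹ * (x⁻¹ * (s' * (x * e * x⁻¹) * s'⁻¹) * x) * s := by rw [hgdef]; group
      _ = s⁻¹ * ((x⁻¹ * z * x) * (x⁻¹ * χ v * x)) * s := by rw [← hv, hs'e]; group
      _ = s⁻¹ * (s * e * s⁻¹) * s := by rw [hxz', hxv, hse]
      _ = e := by group
  have hgt : g * t * g⁻¹ = t * e := by
    calc g * t * g⁻¹ = s⁻¹ * (x⁻¹ * (s' * (x * t * x⁻¹) * s'⁻¹) * x) * s := by rw [hgdef]; group
      _ = s⁻¹ * (x⁻¹ * ((s' * t * s'⁻¹) * (s' * z * s'⁻¹)) * x) * s := by rw [hxtz]; group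
      _ = s⁻¹ * ((x⁻¹ * t * x) * (x⁻¹ * χ v * x)) * s := by rw [hs't, hs'z]; group
      _ = s⁻¹ * (t * (z * e)) * s := by simp only [hxinv, hxv, mul_assoc]
      _ = s⁻¹ * ((s * t * s⁻¹) * (s * e * s⁻¹)) * s := by rw [hst, hse]
      _ = t * e := by group
  set E : Set G := {z, e} with hEdef
  set H0 := Subgroup.centralizer E with hHdef
  have hHiff : ∀ y, y ∈ H0 ↔ y * z * y⁻¹ = z ∧ y * e * y⁻¹ = e := fun y => by
    rw [hHdef, Subgroup.mem_centralizer_iff]
    constructor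
    · intro h
      exact ⟨by rw [← h z (Or.inl rfl), mul_inv_cancel_right], by rw [← h e (Or.inr rfl), mul_inv_cancel_right]⟩
    · rintro ⟨h1, h2⟩ a (rfl | rfl)
      · exact (mul_inv_eq_iff_eq_mul.1 h1).symm
      · exact (mul_inv_eq_iff_eq_mul.1 h2).symm
  have hze : z * e = e * z := hzc _
  have hzze : z * (z * e) = e := by
    rw [← mul_assoc, hz, ← map_mul, show ((1 : Z2), z0) * ((1 : Z2), z0) = 1 from Prod.ext (one_mul _) hm.dih.zz,
      map_one, one_mul]
  have hgH : g ∈ H0 := (hHiff g).2 ⟨hgz, hge⟩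
  have hszee : s * (z * e) * s⁻¹ = z := by
    rw [show s * (z * e) * s⁻¹ = (s * z * s⁻¹) * (s * e * s⁻¹) by group, hsz, hse, hze, ← mul_assoc,
      heK.choose_spec.1, one_mul]
  have hrot : ∀ y ∈ H0, s * y * s⁻¹ ∈ H0 := fun y hy => by
    obtain ⟨h1, h2⟩ := (hHiff y).1 hy
    refine (hHiff _).2 ⟨?_, ?_⟩
    · calc s * y * s⁻¹ * z * (s * y * s⁻¹)⁻¹ = s * y * s⁻¹ * (s * (z * e) * s⁻¹) * (s * y * s⁻¹)⁻¹ := by rw [hszee]
        _ = s * ((y * z * y⁻¹) * (y * e * y⁻¹)) * s⁻¹ := by group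
        _ = z := by rw [h1, h2, hszee]
    · calc s * y * s⁻¹ * e * (s * y * s⁻¹)⁻¹ = s * y * s⁻¹ * (s * z * s⁻¹) * (s * y * s⁻¹)⁻¹ := by rw [hsz]
        _ = s * (y * z * y⁻¹) * s⁻¹ := by group
        _ = e := by rw [h1, hsz]
  set g1 := s * g * s⁻¹
  have hg1H : g1 ∈ H0 := hrot g hgH
  have hg1t : g1 * t * g1⁻¹ = t * (z * e) := by
    calc g1 * t * g1⁻¹ = s * (g * (s⁻¹ * (s * t * s⁻¹) * s) * g⁻¹) * s⁻¹ := by simp only [g1, hst]; group
      _ = (s * t * s⁻¹) * (s * e * s⁻¹) := by rw [show s⁻¹ * (s * t * s⁻¹) * s = t by group, hgt]; group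
      _ = _ := by rw [hst, hse]
  set g2 := g1 * g
  have hg2t : g2 * t * g2⁻¹ = t * z := by
    obtain ⟨-, h2⟩ := (hHiff g1).1 hg1H
    calc g2 * t * g2⁻¹ = g1 * (g * t * g⁻¹) * g1⁻¹ := by simp only [g2]; group
      _ = (g1 * t * g1⁻¹) * (g1 * e * g1⁻¹) := by rw [hgt]; group
      _ = t * (z * e) * e := by rw [hg1t, h2]
      _ = t * z := by rw [mul_assoc, mul_assoc z, heK.choose_spec.1, mul_one]
  -- the four points
  let q0 : Fin 4 → ↥Q := ![1, e0, z0 * e0, z0]
  let p : Fin 4 → G := fun i => χ (one2, q0 i)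
  have hp0 : p 0 = t := hm.tχ
  have hp1 : p 1 = t * e := by
    show χ (one2, e0) = _
    rw [hedef, ← hm.tχ, ← map_mul, Prod.mk_mul_mk, mul_one, one_mul]
  have hp2 : p 2 = t * (z * e) := by
    show χ (one2, z0 * e0) = _
    rw [hedef, hz, ← hm.tχ, ← map_mul, ← map_mul, Prod.mk_mul_mk, Prod.mk_mul_mk, mul_one, one_mul, mul_one]
  have hp3 : p 3 = t * z := by
    show χ (one2, z0) = _
    rw [hz, ← hm.tχ, ← map_mul, Prod.mk_mul_mk, mul_one, one_mul]
  have hq0mul : ∀ i l, ∃ j, q0 i * q0 l = q0 j := by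
    have z2 := hm.dih.zz
    have c1 : e0 * z0 = z0 * e0 := hm.dih.zc e0
    have c2 : z0 * (z0 * e0) = e0 := by rw [← mul_assoc, z2, one_mul]
    have c3 : e0 * (z0 * e0) = z0 := by rw [← mul_assoc, c1, mul_assoc, he0, mul_one]
    have c4 : z0 * e0 * e0 = z0 := by rw [mul_assoc, he0, mul_one]
    have c5 : z0 * e0 * z0 = e0 := by rw [mul_assoc, c1, c2]
    have c6 : z0 * e0 * (z0 * e0) = 1 := by rw [mul_assoc, c3, z2]
    intro i l
    fin_cases i <;> fin_cases l <;>
      first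
        | (refine ⟨0, ?_⟩; simp [q0, z2, he0, c1, c2, c3, c4, c5, c6]; done)
        | (refine ⟨1, ?_⟩; simp [q0, z2, he0, c1, c2, c3, c4, c5, c6]; done)
        | (refine ⟨2, ?_⟩; simp [q0, z2, he0, c1, c2, c3, c4, c5, c6]; done)
        | (refine ⟨3, ?_⟩; simp [q0, z2, he0, c1, c2, c3, c4, c5, c6]; done)
  have hq0inj : Function.Injective q0 := by
    have hze0 : z0 * e0 ≠ 1 := fun h => he0z ((inv_eq_of_mul_eq_one_right h).symm.trans
      (inv_eq_of_mul_eq_one_right hm.dih.zz))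
    intro i l h
    fin_cases i <;> fin_cases l <;>
      simp [q0, he01, Ne.symm he01, he0z, Ne.symm he0z, hm.dih.z1, Ne.symm hm.dih.z1, hze0, Ne.symm hze0] at h ⊢
  have hpinj : Function.Injective p := fun i l h => hq0inj (congrArg Prod.snd (hm.inj h))
  have hzee : ∀ y, y * z * y⁻¹ = z → y * e * y⁻¹ = e → ∀ i, y * χ (1, q0 i) * y⁻¹ = χ (1, q0 i) := by
    intro y h1 h2 i
    fin_cases i
    · show y * χ (1, 1) * y⁻¹ = χ (1, 1)
      rw [show ((1 : Z2), (1 : ↥Q)) = 1 from rfl, map_one, mul_one, mul_inv_cancel]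
    · exact h2
    · show y * χ (1, z0 * e0) * y⁻¹ = χ (1, z0 * e0)
      rw [show χ (1, z0 * e0) = z * e by rw [hz, hedef, ← map_mul, Prod.mk_mul_mk, one_mul],
        show y * (z * e) * y⁻¹ = (y * z * y⁻¹) * (y * e * y⁻¹) by group, h1, h2]
    · exact h1
  set H := Subgroup.centralizer E ⊓ Subgroup.normalizer (Set.range p) with hHdef2
  have hmemH : ∀ y, y * z * y⁻¹ = z → y * e * y⁻¹ = e → (∃ i, y * t * y⁻¹ = p i) → y ∈ H := by
    intro y h1 h2 ⟨i, hi⟩
    refine Subgroup.mem_inf.2 ⟨(hHiff y).2 ⟨h1, h2⟩, ?_⟩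
    have hmaps : ∀ l, ∃ j, y * p l * y⁻¹ = p j := fun l => by
      obtain ⟨j, hj⟩ := hq0mul i l
      refine ⟨j, ?_⟩
      show y * χ (one2, q0 l) * y⁻¹ = χ (one2, q0 j)
      rw [show ((one2, q0 l) : Z2 × ↥Q) = (one2, 1) * (1, q0 l) by simp, map_mul, hm.tχ,
        show y * (t * χ (1, q0 l)) * y⁻¹ = (y * t * y⁻¹) * (y * χ (1, q0 l) * y⁻¹) by group, hi, hzee y h1 h2 l]
      show χ (one2, q0 i) * χ (1, q0 l) = _
      rw [← map_mul, Prod.mk_mul_mk, mul_one, hj]
    choose o ho using hmaps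
    have hoinj : Function.Injective o := fun a b h => hpinj (mul_left_cancel (a := y) (mul_right_cancel
      ((ho a).trans ((congrArg p h).trans (ho b).symm))))
    refine Subgroup.mem_set_normalizer_iff.2 fun a => ⟨?_, ?_⟩
    · rintro ⟨l, rfl⟩
      exact ⟨o l, (ho l).symm⟩
    · rintro ⟨j, hj⟩
      obtain ⟨l, rfl⟩ := (Finite.injective_iff_surjective.1 hoinj) j
      exact ⟨l, mul_left_cancel (a := y) (mul_right_cancel ((ho l).trans hj))⟩
  have hgH : g ∈ H := hmemH g hgz hge ⟨1, hgt.trans hp1.symm⟩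
  obtain ⟨hg1z, hg1e⟩ := (hHiff g1).1 hg1H
  have hg1H : g1 ∈ H := hmemH g1 hg1z hg1e ⟨2, hg1t.trans hp2.symm⟩
  have hHiff : ∀ y, y ∈ H → y * z * y⁻¹ = z ∧ y * e * y⁻¹ = e ∧ ∃ i, y * t * y⁻¹ = p i := fun y hy => by
    obtain ⟨h1, h2⟩ := (hHiff y).1 hy.1
    obtain ⟨i, hi⟩ := (Subgroup.mem_set_normalizer_iff.1 hy.2 t).1 ⟨0, hp0⟩
    exact ⟨h1, h2, i, hi.symm⟩
  let H1 := H ⊓ Subgroup.centralizer ({t} : Set G)
  set A : Subgroup G :=
    (Subgroup.closure ({(one2, 1), ((1 : Z2), z0), ((1 : Z2), e0)} : Set (Z2 × ↥Q))).map χ with hA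
  have hAcard : 8 ≤ Nat.card ↥A := by
    let b : Z2 × Z2 × Z2 → Z2 × ↥Q := fun i =>
      (i.1, (if i.2.1 = 1 then 1 else z0) * (if i.2.2 = 1 then 1 else e0))
    have hb : ∀ i, b i ∈ Subgroup.closure ({(one2, 1), ((1 : Z2), z0), ((1 : Z2), e0)} : Set (Z2 × ↥Q)) := by
      intro i
      rw [show b i = (if i.1 = 1 then 1 else (one2, 1)) * (if i.2.1 = 1 then 1 else ((1 : Z2), z0)) *
          (if i.2.2 = 1 then 1 else ((1 : Z2), e0)) by
        rcases z2_cases i.1 with h | h <;> simp only [b, h, one2_ne, if_true, if_false, one2] <;>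
          split_ifs <;> simp]
      refine mul_mem (mul_mem ?_ ?_) ?_ <;> split_ifs <;>
        first | exact one_mem _ | exact Subgroup.subset_closure (by simp)
    have hbi : Function.Injective b := by
      have hze0 : z0 * e0 ≠ 1 := fun h => he0z ((inv_eq_of_mul_eq_one_right h).symm.trans
        (inv_eq_of_mul_eq_one_right hm.dih.zz))
      rintro ⟨a, c, d⟩ ⟨a', c', d'⟩ h
      simp only [b, Prod.mk.injEq] at h
      obtain ⟨rfl, h⟩ := h
      rcases z2_cases c with rfl | rfl <;> rcases z2_cases c' with rfl | rfl <;>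
        rcases z2_cases d with rfl | rfl <;> rcases z2_cases d' with rfl | rfl <;>
        first
          | rfl
          | (simp only [one2_ne, one2, if_true, if_false, one_mul, mul_one] at h
             exfalso
             first
               | exact he01 h | exact he01 h.symm | exact hm.dih.z1 h | exact hm.dih.z1 h.symm
               | exact he0z h | exact he0z h.symm | exact hze0 h | exact hze0 h.symm
               | exact hm.dih.z1 (mul_eq_right.1 h) | exact hm.dih.z1 (mul_eq_right.1 h.symm)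
               | exact he01 (mul_eq_left.1 h) | exact he01 (mul_eq_left.1 h.symm))
    have h8 := Nat.card_le_card_of_injective (fun i => (⟨χ (b i), _, hb i, rfl⟩ : ↥A)) fun i l h =>
      hbi (hm.inj (congrArg Subtype.val h))
    simpa using h8
  have hAH : A ≤ H1 := by
    rw [hA, MonoidHom.map_closure, Subgroup.closure_le]
    rintro _ ⟨i, hi, rfl⟩
    have hct : χ i * t * (χ i)⁻¹ = t := by rw [← hcomm, mul_inv_cancel_right]
    refine Subgroup.mem_inf.2 ⟨hmemH _ (by rw [← hzc, mul_inv_cancel_right]) ?_ ⟨0, hct.trans hp0.symm⟩,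
      hm.range_le (hPm _)⟩
    rcases hi with rfl | rfl | rfl
    · rw [hm.tχ, hcomm, mul_inv_cancel_right]
    · rw [← hz, hze, mul_inv_cancel_right]
    · rw [← hedef, mul_inv_cancel_right]
  have hA2 : IsPGroup 2 ↥A := hm.isPGroup.to_le (Subgroup.map_le_range _ _)
  obtain ⟨R0, hR0⟩ := (hA2.of_equiv (Subgroup.subgroupOfEquivOfLe (hAH.trans inf_le_left)).symm).exists_le_sylow
  set R : Subgroup G := (R0 : Subgroup ↥H).map H.subtype with hR
  have hAR : A ≤ R := fun a ha => ⟨⟨a, (hAH ha).1⟩, hR0 (Subgroup.mem_subgroupOf.2 ha), rfl⟩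
  have htR : t ∈ R := hAR ⟨_, Subgroup.subset_closure (Or.inl rfl), hm.tχ⟩
  have hR2 : IsPGroup 2 ↥R := R0.2.map _
  have hR32 : 32 ≤ Nat.card ↥R := by
    have hR0c : Nat.card ↥R = Nat.card ↥(R0 : Subgroup ↥H) := Subgroup.card_map_of_injective H.subtype_injective
    -- the four cosets of the stabiliser
    have hidx : (H1.subgroupOf H).index ≥ 4 := by
      have key : ∀ a b : ↥H, (a : ↥H ⧸ H1.subgroupOf H) = b →
          (a : G) * t * (a : G)⁻¹ = (b : G) * t * (b : G)⁻¹ := fun a b h => by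
        have h1 := Subgroup.mem_centralizer_singleton_iff.1 (Subgroup.mem_subgroupOf.1 (QuotientGroup.eq.1 h)).2
        simp only [Subgroup.coe_mul, Subgroup.coe_inv] at h1
        calc (a : G) * t * (a : G)⁻¹ = (a : G) * (t * ((a : G)⁻¹ * b)) * (b : G)⁻¹ := by group
          _ = (a : G) * ((a : G)⁻¹ * b * t) * (b : G)⁻¹ := by rw [h1]
          _ = _ := by group
      let r : Fin 4 → ↥H := ![1, ⟨g, hgH⟩, ⟨g1, hg1H⟩, ⟨g2, mul_mem hg1H hgH⟩]
      have hr : ∀ i, ((r i : ↥H) : G) * t * ((r i : ↥H) : G)⁻¹ = p i := by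
        intro i; fin_cases i
        · exact (show (1 : G) * t * (1 : G)⁻¹ = p 0 by rw [hp0]; group)
        · exact hgt.trans hp1.symm
        · exact hg1t.trans hp2.symm
        · exact hg2t.trans hp3.symm
      rw [ge_iff_le, Subgroup.index_eq_card, show (4 : ℕ) = Nat.card (Fin 4) by simp]
      refine Nat.card_le_card_of_injective (fun i => ((r i : ↥H) : ↥H ⧸ H1.subgroupOf H)) fun i l h => hpinj ?_
      rw [← hr i, ← hr l]
      exact key _ _ h
    have hidx' : (H1.subgroupOf H).index ≤ 4 := by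
      rw [Subgroup.index_eq_card, show (4 : ℕ) = Nat.card (Fin 4) by simp]
      have horb : ∀ y : ↥H, ∃ i, (y : G) * t * (y : G)⁻¹ = p i := fun y => (hHiff _ y.2).2.2
      choose o ho using horb
      refine Nat.card_le_card_of_injective (fun q => o q.out) fun a b h => ?_
      rw [← QuotientGroup.out_eq' a, ← QuotientGroup.out_eq' b]
      refine QuotientGroup.eq.2 (Subgroup.mem_subgroupOf.2
        (Subgroup.mem_inf.2 ⟨(a.out⁻¹ * b.out).2, Subgroup.mem_centralizer_singleton_iff.2 ?_⟩))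
      have hab : (a.out : G) * t * (a.out : G)⁻¹ = (b.out : G) * t * (b.out : G)⁻¹ := by rw [ho, ho, show o a.out = o b.out from h]
      simp only [Subgroup.coe_mul, Subgroup.coe_inv]
      calc (a.out : G)⁻¹ * b.out * t = (a.out : G)⁻¹ * ((b.out : G) * t * (b.out : G)⁻¹) * b.out := by group
        _ = _ := by rw [← hab]; group
    have hH1c := (H1.subgroupOf H).card_mul_index
    rw [Nat.card_congr (Subgroup.subgroupOfEquivOfLe (inf_le_left : H1 ≤ H)).toEquiv,
      le_antisymm hidx' hidx] at hH1c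
    obtain ⟨m, hm'⟩ := IsPGroup.iff_card.1 hA2
    have hm3 : 3 ≤ m := by
      by_contra h
      have h1 : 2 ^ m ≤ 2 ^ 2 := Nat.pow_le_pow_right two_pos (by omega)
      omega
    have h32 : 2 ^ 5 ∣ Nat.card ↥H := by
      rw [← hH1c, show 2 ^ 5 = 2 ^ 3 * 4 by norm_num]
      exact mul_dvd_mul_right ((pow_dvd_pow 2 hm3).trans (hm' ▸ Subgroup.card_dvd_of_le hAH)) 4
    have h3 := R0.pow_dvd_card_of_pow_dvd_card h32
    rw [hR0c]
    exact Nat.le_of_dvd Nat.card_pos h3
  have hRH : R ≤ H := Subgroup.map_subtype_le _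
  have hzA : z ∈ A := ⟨_, Subgroup.subset_closure (Or.inr (Or.inl rfl)), rfl⟩
  have heA : e ∈ A := ⟨_, Subgroup.subset_closure (Or.inr (Or.inr rfl)), rfl⟩
  have hRze : ∀ y ∈ R, y * z = z * y ∧ y * e = e * y := fun y hy => by
    obtain ⟨h1, h2, -⟩ := hHiff y (hRH hy)
    exact ⟨mul_inv_eq_iff_eq_mul.1 h1, mul_inv_eq_iff_eq_mul.1 h2⟩
  have hez : z ≠ e := fun h => he0z (congrArg Prod.snd (hm.inj h)).symm
  -- `z` and `e` are commutators in `R`
  have horbit : ∀ i, ∃ r ∈ R, r * t * r⁻¹ = p i := by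
    have hstab : Nat.card ↥(R ⊓ Subgroup.centralizer ({t} : Set G)) ≤ 8 := by
      obtain ⟨c, hcC, hc⟩ := hm.maxP _ (hR2.to_le inf_le_left) inf_le_right
      rw [← Subgroup.card_map_of_injective (K := R ⊓ Subgroup.centralizer ({t} : Set G))
        (f := (MulAut.conj c).toMonoidHom) (MulAut.conj c).injective]
      refine hm.cent_four (a := c * z * c⁻¹) (b := c * e * c⁻¹) ?_ (hm.loc.isK_conj hcC hzK)
        (hm.loc.isK_conj hcC heK) (hc _ ⟨hAR hzA, hm.range_le (hPm _)⟩) (hc _ ⟨hAR heA, hm.range_le (hPm _)⟩)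
        (fun h => hez (mul_left_cancel (mul_right_cancel h))) ?_ ?_ ?_
      · rintro _ ⟨y, hy, rfl⟩; exact hc y hy
      · calc c * z * c⁻¹ * (c * e * c⁻¹) = c * (z * e) * c⁻¹ := by group
          _ = c * (e * z) * c⁻¹ := by rw [hze]
          _ = _ := by group
      · rintro _ ⟨y, hy, rfl⟩
        simp only [MulEquiv.coe_toMonoidHom, MulAut.conj_apply]
        calc c * y * c⁻¹ * (c * z * c⁻¹) = c * (y * z) * c⁻¹ := by group
          _ = c * (z * y) * c⁻¹ := by rw [(hRze y hy.1).1]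
          _ = _ := by group
      · rintro _ ⟨y, hy, rfl⟩
        simp only [MulEquiv.coe_toMonoidHom, MulAut.conj_apply]
        calc c * y * c⁻¹ * (c * e * c⁻¹) = c * (y * e) * c⁻¹ := by group
          _ = c * (e * y) * c⁻¹ := by rw [(hRze y hy.1).2]
          _ = _ := by group
    set W := R ⊓ Subgroup.centralizer ({t} : Set G) with hW
    have hidxR : 4 ≤ (W.subgroupOf R).index := by
      have h1 := (W.subgroupOf R).card_mul_index
      rw [Nat.card_congr (Subgroup.subgroupOfEquivOfLe (inf_le_left : W ≤ R)).toEquiv] at h1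
      by_contra h
      push Not at h
      have : Nat.card ↥W * (W.subgroupOf R).index ≤ 8 * 3 := Nat.mul_le_mul hstab (by omega)
      have h1' : Nat.card ↥W * (W.subgroupOf R).index = Nat.card ↥R := h1
      omega
    have hval : ∀ y : ↥R, ∃ i, (y : G) * t * (y : G)⁻¹ = p i := fun y => (hHiff _ (hRH y.2)).2.2
    choose o ho using hval
    let φ : ↥R ⧸ W.subgroupOf R → Fin 4 := fun q => o q.out
    have hφ : Function.Injective φ := fun a b h => by
      rw [← QuotientGroup.out_eq' a, ← QuotientGroup.out_eq' b]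
      refine QuotientGroup.eq.2 (Subgroup.mem_subgroupOf.2
        (Subgroup.mem_inf.2 ⟨(a.out⁻¹ * b.out).2, Subgroup.mem_centralizer_singleton_iff.2 ?_⟩))
      have hab : (a.out : G) * t * (a.out : G)⁻¹ = (b.out : G) * t * (b.out : G)⁻¹ := by
        rw [ho, ho, show o a.out = o b.out from h]
      simp only [Subgroup.coe_mul, Subgroup.coe_inv]
      calc (a.out : G)⁻¹ * b.out * t = (a.out : G)⁻¹ * ((b.out : G) * t * (b.out : G)⁻¹) * b.out := by group
        _ = _ := by rw [← hab]; group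
    have hsurj := ((Nat.bijective_iff_injective_and_card φ).2 ⟨hφ, le_antisymm
      (Nat.card_le_card_of_injective φ hφ) (by rw [← Subgroup.index_eq_card]; simpa using hidxR)⟩).2
    intro i
    obtain ⟨q, hq⟩ := hsurj i
    exact ⟨q.out, q.out.2, (ho q.out).trans (congrArg p hq)⟩
  have hcomR : z ∈ ⁅R, R⁆ ∧ e ∈ ⁅R, R⁆ := by
    have key : ∀ i y, p i = t * y → y ∈ ⁅R, R⁆ := by
      intro i y hy
      obtain ⟨r, hr, hre⟩ := horbit i
      have h1 := Subgroup.commutator_mem_commutator (inv_mem htR) hr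
      rw [commutatorElement_def, inv_inv, show t⁻¹ * r * t * r⁻¹ = t⁻¹ * (r * t * r⁻¹) by group, hre, hy,
        inv_mul_cancel_left] at h1
      exact h1
    exact ⟨key 3 z hp3, key 1 e hp1⟩
  -- `|S0 : P| ≥ 4`
  obtain ⟨b, hb⟩ := IsPGroup.iff_card.1 S0.2
  obtain ⟨a, ha⟩ := IsPGroup.iff_card.1 hm.isPGroup
  have hab : a < b := by
    rw [← Nat.pow_lt_pow_iff_right (show 1 < 2 by norm_num), ← ha, ← hb]
    exact lt_of_lt_of_le hbiglt (Subgroup.card_le_of_le (sup_le hS0 (Subgroup.zpowers_le.2 hxS)))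
  have hab2 : a + 2 ≤ b := by
    by_contra h
    obtain rfl : b = a + 1 := by omega
    have h2 : (P.subgroupOf S0).index = 2 := by
      have h1 := (P.subgroupOf S0).card_mul_index
      rw [Nat.card_congr (Subgroup.subgroupOfEquivOfLe hS0).toEquiv, hP, ha, hb, pow_succ] at h1
      exact Nat.eq_of_mul_eq_mul_left (Nat.two_pow_pos a) h1
    have hder : ⁅(S0 : Subgroup G), (S0 : Subgroup G)⁆ ≤ P := Subgroup.commutator_le.2 fun u hu w hw => by
      have key : (⟨u, hu⟩ * ⟨w, hw⟩ * ⟨u, hu⟩⁻¹ * ⟨w, hw⟩⁻¹ : ↥(S0 : Subgroup G)) ∈ P.subgroupOf S0 := by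
        simp only [Subgroup.mul_mem_iff_of_index_two h2, inv_mem_iff]
        tauto
      rw [commutatorElement_def]
      exact Subgroup.mem_subgroupOf.1 key
    obtain ⟨S1, hS1⟩ := hR2.exists_le_sylow
    obtain ⟨c, hc⟩ := MulAction.exists_smul_eq G S1 S0
    set Rc := R.map (MulAut.conj c).toMonoidHom with hRcdef
    have hRcS : Rc ≤ S0 := by
      rw [← hc]
      rintro _ ⟨y, hy, rfl⟩
      exact ⟨y, hS1 hy, rfl⟩
    have hin : ∀ y, y ∈ ⁅R, R⁆ → c * y * c⁻¹ ∈ P := fun y hy => hder (Subgroup.commutator_mono hRcS hRcS (by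
      rw [hRcdef, ← Subgroup.map_commutator]; exact ⟨y, hy, rfl⟩))
    have hK' : ∀ k, Loc.IsK N f k → c * k * c⁻¹ ∈ P → Loc.IsK N f (c * k * c⁻¹) := by
      intro k hk hkP
      have hnot : ¬ IsConj t (c * k * c⁻¹) := fun h =>
        hKt k hk (h.trans (isConj_iff.2 ⟨c⁻¹, by group⟩))
      rcases hm.loc.t_mul_cases (hm.range_le hkP)
        (by rw [show c * k * c⁻¹ * (c * k * c⁻¹) = c * (k * k) * c⁻¹ by group, hk.choose_spec.1, mul_one,
          mul_inv_cancel]) (fun h => hk.choose_spec.2.1 (conj_eq_one_iff.1 h)) with h | h | h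
      · exact absurd (by rw [h]) hnot
      · exact h
      · have := htK _ h
        rw [← mul_assoc, hm.loc.tt, one_mul] at this
        exact absurd this hnot
    have h8 := hm.cent_four (R := Rc ⊓ P) inf_le_right (hK' z hzK (hin z hcomR.1)) (hK' e heK (hin e hcomR.2))
      (hin z hcomR.1) (hin e hcomR.2) (fun h => hez (mul_left_cancel (mul_right_cancel h)))
      (by
        calc c * z * c⁻¹ * (c * e * c⁻¹) = c * (z * e) * c⁻¹ := by group
          _ = c * (e * z) * c⁻¹ := by rw [hze]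
          _ = _ := by group)
      (by
        rintro _ ⟨⟨y, hy, rfl⟩, -⟩
        simp only [MulEquiv.coe_toMonoidHom, MulAut.conj_apply]
        calc c * y * c⁻¹ * (c * z * c⁻¹) = c * (y * z) * c⁻¹ := by group
          _ = c * (z * y) * c⁻¹ := by rw [(hRze y hy).1]
          _ = _ := by group)
      (by
        rintro _ ⟨⟨y, hy, rfl⟩, -⟩
        simp only [MulEquiv.coe_toMonoidHom, MulAut.conj_apply]
        calc c * y * c⁻¹ * (c * e * c⁻¹) = c * (y * e) * c⁻¹ := by group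
          _ = c * (e * y) * c⁻¹ := by rw [(hRze y hy).2]
          _ = _ := by group)
    have hrel : P.relIndex Rc ≤ 2 := by
      have h3 := Subgroup.relIndex_le_of_le_right hRcS (show P.relIndex S0 ≠ 0 by
        rw [Subgroup.relIndex, h2]; norm_num)
      rwa [show P.relIndex S0 = 2 from h2] at h3
    have h4 := (P.subgroupOf Rc).card_mul_index
    rw [← Subgroup.inf_subgroupOf_left, Nat.card_congr (Subgroup.subgroupOfEquivOfLe inf_le_left).toEquiv,
      Subgroup.inf_subgroupOf_left, hRcdef,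
      Subgroup.card_map_of_injective (f := (MulAut.conj c).toMonoidHom) (MulAut.conj c).injective] at h4
    have h5 : Nat.card ↥(Rc ⊓ P) * P.relIndex Rc ≤ 8 * 2 := Nat.mul_le_mul h8 hrel
    have h6 : Nat.card ↥(Rc ⊓ P) * P.relIndex Rc = Nat.card ↥R := h4
    omega
  -- the class of `t`
  set C := Subgroup.centralizer ({t} : Set G) with hC
  have hX4 : 4 ∣ C.index := by
    let Sc : Sylow 2 ↥C := default
    have hScd : Nat.card ↥(Sc : Subgroup ↥C) ∣ 2 ^ a := by
      obtain ⟨i, hi⟩ := IsPGroup.iff_card.1 Sc.2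
      have h1 := hm.small (R := (Sc : Subgroup ↥C).map C.subtype) (Sc.2.map _) (IsConj.refl t)
        (Subgroup.map_subtype_le _)
      rw [Subgroup.card_map_of_injective C.subtype_injective, hi, ha] at h1
      rw [hi]
      exact pow_dvd_pow 2 ((Nat.pow_le_pow_iff_right (show 1 < 2 by norm_num)).1 h1)
    have h1 : 2 ^ (a + 2) ∣ Nat.card G := (pow_dvd_pow 2 hab2).trans (hb ▸ Subgroup.card_subgroup_dvd_card _)
    rw [← C.card_mul_index, ← (Sc : Subgroup ↥C).card_mul_index, mul_assoc] at h1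
    have h2 : 2 ^ (a + 2) ∣ 2 ^ a * ((Sc : Subgroup ↥C).index * C.index) := h1.trans (mul_dvd_mul_right hScd _)
    rw [pow_add] at h2
    have h3 := (Nat.mul_dvd_mul_iff_left (Nat.two_pow_pos a)).1 h2
    exact Nat.Coprime.dvd_of_dvd_mul_left (show (2 ^ 2).Coprime (Sc : Subgroup ↥C).index from
      ((Nat.prime_two.coprime_iff_not_dvd).2 Sc.not_dvd_index).pow_left 2) h3
  have hXcard : Nat.card {x : G // IsConj t x} = C.index := by
    rw [Subgroup.index_eq_card]
    refine (Nat.card_eq_of_bijective (Quotient.lift (fun g => (⟨g * t * g⁻¹, isConj_iff.2 ⟨g, rfl⟩⟩ :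
      {x : G // IsConj t x})) fun u w h => Subtype.ext ?_) ⟨?_, ?_⟩).symm
    · have h1 := Subgroup.mem_centralizer_singleton_iff.1 (QuotientGroup.leftRel_apply.1 h)
      calc u * t * u⁻¹ = u * (t * (u⁻¹ * w)) * w⁻¹ := by group
        _ = u * (u⁻¹ * w * t) * w⁻¹ := by rw [h1]
        _ = _ := by group
    · rintro ⟨u⟩ ⟨w⟩ h
      refine Quotient.sound (QuotientGroup.leftRel_apply.2 (Subgroup.mem_centralizer_singleton_iff.2 ?_))
      have h' : u * t * u⁻¹ = w * t * w⁻¹ := congrArg Subtype.val h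
      calc u⁻¹ * w * t = u⁻¹ * (w * t * w⁻¹) * w := by group
        _ = _ := by rw [← h']; group
    · rintro ⟨y, hy⟩
      obtain ⟨g, hg⟩ := isConj_iff.1 hy
      exact ⟨Quotient.mk'' g, Subtype.ext hg⟩
  have hYcard : Nat.card {x : G // IsConj t x ∧ t * x = x * t} = Nat.card {x : G // Loc.IsK N f x} + 1 := by
    rw [← Finite.card_option]
    refine (Nat.card_eq_of_bijective (fun o : Option {x : G // Loc.IsK N f x} => match o with
      | none => ⟨t, IsConj.refl t, rfl⟩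
      | some k => ⟨t * k.1, htK _ k.2, by
          rw [mul_assoc, Subgroup.mem_centralizer_singleton_iff.1 (hm.loc.le k.2.choose)]⟩) ⟨?_, ?_⟩).symm
    · rintro (_ | k) (_ | l) h <;> have h' := congrArg Subtype.val h <;> simp only at h'
      · rfl
      · exact absurd (mul_eq_left.1 h'.symm) l.2.choose_spec.2.1
      · exact absurd (mul_eq_left.1 h') k.2.choose_spec.2.1
      · rw [Subtype.ext (mul_left_cancel h')]
    · rintro ⟨u, hu, huc⟩
      rcases hclassC u hu (Subgroup.mem_centralizer_singleton_iff.2 huc.symm) with rfl | h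
      · exact ⟨none, rfl⟩
      · exact ⟨some ⟨t * u, h⟩, Subtype.ext (by show t * (t * u) = u; rw [← mul_assoc, hm.loc.tt, one_mul])⟩
  have h1 := hm.sign_count hsimp hna
  have h2 := hm.count_K
  have hle : Nat.card {x : G // IsConj t x ∧ t * x = x * t} ≤ Nat.card {x : G // IsConj t x} :=
    Nat.card_le_card_of_injective (fun x => ⟨x.1, x.2.1⟩) fun u w h => Subtype.ext (congrArg Subtype.val h :)
  rw [hXcard, hYcard] at h1 hle
  omega

end Model

end Cfsg.Agent.TimesPSLTwo
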