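import Cfsg.Agent.Lib.TimesPSLTwo.Front

/-!
The Sylow 2-subgroup `Z₂ × D` of `C(t)`, with `D` dihedral, as the image of a homomorphism.
-/

namespace Cfsg.Agent.TimesPSLTwo

/-- The nonidentity element of `Z₂`. -/
abbrev one2 : Z2 := Multiplicative.ofAdd 1

theorem one2_ne : one2 ≠ 1 := by decide +kernel

theorem z2_sq (a : Z2) : a * a = 1 := by revert a; decide +kernel

namespace Loc

variable {G X : Type*} [Group G] [Finite G] [Group X] {t : G} {N : Subgroup G} {f : ↥N →* Z2 × X}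
  (hl : Loc t N f)

/-- An involution of `C(t)` in the kernel of the first coordinate. -/
def IsK (N : Subgroup G) (f : ↥N →* Z2 × X) (x : G) : Prop :=
  ∃ h : x ∈ N, x * x = 1 ∧ x ≠ 1 ∧ (f ⟨x, h⟩).1 = 1

include hl

theorem tt : t * t = 1 := by rw [← pow_two, ← hl.ot, pow_orderOf_eq_one]

theorem t_ne_one : t ≠ 1 := fun h => by have := hl.ot; rw [h, orderOf_one] at this; omega

theorem inv_mem_N {x : G} (hx : x ∈ Subgroup.centralizer ({t} : Set G)) (hxx : x * x = 1) : x ∈ N :=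
  hl.two x hx 1 (by rw [pow_one, pow_two, hxx])

theorem eq_one_of {x : G} (h : x ∈ N) (hxx : x * x = 1) (hf : f ⟨x, h⟩ = 1) : x = 1 := by
  have h1 := hl.odd _ hf
  rw [Subgroup.orderOf_mk] at h1
  refine orderOf_eq_one_iff.1 (Nat.eq_one_of_dvd_coprimes (Nat.coprime_two_right.2 h1) dvd_rfl
    (orderOf_dvd_of_pow_eq_one (by rw [pow_two, hxx])))

theorem t_mul_cases {x : G} (hx : x ∈ Subgroup.centralizer ({t} : Set G)) (hxx : x * x = 1) (hx1 : x ≠ 1) :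
    x = t ∨ IsK N f x ∨ IsK N f (t * x) := by
  have hN := hl.inv_mem_N hx hxx
  have hc : t * x = x * t := (Subgroup.mem_centralizer_singleton_iff.1 hx).symm
  have htx : t * x * (t * x) = 1 := by
    calc t * x * (t * x) = t * (x * t) * x := by group
      _ = t * (t * x) * x := by rw [hc]
      _ = 1 := by rw [← mul_assoc t t x, hl.tt, one_mul, hxx]
  rcases z2_cases (f ⟨x, hN⟩).1 with h | h
  · exact Or.inr (Or.inl ⟨hN, hxx, hx1, h⟩)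
  by_cases h1 : t * x = 1
  · exact Or.inl ((inv_eq_of_mul_eq_one_right h1).symm.trans (inv_eq_of_mul_eq_one_right hl.tt))
  refine Or.inr (Or.inr ⟨mul_mem hl.tmem hN, htx, h1, ?_⟩)
  rw [show (⟨t * x, _⟩ : ↥N) = ⟨t, hl.tmem⟩ * ⟨x, hN⟩ from rfl, map_mul, hl.ft, Prod.fst_mul, h]
  exact z2_sq _

theorem isK_conj {c x : G} (hc : c ∈ Subgroup.centralizer ({t} : Set G)) (hx : IsK N f x) :
    IsK N f (c * x * c⁻¹) := by
  obtain ⟨h, hxx, hx1, hf⟩ := hx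
  obtain ⟨h', hf'⟩ := hl.fstNorm c hc ⟨x, h⟩ hf
  refine ⟨h', ?_, fun e => hx1 (conj_eq_one_iff.1 e), hf'⟩
  rw [show c * x * c⁻¹ * (c * x * c⁻¹) = c * (x * x) * c⁻¹ by group, hxx, mul_one, mul_inv_cancel]

theorem isK_class (hcls : ∀ x y : X, orderOf x = 2 → orderOf y = 2 → IsConj x y) {x y : G}
    (hx : IsK N f x) (hy : IsK N f y) :
    ∃ c ∈ Subgroup.centralizer ({t} : Set G), c * x * c⁻¹ = y := by
  have ho : ∀ {x : G}, IsK N f x → ∃ h : x ∈ N, f ⟨x, h⟩ = (1, (f ⟨x, h⟩).2) ∧ orderOf (f ⟨x, h⟩).2 = 2 := by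
    rintro x ⟨h, hxx, hx1, hf⟩
    refine ⟨h, Prod.ext hf rfl, orderOf_eq_prime ?_ fun e => hx1 (hl.eq_one_of h hxx (Prod.ext hf e))⟩
    rw [pow_two, ← Prod.snd_mul, ← map_mul, show (⟨x, h⟩ : ↥N) * ⟨x, h⟩ = 1 from Subtype.ext hxx, map_one]
    rfl
  obtain ⟨hN, hfx, hox⟩ := ho hx
  obtain ⟨hN', hfy, hoy⟩ := ho hy
  obtain ⟨m, hm⟩ := isConj_iff.1 (hcls _ _ hox hoy)
  obtain ⟨n, hn⟩ := hl.surj (1, m)
  have hp : ∀ z : ↥N, (z : G) * z = 1 → IsPGroup 2 ↥(Subgroup.zpowers z) := fun z hz a => by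
    obtain ⟨i, hi⟩ := a.2
    refine ⟨1, Subtype.ext ?_⟩
    rw [Subgroup.coe_pow, Subgroup.coe_one, ← hi, pow_one, ← zpow_natCast, ← zpow_mul, mul_comm, zpow_mul,
      zpow_natCast, pow_two, show z * z = 1 from Subtype.ext hz, one_zpow]
  have hnx : f (n * ⟨x, hN⟩ * n⁻¹) = f ⟨y, hN'⟩ := by
    rw [map_mul, map_mul, map_inv, hn, hfx, hfy, ← hm]
    simp
  have hx2 : ((n * ⟨x, hN⟩ * n⁻¹ : ↥N) : G) * ((n * ⟨x, hN⟩ * n⁻¹ : ↥N) : G) = 1 := by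
    simp only [Subgroup.coe_mul, Subgroup.coe_inv]
    rw [show (n : G) * x * (n : G)⁻¹ * ((n : G) * x * (n : G)⁻¹) = n * (x * x) * (n : G)⁻¹ by group, hx.2.1,
      mul_one, mul_inv_cancel]
  obtain ⟨o, ho', hoe⟩ := hl.lift_conj (hp _ hx2) (hp ⟨y, hN'⟩ hy.2.1) (by
    rw [MonoidHom.map_zpowers, MonoidHom.map_zpowers, hnx])
  refine ⟨(o : G) * n, mul_mem (hl.le o.2) (hl.le n.2), ?_⟩
  obtain ⟨i, hi⟩ : o * (n * ⟨x, hN⟩ * n⁻¹) * o⁻¹ ∈ Subgroup.zpowers (⟨y, hN'⟩ : ↥N) :=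
    hoe ▸ ⟨_, Subgroup.mem_zpowers _, rfl⟩
  have h1 : (⟨y, hN'⟩ : ↥N) ^ (2 : ℤ) = 1 := by rw [zpow_two]; exact Subtype.ext hy.2.1
  have hne : o * (n * ⟨x, hN⟩ * n⁻¹) * o⁻¹ ≠ 1 := fun e => hx.2.2.1 (by
    have e' := congrArg Subtype.val (conj_eq_one_iff.1 (conj_eq_one_iff.1 e))
    exact e')
  obtain ⟨l, rfl | rfl⟩ := Int.even_or_odd' i
  · simp only [zpow_mul, h1, one_zpow] at hi
    exact absurd hi.symm hne
  · simp only [zpow_add, zpow_mul, h1, one_zpow, one_mul, zpow_one] at hi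
    have h3 := congrArg Subtype.val hi
    simp only [Subgroup.coe_mul, Subgroup.coe_inv] at h3
    rw [h3]; group

end Loc

/-- The Sylow 2-subgroup of `C(t)` as an image of `Z₂ × D`. -/
structure Model {G X : Type*} [Group G] [Group X] (t : G) (N : Subgroup G) (f : ↥N →* Z2 × X)
    (Q : Subgroup X) (z0 : ↥Q) (χ : Z2 × ↥Q →* G) : Prop where
  loc : Loc t N f
  rot : ∀ e f : X, orderOf e = 2 → orderOf f = 2 → e ≠ f → Commute e f →
    ∃ w, w * e * w⁻¹ = f ∧ w * f * w⁻¹ = e * f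
  cls : ∀ x y : X, orderOf x = 2 → orderOf y = 2 → IsConj x y
  dih : DihProps ↥Q z0
  big : 8 ≤ Nat.card ↥Q
  pq : IsPGroup 2 ↥Q
  inj : Function.Injective χ
  inN : ∀ v, ∃ h : χ v ∈ N, f ⟨χ v, h⟩ = (v.1, (v.2 : X))
  tχ : χ (one2, 1) = t
  maxP : ∀ R : Subgroup G, IsPGroup 2 ↥R → R ≤ Subgroup.centralizer ({t} : Set G) →
    ∃ c ∈ Subgroup.centralizer ({t} : Set G), ∀ x ∈ R, c * x * c⁻¹ ∈ χ.range

theorem Loc.exists_model {G X : Type*} [Group G] [Finite G] [Group X] {t : G} {N : Subgroup G}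
    {f : ↥N →* Z2 × X} (hl : Loc t N f)
    (hrot : ∀ e f : X, orderOf e = 2 → orderOf f = 2 → e ≠ f → Commute e f →
      ∃ w, w * e * w⁻¹ = f ∧ w * f * w⁻¹ = e * f)
    (hcls : ∀ x y : X, orderOf x = 2 → orderOf y = 2 → IsConj x y) (S : Sylow 2 ↥N) (Q : Sylow 2 X)
    (hSQ : (S : Subgroup ↥N).map f = (⊤ : Subgroup Z2).prod (Q : Subgroup X))
    {z0 : ↥(Q : Subgroup X)} (hd : DihProps ↥(Q : Subgroup X) z0) (h8 : 8 ≤ Nat.card ↥(Q : Subgroup X)) :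
    ∃ χ, Model t N f (Q : Subgroup X) z0 χ := by
  classical
  have hmem : ∀ y ∈ (S : Subgroup ↥N), (f y).2 ∈ (Q : Subgroup X) := fun y hy =>
    (show f y ∈ (⊤ : Subgroup Z2).prod (Q : Subgroup X) from hSQ ▸ ⟨y, hy, rfl⟩).2
  let φ : ↥(S : Subgroup ↥N) →* Z2 × ↥(Q : Subgroup X) :=
    { toFun := fun y => ((f y).1, ⟨(f y).2, hmem y y.2⟩)
      map_one' := by ext <;> simp
      map_mul' := fun a b => by ext <;> simp }
  have hφ : Function.Bijective φ := by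
    refine ⟨fun a b hab => Subtype.ext (hl.inj S.2 a.2 b.2 ?_), fun v => ?_⟩
    · have h1 := congrArg Prod.fst hab
      have h2 := congrArg (fun v : Z2 × ↥(Q : Subgroup X) => (v.2 : X)) hab
      exact Prod.ext h1 h2
    · obtain ⟨y, hy, hye⟩ : ((v.1, (v.2 : X))) ∈ (S : Subgroup ↥N).map f := hSQ ▸ ⟨Subgroup.mem_top _, v.2.2⟩
      refine ⟨⟨y, hy⟩, Prod.ext ?_ (Subtype.ext ?_)⟩
      · show (f y).1 = v.1
        rw [hye]
      · show (f y).2 = v.2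
        rw [hye]
  let E := MulEquiv.ofBijective φ hφ
  refine ⟨N.subtype.comp ((S : Subgroup ↥N).subtype.comp E.symm.toMonoidHom), hl, hrot, hcls, hd, h8, Q.2,
    N.subtype_injective.comp ((S : Subgroup ↥N).subtype_injective.comp E.symm.injective), fun v => ?_, ?_,
    fun R hR hC => ?_⟩
  · refine ⟨((E.symm v : ↥(S : Subgroup ↥N)) : ↥N).2, ?_⟩
    have h := E.apply_symm_apply v
    have h1 := congrArg Prod.fst h
    have h2 := congrArg (fun v : Z2 × ↥(Q : Subgroup X) => (v.2 : X)) h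
    exact Prod.ext h1 h2
  · have h : E ⟨⟨t, hl.tmem⟩, hl.t_mem S⟩ = (one2, 1) := Prod.ext
      (show (f ⟨t, hl.tmem⟩).1 = one2 by rw [hl.ft]) (Subtype.ext (show (f ⟨t, hl.tmem⟩).2 = 1 by rw [hl.ft]))
    show ((E.symm (one2, 1) : ↥(S : Subgroup ↥N)) : ↥N).1 = t
    rw [← h, MulEquiv.symm_apply_apply]
  · obtain ⟨c, hc, hcS⟩ := hl.maxA S hR hC
    refine ⟨c, hc, fun x hx => ?_⟩
    obtain ⟨y, hy, hye⟩ := hcS x hx
    refine ⟨E ⟨y, hy⟩, ?_⟩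
    show ((E.symm (E ⟨y, hy⟩) : ↥(S : Subgroup ↥N)) : ↥N).1 = _
    rw [MulEquiv.symm_apply_apply]
    exact hye

end Cfsg.Agent.TimesPSLTwo
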