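import Mathlib
import Cfsg.Agent.S0205

/-!
An odd order group of automorphisms of an elementary abelian 2-group, transitive on the nonidentity
elements, whose point stabiliser contains an element with only one more orbit on a hyperplane.
-/

namespace Cfsg.Agent.TimesPSLTwo

/-- Automorphisms of a finite field of order `2 ^ n` have order dividing `n`. -/
theorem ringAut_pow_eq_one {K : Type*} [Field K] [Finite K] {n : ℕ} (hn : Nat.card K = 2 ^ n)
    (f : K ≃+* K) : f ^ n = 1 := by
  have : Fact (Nat.Prime 2) := ⟨Nat.prime_two⟩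
  have hn0 : n ≠ 0 := fun h => by
    have : 1 < Nat.card K := Finite.one_lt_card
    rw [hn, h] at this
    omega
  have hK : CharP K 2 := by
    have : Fintype K := Fintype.ofFinite K
    obtain ⟨p, hp⟩ := CharP.exists K
    obtain ⟨m, hpp, hm⟩ := FiniteField.card K p
    have h1 : p ^ (m : ℕ) = 2 ^ n := by rw [← hm, ← hn, Nat.card_eq_fintype_card]
    obtain rfl : p = 2 := (Nat.prime_dvd_prime_iff_eq hpp Nat.prime_two).1
      (hpp.dvd_of_dvd_pow (h1 ▸ dvd_pow_self p m.2.ne'))
    exact hp
  let _ : Algebra (ZMod 2) K := ZMod.algebra K 2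
  have : FiniteDimensional (ZMod 2) K := Module.Finite.of_finite
  have hd : Module.finrank (ZMod 2) K = n := by
    have h1 := Module.natCard_eq_pow_finrank (K := ZMod 2) (V := K)
    rw [hn, Nat.card_zmod] at h1
    exact Nat.pow_right_injective le_rfl h1.symm
  let g : K ≃ₐ[ZMod 2] K := AlgEquiv.ofRingEquiv (f := f) fun x =>
    congrFun (congrArg DFunLike.coe (RingHom.ext_zmod ((f : K →+* K).comp (algebraMap (ZMod 2) K))
      (algebraMap (ZMod 2) K))) x
  obtain ⟨i, hi⟩ := (FiniteField.bijective_frobeniusAlgEquivOfAlgebraic_pow (ZMod 2) K).2 g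
  have hg : g ^ n = 1 := by
    rw [← hi, ← pow_mul]
    refine orderOf_dvd_iff_pow_eq_one.1 ?_
    rw [FiniteField.orderOf_frobeniusAlgEquivOfAlgebraic]
    exact (dvd_of_eq hd).trans (dvd_mul_left n i)
  have hit : ∀ m : ℕ, ∀ x, (f ^ m) x = (g ^ m) x := by
    intro m
    induction m with
    | zero => intro x; rfl
    | succ m ih => intro x; rw [pow_succ', pow_succ', RingAut.mul_apply, AlgEquiv.mul_apply, ih]; rfl
  exact RingEquiv.ext fun x => by rw [hit, hg]; rfl

variable {B : Type*} [CommGroup B] [Finite B]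

/-- Evaluation of automorphisms as additive endomorphisms. -/
def toEnd : MulAut B →* AddMonoid.End (Additive B) where
  toFun f := MonoidHom.toAdditive f.toMonoidHom
  map_one' := rfl
  map_mul' _ _ := rfl

theorem toEnd_apply (f : MulAut B) (b : B) : toEnd f (Additive.ofMul b) = Additive.ofMul (f b) := rfl

theorem card_le_two {k : ℕ} (hsq : ∀ b : B, b * b = 1) {H : Subgroup (MulAut B)}
    (hodd : Odd (Nat.card ↥H)) (htr : ∀ a b : B, a ≠ 1 → b ≠ 1 → ∃ h ∈ H, h a = b)
    {t : B} {U : Subgroup B} (ht : t ∉ U) (hU : Nat.card ↥U = 2 ^ k) (hk : 2 ≤ k)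
    (hB : Nat.card B = 2 ^ (k + 1)) {s : MulAut B} (hsH : s ∈ H) (hst : s t = t)
    (hstr : ∀ v ∈ U, ∀ w ∈ U, v ≠ 1 → w ≠ 1 → ∃ i : ℕ, (s ^ i) v = w)
    (hUor : ∀ b : B, b ∈ U ∨ t * b ∈ U) : k = 2 := by
  classical
  have ht1 : t ≠ 1 := fun h => ht (h ▸ one_mem U)
  have hW2 : ∀ w : Additive B, w + w = 0 := fun w => congrArg Additive.ofMul (hsq (Additive.toMul w))
  have hE2 : ∀ r : AddMonoid.End (Additive B), r + r = 0 := fun r => AddMonoidHom.ext fun w => hW2 (r w)
  -- an abelian normal subgroup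
  have : Group.IsSolvable ↥H := S0205.result hodd
  have hHnt : Nontrivial ↥H := by
    obtain ⟨v, hv, hv1⟩ : ∃ v ∈ U, v ≠ 1 := U.bot_or_exists_ne_one.resolve_left fun h => by
      rw [h, Subgroup.card_bot] at hU
      exact absurd hU (Nat.one_lt_two_pow (by omega)).ne
    obtain ⟨h, hh, hhe⟩ := htr t v ht1 hv1
    exact ⟨⟨⟨h, hh⟩, 1, fun he => ht (by
      have h1 : h = 1 := congrArg Subtype.val he
      rw [h1] at hhe
      exact (show t = v from hhe) ▸ hv)⟩⟩
  obtain ⟨P, hPn, hPne, hPc⟩ : ∃ P : Subgroup ↥H, P.Normal ∧ P ≠ ⊥ ∧ ∀ a ∈ P, ∀ b ∈ P, a * b = b * a := by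
    have hex : ∃ m, derivedSeries ↥H m = ⊥ := Group.IsSolvable.solvable
    obtain ⟨m, hm⟩ : ∃ m, Nat.find hex = m + 1 := Nat.exists_eq_succ_of_ne_zero fun h0 => by
      have := Nat.find_spec hex
      rw [h0, derivedSeries_zero] at this
      exact top_ne_bot this
    refine ⟨derivedSeries ↥H m, derivedSeries_normal _ m, Nat.find_min hex (by omega), fun a ha b hb => ?_⟩
    have h1 := Nat.find_spec hex
    rw [hm, derivedSeries_succ, Subgroup.commutator_eq_bot_iff_le_centralizer] at h1
    exact (Subgroup.mem_centralizer_iff.1 (h1 ha) b hb).symm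
  -- the ring generated by it
  set R := Subring.closure ((fun p : ↥H => toEnd (p : MulAut B)) '' (P : Set ↥H)) with hR
  have hcomm : ∀ x ∈ R, ∀ y ∈ R, x * y = y * x := by
    have := Subring.isMulCommutative_closure (s := (fun p : ↥H => toEnd (p : MulAut B)) '' (P : Set ↥H)) (by
      rintro _ ⟨a, ha, rfl⟩ _ ⟨b, hb, rfl⟩
      simp only [← map_mul, ← Subgroup.coe_mul]
      rw [hPc a ha b hb])
    exact fun x hx y hy => setLike_mul_comm hx hy
  have hconj : ∀ h : MulAut B, h ∈ H → ∀ r ∈ R, toEnd h * r * toEnd h⁻¹ ∈ R := by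
    intro h hh r hr
    induction hr using Subring.closure_induction with
    | mem x hx =>
      obtain ⟨p, hp, rfl⟩ := hx
      exact Subring.subset_closure ⟨⟨h, hh⟩ * p * ⟨h, hh⟩⁻¹, hPn.conj_mem p hp _, by simp⟩
    | zero => simp
    | one => rw [mul_one, ← map_mul, mul_inv_cancel, map_one]; exact one_mem _
    | add x y _ _ h1 h2 => rw [mul_add, add_mul]; exact add_mem h1 h2
    | neg x _ h1 => rw [neg_eq_of_add_eq_zero_left (hE2 x)]; exact h1
    | mul x y _ _ h1 h2 =>
      have h3 : toEnd h⁻¹ * toEnd h = 1 := by rw [← map_mul, inv_mul_cancel, map_one]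
      rw [show toEnd h * (x * y) * toEnd h⁻¹ = (toEnd h * x * toEnd h⁻¹) * (toEnd h * y * toEnd h⁻¹) by
        simp only [mul_assoc, ← mul_assoc (toEnd h⁻¹) (toEnd h), h3, one_mul]]
      exact mul_mem h1 h2
  -- squaring is bijective
  have hsurj : ∀ r ∈ R, ∃ q ∈ R, q * q = r := by
    intro r hr
    induction hr using Subring.closure_induction with
    | mem x hx =>
      obtain ⟨p, hp, rfl⟩ := hx
      obtain ⟨c, hc⟩ : Odd (orderOf p) := hodd.of_dvd_nat (orderOf_dvd_natCard p)
      refine ⟨toEnd ((p ^ (c + 1) : ↥H) : MulAut B), Subring.subset_closure ⟨_, pow_mem hp _, rfl⟩, ?_⟩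
      rw [← map_mul, ← Subgroup.coe_mul, ← pow_add, show c + 1 + (c + 1) = (2 * c + 1) + 1 by ring, ← hc,
        pow_succ, pow_orderOf_eq_one, one_mul]
    | zero => exact ⟨0, zero_mem _, mul_zero _⟩
    | one => exact ⟨1, one_mem _, one_mul _⟩
    | add x y _ _ h1 h2 =>
      obtain ⟨a, ha, rfl⟩ := h1
      obtain ⟨b, hb, rfl⟩ := h2
      refine ⟨a + b, add_mem ha hb, ?_⟩
      rw [add_mul, mul_add, mul_add, hcomm b hb a ha, add_add_add_comm]
      calc a * a + a * b + (a * b + b * b) = a * a + b * b + (a * b + a * b) := by abel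
        _ = _ := by rw [hE2, add_zero]
    | neg x _ h1 =>
      obtain ⟨a, ha, rfl⟩ := h1
      exact ⟨a, ha, eq_neg_of_add_eq_zero_left (hE2 _)⟩
    | mul x y _ _ h1 h2 =>
      obtain ⟨a, ha, rfl⟩ := h1
      obtain ⟨b, hb, rfl⟩ := h2
      refine ⟨a * b, mul_mem ha hb, ?_⟩
      rw [mul_assoc, ← mul_assoc b a b, hcomm b hb a ha, mul_assoc, mul_assoc]
  have hfR : Finite (AddMonoid.End (Additive B)) :=
    Finite.of_injective (fun r : AddMonoid.End (Additive B) => (r : Additive B → Additive B)) DFunLike.coe_injective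
  have hidem : ∀ r ∈ R, ∃ e ∈ R, e * e = e ∧ e * r = r ∧ ∃ q ∈ R, q * r = e := by
    intro r hr
    let sq : ↥R → ↥R := fun x => x * x
    have hinj : Function.Injective sq := Finite.injective_iff_surjective.2 fun x => by
      obtain ⟨q, hq, hqe⟩ := hsurj x x.2
      exact ⟨⟨q, hq⟩, Subtype.ext hqe⟩
    obtain ⟨j, hj, hper⟩ := hinj.mem_periodicPts (⟨r, hr⟩ : ↥R)
    have hit : ∀ j : ℕ, (((sq^[j]) ⟨r, hr⟩ : ↥R) : AddMonoid.End (Additive B)) = r ^ 2 ^ j := by
      intro j
      induction j with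
      | zero => simp
      | succ j ih =>
        rw [Function.iterate_succ_apply', pow_succ, pow_mul, pow_two]
        show ((sq^[j] ⟨r, hr⟩ : ↥R) : AddMonoid.End (Additive B)) * _ = _
        rw [ih]
    have hp : r ^ 2 ^ j = r := by rw [← hit]; exact congrArg Subtype.val hper
    have h2 : 2 ≤ 2 ^ j := Nat.le_self_pow (Nat.pos_iff_ne_zero.1 hj) 2
    refine ⟨r ^ (2 ^ j - 1), pow_mem hr _, ?_, ?_, r ^ (2 ^ j - 2), pow_mem hr _, ?_⟩
    · rw [← pow_add, show 2 ^ j - 1 + (2 ^ j - 1) = 2 ^ j + (2 ^ j - 2) by omega, pow_add, hp, ← pow_succ']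
      congr 1
      omega
    · rw [← pow_succ, show 2 ^ j - 1 + 1 = 2 ^ j by omega, hp]
    · rw [← pow_succ]
      congr 1
      omega
  -- annihilators all have the same order
  have hcross : ∀ h : MulAut B, ∀ x, toEnd h⁻¹ (toEnd h x) = x := fun h x => by
    show (toEnd h⁻¹ * toEnd h) x = x
    rw [← map_mul, inv_mul_cancel, map_one]; rfl
  have hann : ∀ x y : Additive B, x ≠ 0 → y ≠ 0 →
      Nat.card {r : ↥R // (r : AddMonoid.End (Additive B)) x = 0} ≤
        Nat.card {r : ↥R // (r : AddMonoid.End (Additive B)) y = 0} := by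
    intro x y hx hy
    obtain ⟨h, hh, hhe⟩ := htr (Additive.toMul x) (Additive.toMul y) (fun e => hx e) (fun e => hy e)
    have hxy : toEnd h x = y := congrArg Additive.ofMul hhe
    refine Nat.card_le_card_of_injective (fun r => ⟨⟨_, hconj h hh r.1 r.1.2⟩, ?_⟩) fun a b hab => ?_
    · show toEnd h ((r.1 : AddMonoid.End (Additive B)) (toEnd h⁻¹ y)) = 0
      rw [← hxy, hcross, r.2, map_zero]
    · refine Subtype.ext (Subtype.ext (AddMonoidHom.ext fun w => ?_))
      have h5 := DFunLike.congr_fun (congrArg (fun z => ((z : {r : ↥R // _}).1 : AddMonoid.End (Additive B))) hab)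
        (toEnd h w)
      change toEnd h ((a.1 : AddMonoid.End (Additive B)) (toEnd h⁻¹ (toEnd h w))) =
        toEnd h ((b.1 : AddMonoid.End (Additive B)) (toEnd h⁻¹ (toEnd h w))) at h5
      rw [hcross] at h5
      exact (congrArg (toEnd h⁻¹) h5).trans (hcross h _) |>.symm.trans (hcross h _) |>.symm
  have hdich : ∀ e ∈ R, e * e = e → ∀ x : Additive B, e x = x ∨ e x = 0 := by
    intro e he hee x
    by_contra hno
    push Not at hno
    obtain ⟨hn1, hn0⟩ := hno
    have hee' : e (e x) = e x := DFunLike.congr_fun hee x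
    have hx0 : x ≠ 0 := fun h => hn0 (by rw [h, map_zero])
    have hw0 : x + e x ≠ 0 := fun h => hn1 (by
      calc e x = x + x + e x := by rw [hW2, zero_add]
        _ = x := by rw [add_assoc, h, add_zero])
    refine absurd (hann (x + e x) x hw0 hx0) (not_le.2 ?_)
    have hsubs : {r : ↥R | (r : AddMonoid.End (Additive B)) x = 0} ⊆
        {r : ↥R | (r : AddMonoid.End (Additive B)) (x + e x) = 0} := by
      intro r (hr : (r : AddMonoid.End (Additive B)) x = 0)
      show (r : AddMonoid.End (Additive B)) (x + e x) = 0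
      rw [map_add, hr, zero_add,
        show (r : AddMonoid.End (Additive B)) (e x) = ((r : AddMonoid.End (Additive B)) * e) x from rfl,
        hcomm r r.2 e he]
      show e ((r : AddMonoid.End (Additive B)) x) = 0
      rw [hr, map_zero]
    have hsub := (Set.ssubset_iff_of_subset hsubs).2
      ⟨(⟨e, he⟩ : ↥R), show e (x + e x) = 0 by rw [map_add, hee', hW2], hn0⟩
    exact Set.ncard_lt_ncard hsub (Set.toFinite _)
  have hinjR : ∀ r ∈ R, r ≠ 0 → ∀ x, r x = 0 → x = 0 := by
    intro r hr hr0 x hx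
    obtain ⟨e, he, hee, her, q, hq, hqe⟩ := hidem r hr
    obtain ⟨y, hy⟩ : ∃ y, e y ≠ 0 := by
      by_contra h
      push Not at h
      exact hr0 (her ▸ AddMonoidHom.ext fun w => h (r w))
    have hex : e x = 0 := by rw [← hqe]; show q (r x) = 0; rw [hx, map_zero]
    have hey := (hdich e he hee y).resolve_right hy
    rcases hdich e he hee (x + y) with h | h
    · rw [map_add, hex, hey, zero_add] at h
      calc x = x + y + y := by rw [add_assoc, hW2, add_zero]
        _ = 0 := by rw [← h, hW2]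
    · rw [map_add, hex, zero_add] at h
      exact absurd h hy
  -- a field
  have : Nontrivial B := ⟨⟨t, 1, ht1⟩⟩
  have : Nontrivial ↥R := ⟨⟨1, 0, fun h => ht1 (by
    have := DFunLike.congr_fun (congrArg Subtype.val h) (Additive.ofMul t)
    exact this)⟩⟩
  let _ : CommRing ↥R := { (inferInstance : Ring ↥R) with mul_comm := fun a b => Subtype.ext (hcomm a a.2 b b.2) }
  have : NoZeroDivisors ↥R := ⟨fun {a b} hab => or_iff_not_imp_left.2 fun ha => Subtype.ext
    (AddMonoidHom.ext fun w => hinjR a a.2 (fun h => ha (Subtype.ext h)) _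
      (DFunLike.congr_fun (congrArg Subtype.val hab) w))⟩
  have : IsDomain ↥R := NoZeroDivisors.to_isDomain _
  let _ : Field ↥R := (Finite.isField_of_domain ↥R).toField
  -- the cyclic group generated by `s`
  let σ : ↥R ≃+* ↥R := RingEquiv.ofBijective
    ({ toFun := fun r => ⟨_, hconj s hsH r r.2⟩
       map_one' := Subtype.ext (by simp [← map_mul])
       map_zero' := Subtype.ext (by simp)
       map_add' := fun a b => Subtype.ext (by simp [mul_add, add_mul])
       map_mul' := fun a b => Subtype.ext (AddMonoidHom.ext fun w => by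
         show toEnd s ((a : AddMonoid.End (Additive B)) ((b : AddMonoid.End (Additive B)) _)) =
           toEnd s ((a : AddMonoid.End (Additive B)) (toEnd s⁻¹ (toEnd s _)))
         rw [hcross]
         rfl) } : ↥R →+* ↥R)
    (Finite.injective_iff_bijective.1 (RingHom.injective _))
  set T0 : Additive B := Additive.ofMul t with hT0
  have hevinj : Function.Injective fun r : ↥R => (r : AddMonoid.End (Additive B)) T0 := fun a b hab => by
    by_contra hne
    have h1 := hinjR (a - b : ↥R).1 (a - b).2 (fun h => hne (sub_eq_zero.1 (Subtype.ext h))) T0 (by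
      show (a : AddMonoid.End (Additive B)) T0 - (b : AddMonoid.End (Additive B)) T0 = 0
      exact sub_eq_zero.2 hab)
    exact ht1 h1
  have hsinv : toEnd s⁻¹ T0 = T0 := by
    conv_lhs => rw [show T0 = toEnd s T0 from congrArg Additive.ofMul hst.symm]
    exact hcross s T0
  have hσ : ∀ (i : ℕ) (r : ↥R), (((σ ^ i) r : ↥R) : AddMonoid.End (Additive B)) T0 =
      toEnd (s ^ i) ((r : AddMonoid.End (Additive B)) T0) := by
    intro i
    induction i with
    | zero => intro r; rfl
    | succ i ih =>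
      intro r
      rw [pow_succ', pow_succ', map_mul]
      show toEnd s ((((σ ^ i) r : ↥R) : AddMonoid.End (Additive B)) (toEnd s⁻¹ T0)) = _
      rw [hsinv, ih]
      rfl
  -- a nonidentity element of `U` in `R t`
  obtain ⟨v, hvU, hv1, r0, hr0⟩ : ∃ v ∈ U, v ≠ 1 ∧ ∃ r : ↥R,
      (r : AddMonoid.End (Additive B)) T0 = Additive.ofMul v := by
    obtain ⟨p, hp, hp1⟩ := P.bot_or_exists_ne_one.resolve_left hPne
    set r : ↥R := ⟨toEnd (p : MulAut B), Subring.subset_closure ⟨p, hp, rfl⟩⟩ with hr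
    have hne : (r : AddMonoid.End (Additive B)) T0 ≠ ((1 : ↥R) : AddMonoid.End (Additive B)) T0 := fun h => by
      have h2 := congrArg Subtype.val (hevinj h)
      refine hp1 (Subtype.ext (MulEquiv.ext fun b => ?_))
      exact congrArg Additive.toMul (DFunLike.congr_fun h2 (Additive.ofMul b))
    rcases hUor ((p : MulAut B) t) with h | h
    · refine ⟨_, h, fun h1 => ht1 ?_, r, rfl⟩
      exact (p : MulAut B).injective (h1.trans (map_one _).symm)
    · refine ⟨_, h, fun h1 => hne ?_, 1 + r, rfl⟩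
      show Additive.ofMul ((p : MulAut B) t) = Additive.ofMul t
      congr 1
      calc (p : MulAut B) t = t * (t * (p : MulAut B) t) := by rw [← mul_assoc, hsq, one_mul]
        _ = t := by rw [h1, mul_one]
  -- so `R t` is everything
  have hall : ∀ b : B, ∃ r : ↥R, (r : AddMonoid.End (Additive B)) T0 = Additive.ofMul b := by
    have hU' : ∀ w ∈ U, ∃ r : ↥R, (r : AddMonoid.End (Additive B)) T0 = Additive.ofMul w := by
      intro w hw
      by_cases hw1 : w = 1
      · exact ⟨0, by rw [hw1]; rfl⟩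
      obtain ⟨i, hi⟩ := hstr v hvU w hw hv1 hw1
      exact ⟨(σ ^ i) r0, by rw [hσ, hr0, toEnd_apply, hi]⟩
    intro b
    rcases hUor b with h | h
    · exact hU' b h
    · obtain ⟨r, hr⟩ := hU' _ h
      refine ⟨1 + r, ?_⟩
      show T0 + (r : AddMonoid.End (Additive B)) T0 = _
      rw [hr]
      show Additive.ofMul (t * (t * b)) = _
      rw [← mul_assoc, hsq, one_mul]
  have hRc : Nat.card ↥R = 2 ^ (k + 1) := by
    rw [← hB]
    exact Nat.card_eq_of_bijective (fun r : ↥R => Additive.toMul ((r : AddMonoid.End (Additive B)) T0))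
      ⟨fun a b h => hevinj h, fun b => by obtain ⟨r, hr⟩ := hall b; exact ⟨r, congrArg Additive.toMul hr⟩⟩
  have hper := ringAut_pow_eq_one hRc σ
  have hle : 2 ^ k ≤ k + 2 := by
    rw [← hU, show k + 2 = Nat.card (Option (Fin (k + 1))) by simp]
    refine Nat.card_le_card_of_injective (fun w : ↥U => if hw : (w : B) = 1 then none else
      some ⟨(hstr v hvU w w.2 hv1 hw).choose % (k + 1), Nat.mod_lt _ (Nat.succ_pos k)⟩) fun a b hab => ?_
    simp only at hab
    have hkey : ∀ w : ↥U, ∀ hw : (w : B) ≠ 1,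
        (w : B) = Additive.toMul ((((σ ^ ((hstr v hvU w w.2 hv1 hw).choose % (k + 1))) r0 : ↥R) : AddMonoid.End (Additive B)) T0) := by
      intro w hw
      have h1 := (hstr v hvU w w.2 hv1 hw).choose_spec
      set i := (hstr v hvU w w.2 hv1 hw).choose
      rw [← pow_eq_pow_mod i hper]
      rw [hσ, hr0, toEnd_apply, h1]
      rfl
    split_ifs at hab with ha hb hb
    · exact Subtype.ext (ha.trans hb.symm)
    · refine Subtype.ext ((hkey a ha).trans ((hkey b hb).trans ?_).symm)
      rw [Fin.mk.inj (Option.some.inj hab)]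
  by_contra hne
  have h3 : ∀ j : ℕ, 3 ≤ j → j + 2 < 2 ^ j := fun j hj => by
    induction j, hj using Nat.le_induction with
    | base => norm_num
    | succ j _ ih => rw [pow_succ]; omega
  exact absurd hle (not_le.2 (h3 k (by omega)))

end Cfsg.Agent.TimesPSLTwo
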