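import Cfsg.Agent.Lib.TimesPSLTwo.ExceptionalFinish
import Cfsg.Agent.Lib.TimesPSLTwo.FieldAction

/-!
Sylow 2-subgroups in the elementary abelian case.
-/

namespace Cfsg.Agent.TimesPSLTwo

namespace Setup

variable {G : Type*} [Group G] {t : G} {A V : Subgroup G} {s : G} {k : ℕ} (hb : Setup t A V s k)

include hb

theorem mem_or_tmul [Finite G] {a : G} (ha : a ∈ A) : a ∈ V ∨ t * a ∈ V := by
  have h2 : (V.subgroupOf A).index = 2 := by
    have h1 := (V.subgroupOf A).card_mul_index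
    rw [Nat.card_congr (Subgroup.subgroupOfEquivOfLe hb.leV).toEquiv, hb.cardA, hb.cardV, pow_succ] at h1
    exact Nat.eq_of_mul_eq_mul_left (Nat.two_pow_pos k) h1
  by_cases haV : a ∈ V
  · exact Or.inl haV
  · exact Or.inr (Subgroup.mem_subgroupOf.1 ((Subgroup.mul_mem_iff_of_index_two h2
      (a := ⟨t, hb.memA⟩) (b := ⟨a, ha⟩)).2 (iff_of_false
        (fun h => hb.tV (Subgroup.mem_subgroupOf.1 h)) (fun h => haV (Subgroup.mem_subgroupOf.1 h)))))

theorem tt : t * t = 1 := hb.elem t hb.memA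

theorem t_ne_one : t ≠ 1 := fun h => hb.tV (h ▸ one_mem V)

theorem s_pow_t (i : ℕ) : s ^ i * t * (s ^ i)⁻¹ = t := by
  have h1 : Commute (s ^ i) t := (show Commute s t from Subgroup.mem_centralizer_singleton_iff.1 hb.smem).pow_left i
  rw [h1.eq, mul_inv_cancel_right]

/-- The orbit of `t` under the normaliser of `A`. -/
def Orb (t : G) (A : Subgroup G) (a : G) : Prop :=
  ∃ n ∈ Subgroup.normalizer (A : Set G), n * t * n⁻¹ = a

omit hb in
theorem orb_conj {a n : G} (h : Orb t A a) (hn : n ∈ Subgroup.normalizer (A : Set G)) :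
    Orb t A (n * a * n⁻¹) := by
  obtain ⟨m, hm, rfl⟩ := h
  exact ⟨n * m, mul_mem hn hm, by group⟩

omit hb in
theorem orb_self : Orb t A t := ⟨1, one_mem _, by group⟩

theorem orb_V {v w : G} (hv : v ∈ V) (hw : w ∈ V) (hv1 : v ≠ 1) (hw1 : w ≠ 1) (h : Orb t A v) :
    Orb t A w := by
  obtain ⟨i, hi⟩ := hb.sTrans v hv w hw hv1 hw1
  exact hi ▸ orb_conj h (pow_mem hb.sA i)

theorem orb_tV {v w : G} (hv : v ∈ V) (hw : w ∈ V) (hv1 : v ≠ 1) (hw1 : w ≠ 1) (h : Orb t A (t * v)) :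
    Orb t A (t * w) := by
  obtain ⟨i, hi⟩ := hb.sTrans v hv w hw hv1 hw1
  have := orb_conj h (pow_mem hb.sA i)
  rwa [show s ^ i * (t * v) * (s ^ i)⁻¹ = (s ^ i * t * (s ^ i)⁻¹) * (s ^ i * v * (s ^ i)⁻¹) by group,
    hb.s_pow_t, hi] at this

theorem orb_mem {a : G} (h : Orb t A a) : a ∈ A ∧ a ≠ 1 := by
  obtain ⟨n, hn, rfl⟩ := h
  exact ⟨(Subgroup.mem_normalizer_iff.1 hn t).1 hb.memA, fun h => hb.t_ne_one (conj_eq_one_iff.1 h)⟩

theorem exists_second [Finite G] (v : G) : ∃ w ∈ V, w ≠ 1 ∧ w ≠ v := by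
  classical
  by_contra h
  push Not at h
  have h1 : Nat.card ↥V ≤ Nat.card Bool := by
    refine Nat.card_le_card_of_injective (fun w : ↥V => if (w : G) = 1 then true else false) fun a b hab => ?_
    simp only at hab
    split_ifs at hab with ha hb' hb'
    · exact Subtype.ext (ha.trans hb'.symm)
    · exact Subtype.ext ((h a a.2 ha).trans (h b b.2 hb').symm)
  rw [hb.cardV] at h1
  simp at h1
  have : 2 ^ 2 ≤ 2 ^ k := Nat.pow_le_pow_right two_pos hb.two_le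
  omega

/-- The orbit of `t` is not `{t} ∪ V#`. -/
theorem exists_orb_tV [Finite G] {a : G} (ha : Orb t A a) (hne : a ≠ t) :
    ∃ v ∈ V, v ≠ 1 ∧ Orb t A (t * v) := by
  by_contra hno
  push Not at hno
  have hsub : ∀ o, Orb t A o → o = t ∨ o ∈ V := fun o ho => by
    obtain ⟨hoA, -⟩ := hb.orb_mem ho
    rcases hb.mem_or_tmul hoA with h | h
    · exact Or.inr h
    · by_cases h1 : t * o = 1
      · exact Or.inl ((inv_eq_of_mul_eq_one_right h1).symm.trans (inv_eq_of_mul_eq_one_right hb.tt))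
      · exact absurd (by rwa [← mul_assoc, hb.tt, one_mul]) (hno (t * o) h h1)
  have haV : a ∈ V := (hsub a ha).resolve_left hne
  have ha1 := (hb.orb_mem ha).2
  have hall : ∀ w ∈ V, w ≠ 1 → Orb t A w := fun w hw hw1 => hb.orb_V haV hw ha1 hw1 ha
  obtain ⟨n, hn, hne'⟩ := ha
  -- preimages
  have hpre : ∀ o, Orb t A o → o ≠ a → n⁻¹ * o * n ∈ V ∧ n⁻¹ * o * n ≠ 1 := fun o ho hoa => by
    have h1 := orb_conj ho (inv_mem hn)
    rw [inv_inv] at h1
    refine ⟨(hsub _ h1).resolve_left fun h => hoa ?_, (hb.orb_mem h1).2⟩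
    rw [← hne', ← h]; group
  obtain ⟨w, hw, hw1, hwa⟩ := hb.exists_second a
  obtain ⟨hp1, -⟩ := hpre t orb_self (Ne.symm hne)
  obtain ⟨hp2, -⟩ := hpre w (hall w hw hw1) hwa
  have h5 : n⁻¹ * t * n * (n⁻¹ * w * n) ≠ 1 := fun h => hb.tV (by
    rw [show n⁻¹ * t * n * (n⁻¹ * w * n) = n⁻¹ * (t * w) * n⁻¹⁻¹ by group, conj_eq_one_iff] at h
    rw [eq_inv_of_mul_eq_one_left h]
    exact inv_mem hw)
  have := orb_conj (hall _ (mul_mem hp1 hp2) h5) hn
  rw [show n * (n⁻¹ * t * n * (n⁻¹ * w * n)) * n⁻¹ = t * w by group] at this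
  exact hno w hw hw1 this

omit hb in
/-- A 2-element acting on a set of odd size fixes a point. -/
theorem fixed_of_odd [Finite G] {p : G → Prop} {x : G} {j : ℕ} (hx : x ^ 2 ^ j = 1)
    (hp : ∀ a, p a → p (x * a * x⁻¹)) (hodd : Odd (Nat.card {a : G // p a})) :
    ∃ a, p a ∧ x * a * x⁻¹ = a := by
  classical
  have : Fintype G := Fintype.ofFinite G
  have : Fact (Nat.Prime 2) := ⟨Nat.prime_two⟩
  let f : {a : G // p a} → {a : G // p a} := fun a => ⟨x * a * x⁻¹, hp a a.2⟩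
  have hf : Function.Bijective f := Finite.injective_iff_bijective.1 fun a b h =>
    Subtype.ext (mul_left_cancel (mul_right_cancel (congrArg Subtype.val h)))
  let σ : Equiv.Perm {a : G // p a} := Equiv.ofBijective f hf
  have hpow : ∀ m : ℕ, ∀ a, (((σ ^ m) a : {a : G // p a}) : G) = x ^ m * a * (x ^ m)⁻¹ := by
    intro m
    induction m with
    | zero => intro a; simp
    | succ m ih =>
      intro a
      rw [pow_succ', Equiv.Perm.mul_apply]
      show x * ((σ ^ m) a : G) * x⁻¹ = _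
      rw [ih, pow_succ']; group
  have hσ : σ ^ 2 ^ j = 1 := Equiv.ext fun a => Subtype.ext (by rw [hpow, hx]; simp)
  obtain ⟨a, ha⟩ := Equiv.Perm.exists_fixed_point_of_prime (p := 2) (by
    rw [← Nat.card_eq_fintype_card]; exact hodd.not_two_dvd_nat) hσ
  exact ⟨a, a.2, congrArg Subtype.val ha⟩

/-- When `A` is not a Sylow subgroup, no element of `V` is conjugate to `t`. -/
theorem not_conj_V [Finite G] (hA : ∀ S : Sylow 2 G, (S : Subgroup G) ≠ A) :
    ∀ v ∈ V, ¬ IsConj t v := by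
  have : Fact (Nat.Prime 2) := ⟨Nat.prime_two⟩
  obtain ⟨S, hS⟩ := hb.isPGroup.exists_le_sylow
  -- an element of a larger 2-group normalising `A`
  obtain ⟨x, hxS, hxN, hxA⟩ : ∃ x ∈ (S : Subgroup G), x ∈ Subgroup.normalizer (A : Set G) ∧ x ∉ A := by
    have hlt : A.subgroupOf S < ⊤ := lt_top_iff_ne_top.2 fun h =>
      hA S (le_antisymm (Subgroup.subgroupOf_eq_top.1 h) hS)
    have := S.2.isNilpotent
    obtain ⟨y, hy, hyA⟩ := SetLike.exists_of_lt (normalizerCondition_of_isNilpotent _ hlt)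
    refine ⟨y, y.2, Subgroup.mem_normalizer_iff.2 fun a => ⟨fun ha => ?_, fun ha => ?_⟩,
      fun h => hyA (Subgroup.mem_subgroupOf.2 h)⟩
    · exact Subgroup.mem_subgroupOf.1 ((Subgroup.mem_normalizer_iff.1 hy ⟨a, hS ha⟩).1 (Subgroup.mem_subgroupOf.2 ha))
    · have haS : a ∈ (S : Subgroup G) := by
        have := mul_mem (mul_mem (inv_mem y.2) (hS ha)) y.2
        rwa [show (y : G)⁻¹ * ((y : G) * a * (y : G)⁻¹) * y = a by group] at this
      exact Subgroup.mem_subgroupOf.1 ((Subgroup.mem_normalizer_iff.1 hy ⟨a, haS⟩).2 (Subgroup.mem_subgroupOf.2 ha))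
  obtain ⟨j, hj⟩ : ∃ j, x ^ 2 ^ j = 1 := by
    obtain ⟨j, hj⟩ := S.2 ⟨x, hxS⟩
    exact ⟨j, congrArg Subtype.val hj⟩
  have hxt : x * t * x⁻¹ ≠ t := fun h => hxA (hb.two_mem
    (Subgroup.mem_centralizer_singleton_iff.2 (mul_inv_eq_iff_eq_mul.1 h)) hxN (orderOf_dvd_of_pow_eq_one hj))
  obtain ⟨v1, hv1, hv11, htv1⟩ := hb.exists_orb_tV ⟨x, hxN, rfl⟩ hxt
  have hXodd : ∀ b : G, b ∈ A → b ≠ 1 → b ∈ V ∨ Orb t A b := fun b hbA hb1 => by
    rcases hb.mem_or_tmul hbA with h | h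
    · exact Or.inl h
    · refine Or.inr ?_
      by_cases h1 : t * b = 1
      · rw [show b = t from (inv_eq_of_mul_eq_one_right h1).symm.trans (inv_eq_of_mul_eq_one_right hb.tt)]
        exact orb_self
      · have := hb.orb_tV hv1 h hv11 h1 htv1
        rwa [← mul_assoc, hb.tt, one_mul] at this
  have hoddn : ∀ m, 1 ≤ m → ∀ Q : Subgroup G, Nat.card ↥Q = 2 ^ m → Odd (Nat.card {a : G // a ∈ Q ∧ a ≠ 1}) := by
    intro m hm Q hQ
    have h1 : Nat.card {a : G // a ∈ Q ∧ a ≠ 1} + 1 = Nat.card ↥Q := by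
      have h2 := Set.ncard_sdiff_singleton_add_one (s := (Q : Set G)) (one_mem Q) (Set.toFinite _)
      exact h2
    obtain ⟨m, rfl⟩ := Nat.exists_eq_add_of_le hm
    rw [hQ, pow_add, pow_one] at h1
    exact ⟨2 ^ m - 1, by have := Nat.two_pow_pos m; omega⟩
  by_cases hex : ∃ v ∈ V, v ≠ 1 ∧ Orb t A v
  · exfalso
    obtain ⟨v, hv, hv0, hvo⟩ := hex
    obtain ⟨a, ⟨haA, ha1⟩, hfix⟩ := fixed_of_odd (p := fun a => a ∈ A ∧ a ≠ 1) hj
      (fun a ha => ⟨(Subgroup.mem_normalizer_iff.1 hxN a).1 ha.1, fun h => ha.2 (conj_eq_one_iff.1 h)⟩)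
      (hoddn (k + 1) (Nat.le_add_left 1 k) A hb.cardA)
    obtain ⟨n, hn, rfl⟩ : Orb t A a := (hXodd a haA ha1).elim (fun h => hb.orb_V hv h hv0 ha1 hvo) id
    have hmem := hb.two_mem (x := n⁻¹ * x * n) (Subgroup.mem_centralizer_singleton_iff.2 (by
      calc n⁻¹ * x * n * t = n⁻¹ * (x * (n * t * n⁻¹) * x⁻¹) * x * n := by group
        _ = t * (n⁻¹ * x * n) := by rw [hfix]; group))
      (mul_mem (mul_mem (inv_mem hn) hxN) hn) (orderOf_dvd_of_pow_eq_one (n := 2 ^ j) (by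
        rw [show n⁻¹ * x * n = MulAut.conj n⁻¹ x by simp, ← map_pow, hj, map_one]))
    exact hxA ((Subgroup.mem_normalizer_iff.1 (inv_mem hn) x).2 (by rwa [inv_inv]))
  push Not at hex
  obtain ⟨v0, ⟨hv0, hv01⟩, hfix⟩ := fixed_of_odd (p := fun a => a ∈ V ∧ a ≠ 1) hj
    (fun a ha => by
      have h1 : x * a * x⁻¹ ≠ 1 := fun h => ha.2 (conj_eq_one_iff.1 h)
      refine ⟨((hXodd _ ((Subgroup.mem_normalizer_iff.1 hxN a).1 (hb.leV ha.1)) h1)).resolve_right fun h =>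
        hex a ha.1 ha.2 ?_, h1⟩
      have := orb_conj h (inv_mem hxN)
      rwa [show x⁻¹ * (x * a * x⁻¹) * x⁻¹⁻¹ = a by group] at this)
    (hoddn k (by have := hb.two_le; omega) V hb.cardV)
  intro v hv hconj
  by_cases hv1' : v = 1
  · obtain ⟨g, hg⟩ := isConj_iff.1 hconj
    exact hb.t_ne_one (conj_eq_one_iff.1 (hg.trans hv1'))
  obtain ⟨i, hi⟩ := hb.sTrans v hv v0 hv0 hv1' hv01
  have hc0 : IsConj t v0 := hconj.trans (isConj_iff.2 ⟨s ^ i, hi⟩)
  have hQ : IsPGroup 2 ↥(A ⊔ Subgroup.zpowers x) :=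
    closure_sup_isPGroup hb.isPGroup (orderOf_dvd_of_pow_eq_one hj) hxN
  have hC : A ⊔ Subgroup.zpowers x ≤ Subgroup.centralizer ({v0} : Set G) :=
    sup_le (fun a ha => Subgroup.mem_centralizer_singleton_iff.2 (hb.comm ha (hb.leV hv0)))
      (Subgroup.zpowers_le.2 (Subgroup.mem_centralizer_singleton_iff.2 (mul_inv_eq_iff_eq_mul.1 hfix)))
  have hle := (hb.small_centralizer hc0 hQ hC).1
  rw [← hb.cardA] at hle
  exact hxA (Subgroup.eq_of_le_of_card_ge le_sup_left hle ▸ Subgroup.mem_sup_right (Subgroup.mem_zpowers x))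

/-- The case where `A` is a Sylow subgroup. -/
theorem k_eq_two [Finite G] (hG : ∀ H : Subgroup G, H.index ≠ 2) (S : Sylow 2 G) (hS : (S : Subgroup G) = A) :
    k = 2 := by
  classical
  have : Fact (Nat.Prime 2) := ⟨Nat.prime_two⟩
  obtain ⟨g, hg⟩ := Involutions.ThompsonTransfer.exists_conj_mem hG S V (hS ▸ hb.leV) (by
    rw [hS, Subgroup.relIndex]
    have h1 := (V.subgroupOf A).card_mul_index
    rw [Nat.card_congr (Subgroup.subgroupOfEquivOfLe hb.leV).toEquiv, hb.cardA, hb.cardV, pow_succ] at h1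
    exact Nat.eq_of_mul_eq_mul_left (Nat.two_pow_pos k) h1) t hb.ot
  have : IsMulCommutative ↥(S : Subgroup G) :=
    ⟨⟨fun a b => Subtype.ext (hb.comm (hS ▸ a.2) (hS ▸ b.2))⟩⟩
  obtain ⟨n, hn, hne⟩ := S.conj_eq_normalizer_conj_of_mem t g⁻¹ (hS ▸ hb.memA : t ∈ (S : Subgroup G))
    (by rw [inv_inv]; exact (le_of_eq hS.symm) (hb.leV hg))
  rw [inv_inv] at hne
  have hnA : n⁻¹ ∈ Subgroup.normalizer (A : Set G) := by rw [← hS]; exact inv_mem hn
  have hov : Orb t A (g * t * g⁻¹) := ⟨n⁻¹, hnA, by rw [inv_inv]; exact hne.symm⟩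
  have hgne : g * t * g⁻¹ ≠ t := fun h => hb.tV (h ▸ hg)
  have hg1 := (hb.orb_mem hov).2
  obtain ⟨v1, hv1, hv11, htv1⟩ := hb.exists_orb_tV hov hgne
  have htrans : ∀ a ∈ A, a ≠ 1 → Orb t A a := fun a ha ha1 => by
    rcases hb.mem_or_tmul ha with h | h
    · exact hb.orb_V hg h hg1 ha1 hov
    · by_cases h1 : t * a = 1
      · rw [show a = t from (inv_eq_of_mul_eq_one_right h1).symm.trans (inv_eq_of_mul_eq_one_right hb.tt)]
        exact orb_self
      · have := hb.orb_tV hv1 h hv11 h1 htv1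
        rwa [← mul_assoc, hb.tt, one_mul] at this
  let N := Subgroup.normalizer (A : Set G)
  let ρ := A.normalizerMonoidHom
  have hρ : ∀ (n : ↥N) (a : ↥A), ((ρ n a : ↥A) : G) = (n : G) * a * (n : G)⁻¹ := fun _ _ => rfl
  let _ : CommGroup ↥A := { A.toGroup with mul_comm := fun a b => Subtype.ext (hb.comm a.2 b.2) }
  have hodd : Odd (Nat.card ↥ρ.range) := by
    rw [← Nat.not_even_iff_odd, even_iff_two_dvd, ← Subgroup.index_ker]
    intro h2
    have hle : A.subgroupOf N ≤ ρ.ker := by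
      intro a ha
      rw [MonoidHom.mem_ker]
      exact MulEquiv.ext fun b => Subtype.ext (by
        rw [hρ, hb.comm (Subgroup.mem_subgroupOf.1 ha) b.2, mul_inv_cancel_right]; rfl)
    refine S.not_dvd_index ?_
    rw [hS, ← Subgroup.relIndex_mul_index (Subgroup.le_normalizer (H := A))]
    exact dvd_mul_of_dvd_left (h2.trans (Subgroup.index_dvd_of_le hle)) _
  refine card_le_two (B := ↥A) (k := k) (t := ⟨t, hb.memA⟩) (U := V.subgroupOf A)
    (s := ρ ⟨s, hb.sA⟩) (fun b => Subtype.ext (hb.elem b b.2)) hodd ?_ hb.tV ?_ hb.two_le hb.cardA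
    ⟨_, rfl⟩ (Subtype.ext (by rw [hρ]; simpa using hb.s_pow_t 1)) ?_ fun b => hb.mem_or_tmul b.2
  · intro a b ha hb'
    obtain ⟨m, hm, hma⟩ := htrans a a.2 fun h => ha (Subtype.ext h)
    obtain ⟨m', hm', hmb⟩ := htrans b b.2 fun h => hb' (Subtype.ext h)
    refine ⟨_, ⟨⟨m' * m⁻¹, mul_mem hm' (inv_mem hm)⟩, rfl⟩, Subtype.ext ?_⟩
    rw [hρ, ← hma, ← hmb]
    group
  · rw [Nat.card_congr (Subgroup.subgroupOfEquivOfLe hb.leV).toEquiv, hb.cardV]
  · intro v hv w hw hv1' hw1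
    obtain ⟨i, hi⟩ := hb.sTrans v hv w hw (fun h => hv1' (Subtype.ext h)) (fun h => hw1 (Subtype.ext h))
    refine ⟨i, Subtype.ext ?_⟩
    rw [← map_pow, hρ]
    exact hi

/-- The Sylow 2-subgroups are elementary abelian of order eight. -/
theorem sylow_eight [Finite G] (hG : ∀ H : Subgroup G, H.index ≠ 2) (S : Sylow 2 G) :
    Nat.card ↥(S : Subgroup G) = 8 ∧ ∀ x ∈ (S : Subgroup G), x * x = 1 := by
  have : Fact (Nat.Prime 2) := ⟨Nat.prime_two⟩
  by_cases hA : ∃ S0 : Sylow 2 G, (S0 : Subgroup G) = A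
  · obtain ⟨S0, hS0⟩ := hA
    have hk := hb.k_eq_two hG S0 hS0
    obtain ⟨g, hg⟩ := MulAction.exists_smul_eq G S0 S
    have hSeq : (S : Subgroup G) = A.map (MulAut.conj g).toMonoidHom := by
      rw [← hg, ← hS0]; rfl
    refine ⟨?_, fun x hx => ?_⟩
    · rw [hSeq, Subgroup.card_map_of_injective (MulAut.conj g).injective, hb.cardA, hk]; rfl
    · rw [hSeq] at hx
      obtain ⟨a, ha, rfl⟩ := hx
      rw [← map_mul, hb.elem a ha, map_one]
  · exfalso
    push Not at hA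
    have hVX := hb.not_conj_V hA
    rcases chain_top hb hVX A V hb.level_zero with ⟨T, M, hl, S0, hS0⟩ | ⟨T, M, hm, h8, hno, hlin⟩
    · obtain ⟨g, hg⟩ := Involutions.ThompsonTransfer.exists_conj_mem hG S0 M (hS0 ▸ hl.hMT) (by
        rw [hS0, Subgroup.relIndex]
        have h1 := (M.subgroupOf T).card_mul_index
        rw [Nat.card_congr (Subgroup.subgroupOfEquivOfLe hl.hMT).toEquiv, hl.cardT, mul_comm 2] at h1
        exact Nat.eq_of_mul_eq_mul_left Nat.card_pos h1) t hb.ot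
      exact hl.no_conj hb hVX (isConj_iff.2 ⟨g, rfl⟩) hg
    · obtain ⟨e⟩ := exists_coord hm.two h8
      refine Moving.Exc.contra (hm := hm) (e := e) ⟨h8, hno, fun L => ?_⟩ hG
      obtain ⟨h, ⟨n, rfl⟩, hh⟩ := hlin ((e.symm.trans L).trans e)
      exact ⟨n, fun x => by rw [hh]; simp⟩

end Setup

end Cfsg.Agent.TimesPSLTwo
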