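import Cfsg.Agent.Lib.TimesPSLTwo.Step

/-!
The exceptional level on eight points, where every linear map occurs.
-/

namespace Cfsg.Agent.TimesPSLTwo

open Affine (Hyp lin tr ainv inva)

abbrev V8 := ZMod 2 × ZMod 2 × ZMod 2

/-- Unitriangular maps. -/
def uni (p : V8) : V8 ≃+ V8 :=
  AddEquiv.mk'
    { toFun := fun x => (x.1 + p.1 * x.2.1 + p.2.1 * x.2.2, x.2.1 + p.2.2 * x.2.2, x.2.2)
      invFun := fun x => (x.1 + p.1 * (x.2.1 + p.2.2 * x.2.2) + p.2.1 * x.2.2, x.2.1 + p.2.2 * x.2.2, x.2.2)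
      left_inv := by intro x; revert p x; decide +kernel
      right_inv := by intro x; revert p x; decide +kernel }
    (by revert p; decide +kernel)

/-- An element of order three fixing the plane `l = 0`. -/
def rot : V8 ≃+ V8 :=
  AddEquiv.mk'
    { toFun := fun x => (x.2.1, x.1 + x.2.1, x.2.2)
      invFun := fun x => (x.1 + x.2.1, x.1, x.2.2)
      left_inv := by unfold Function.LeftInverse; decide +kernel
      right_inv := by unfold Function.RightInverse Function.LeftInverse; decide +kernel }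
    (by decide +kernel)

/-- The product of two unitriangular parameters. -/
def uniMul (p q : V8) : V8 := (p.1 + q.1, p.2.1 + q.2.1 + p.1 * q.2.2, p.2.2 + q.2.2)

theorem uni_mul (p q : V8) (x : V8) : uni p (uni q x) = uni (uniMul p q) x := by
  revert p q x; decide +kernel

theorem uni_zero (x : V8) : uni 0 x = x := by revert x; decide +kernel

theorem uni_inj (p q : V8) (h : ∀ x, uni p x = uni q x) : p = q := by
  revert p q; decide +kernel

theorem uniMul_assoc_self (p : V8) : ∃ q, uniMul p q = 0 := ⟨(p.1, p.2.1 + p.1 * p.2.2, p.2.2), by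
  revert p; decide +kernel⟩

theorem uni_sq_cases (p : V8) : uniMul p p = 0 ∨ p = (1, 0, 1) ∨ p = (1, 1, 1) := by
  revert p; decide +kernel

theorem z_central (p : V8) : uniMul p (0, 1, 0) = uniMul (0, 1, 0) p := by
  revert p; decide +kernel

theorem fix_z (x : V8) : uni (0, 1, 0) x = x ↔ x.2.2 = 0 := by
  revert x; decide +kernel

theorem pointwise_plane (p : V8) (h : ∀ x : V8, x.2.2 = 0 → uni p x = x) : p.1 = 0 := by
  revert p; decide +kernel

theorem centralizer_four (p q : V8) (hp : p ≠ 0) (hpz : p ≠ (0, 1, 0)) (hq : uniMul p q = uniMul q p)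
    (hq2 : uniMul q q = 0) : q = 0 ∨ q = p ∨ q = (0, 1, 0) ∨ q = uniMul p (0, 1, 0) := by
  revert p q; decide +kernel

theorem class_two (p q : V8) (hpq : ∃ r r', uniMul r r' = 0 ∧ q = uniMul (uniMul r p) r') :
    q = p ∨ q = uniMul p (0, 1, 0) := by
  revert p q; decide +kernel

theorem class_central (q : V8) (hpq : ∃ r r', uniMul r r' = 0 ∧ q = uniMul (uniMul r (0, 1, 0)) r') :
    q = (0, 1, 0) := by
  revert q; decide +kernel

theorem rot_facts : (∀ x : V8, rot (rot (rot x)) = x) ∧ (∀ x : V8, x.2.2 = 0 → (rot x).2.2 = 0) ∧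
    rot (1, 0, 0) ≠ (1, 0, 0) := by decide +kernel

theorem exists_coord {W : Type*} [AddCommGroup W] [Finite W] (h2 : ∀ w : W, w + w = 0)
    (h8 : Nat.card W = 8) : Nonempty (V8 ≃+ W) := by
  let _ : Module (ZMod 2) W := AddCommGroup.zmodModule fun w => by rw [two_nsmul, h2]
  have hf : Module.finrank (ZMod 2) V8 = Module.finrank (ZMod 2) W := by
    have h1 := Module.natCard_eq_pow_finrank (K := ZMod 2) (V := W)
    have h3 := Module.natCard_eq_pow_finrank (K := ZMod 2) (V := V8)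
    rw [Nat.card_zmod] at h1 h3
    refine Nat.pow_right_injective le_rfl (?_ : 2 ^ _ = 2 ^ _)
    rw [← h1, ← h3, h8]; simp
  exact ⟨(LinearEquiv.ofFinrankEq V8 W hf).toAddEquiv⟩

variable {G : Type*} [Group G] [Finite G] {t : G} {A V : Subgroup G} {s : G} {k : ℕ} {T M : Subgroup G}

/-- An element of an elementary abelian 2-group avoiding two given elements lies off a maximal one. -/
theorem exists_functional {Q : Type*} [Group Q] [Finite Q] (hsq : ∀ q : Q, q * q = 1) {a b : Q}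
    (ha : a ≠ 1) (hb : b ≠ 1) : ∃ K : Subgroup Q, K.index = 2 ∧ a ∉ K ∧ b ∉ K := by
  have hcomm : ∀ p q : Q, p * q = q * p := fun p q => by
    calc p * q = (p * q)⁻¹ := (inv_eq_of_mul_eq_one_right (hsq _)).symm
      _ = q * p := by rw [mul_inv_rev, inv_eq_of_mul_eq_one_right (hsq p), inv_eq_of_mul_eq_one_right (hsq q)]
  have hab : a ∉ Subgroup.zpowers (a * b) := by
    rintro ⟨i, hi⟩
    have h2 : (a * b) ^ (2 : ℤ) = 1 := by rw [zpow_two]; exact hsq _
    obtain ⟨j, rfl | rfl⟩ := Int.even_or_odd' i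
    · simp only [zpow_mul, h2, one_zpow] at hi; exact ha hi.symm
    · simp only [zpow_add, zpow_mul, h2, one_zpow, one_mul, zpow_one, mul_eq_left] at hi; exact hb hi
  obtain ⟨K, ⟨hKab, hKa⟩, hmax⟩ := (Set.toFinite {K : Subgroup Q | a * b ∈ K ∧ a ∉ K}).exists_maximal
    ⟨_, Subgroup.mem_zpowers _, hab⟩
  have hKn : K.Normal := ⟨fun n hn g => by rwa [hcomm g n, mul_inv_cancel_right]⟩
  refine ⟨K, Subgroup.index_eq_two_iff.2 ⟨a, fun y => ?_⟩, hKa, fun hbK => hKa (by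
    have := mul_mem hKab hbK
    rwa [mul_assoc, hsq, mul_one] at this)⟩
  by_cases hy : y ∈ K
  · exact Or.inr ⟨hy, fun h => hKa (by have := mul_mem (inv_mem hy) h; rwa [inv_mul_cancel_left] at this)⟩
  refine Or.inl ⟨?_, hy⟩
  have hle : K ≤ K ⊔ Subgroup.zpowers y := le_sup_left
  by_cases haK : a ∈ K ⊔ Subgroup.zpowers y
  · obtain ⟨p, hp, q, ⟨i, rfl⟩, hpq⟩ := Subgroup.mem_sup_of_normal_left.1 haK
    have h2 : y ^ (2 : ℤ) = 1 := by rw [zpow_two]; exact hsq _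
    obtain ⟨j, rfl | rfl⟩ := Int.even_or_odd' i
    · simp only [zpow_mul, h2, one_zpow, mul_one] at hpq
      exact absurd (hpq ▸ hp) hKa
    · simp only [zpow_add, zpow_mul, h2, one_zpow, one_mul, zpow_one] at hpq
      rw [← hpq, ← mul_assoc, hcomm y p, mul_assoc, hsq, mul_one]
      exact hp
  · exact absurd (hmax ⟨hle hKab, haK⟩ hle (Subgroup.mem_sup_right (Subgroup.mem_zpowers y))) hy

namespace Moving

/-- The exceptional situation, with coordinates. -/
structure Exc (hm : Moving t A V s k T M) (e : V8 ≃+ Quo T M hm.hl.hMT) : Prop where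
  card8 : Nat.card (Quo T M hm.hl.hMT) = 8
  noNormal : ∀ N : Subgroup ↥hm.psi.range, N.Normal → IsPGroup 2 ↥N → N = ⊥
  allLin : ∀ L : V8 ≃+ V8, ∃ n, ∀ x, lin (hm.psi n) (e x) = e (L x)

namespace Exc

variable {hm : Moving t A V s k T M} {e : V8 ≃+ Quo T M hm.hl.hMT} (hx : Exc hm e)

include hx

theorem k_eq : k = 3 :=
  Nat.pow_right_injective le_rfl (hm.card_quo.symm.trans hx.card8 : 2 ^ k = 2 ^ 3)

theorem not_all_tr : ¬ ∀ w, tr w ∈ hm.psi.range := by
  intro h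
  obtain ⟨s', hC, hA, h0, htr⟩ := hm.exists_gen
  have hy := hm.affine hC hA h0 htr
  let Nw : Subgroup ↥hm.psi.range :=
    { carrier := {g | ∃ w, (g : Equiv.Perm (Quo T M hm.hl.hMT)) = tr w}
      one_mem' := ⟨0, Hyp.tr_zero.symm⟩
      mul_mem' := fun {a b} ⟨u, hu⟩ ⟨v, hv⟩ => ⟨v + u, by
        rw [Subgroup.coe_mul, hu, hv]; ext x; simp [Affine.tr_apply, add_assoc]⟩
      inv_mem' := fun {a} ⟨u, hu⟩ => ⟨u, by
        rw [Subgroup.coe_inv, hu]
        refine inv_eq_of_mul_eq_one_right ?_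
        ext x; simp [Affine.tr_apply, add_assoc, hy.two]⟩ }
  have hn : Nw.Normal := ⟨fun a ha g => by
    obtain ⟨w, hw⟩ := ha
    refine ⟨lin (g : Equiv.Perm (Quo T M hm.hl.hMT)) w, Equiv.ext fun x => ?_⟩
    rw [Subgroup.coe_mul, Subgroup.coe_mul, Subgroup.coe_inv, hw, Equiv.Perm.mul_apply,
      Equiv.Perm.mul_apply, Affine.tr_apply, Affine.tr_apply]
    have h5 := hy.aff _ g.2 ((g : Equiv.Perm (Quo T M hm.hl.hMT))⁻¹ x) w
    rw [ainv] at h5
    conv_lhs => rw [← hy.add_cancel ((g : Equiv.Perm (Quo T M hm.hl.hMT)) _) ((g : Equiv.Perm _) 0), h5]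
    rw [lin, add_assoc]⟩
  have hp : IsPGroup 2 ↥Nw := fun g => ⟨1, by
    obtain ⟨w, hw⟩ := g.2
    refine Subtype.ext (Subtype.ext ?_)
    rw [pow_one, pow_two, Subgroup.coe_mul, Subgroup.coe_mul, hw]
    ext x; simp [Affine.tr_apply, add_assoc, hy.two]⟩
  have hb := hx.noNormal Nw hn hp
  have h1 : (⟨tr (e (1, 0, 0)), h _⟩ : ↥hm.psi.range) ∈ Nw := ⟨_, rfl⟩
  rw [hb, Subgroup.mem_bot] at h1
  have h2 := congrArg (fun g : ↥hm.psi.range => (g : Equiv.Perm (Quo T M hm.hl.hMT)) 0) h1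
  simp [Affine.tr_apply] at h2

/-- The linear part is faithful. -/
theorem lin_faithful {n : ↥(Subgroup.normalizer (T : Set G))} (h : ∀ x, lin (hm.psi n) x = x) :
    hm.psi n = 1 := by
  obtain ⟨s', hC, hA, h0, htr⟩ := hm.exists_gen
  have hy := hm.affine hC hA h0 htr
  have h1 : hm.psi n = tr (hm.psi n 0) := by
    ext x; rw [Affine.tr_apply, hy.apply_eq_lin x, h]
  by_contra hne
  refine hx.not_all_tr (hy.all_tr_of_one (w := hm.psi n 0) (fun h0' => hne ?_) (h1 ▸ ⟨n, rfl⟩))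
  rw [h1, h0', Hyp.tr_zero]

/-- `u` has coordinates `p`. -/
def HasPar (hm : Moving t A V s k T M) (e : V8 ≃+ Quo T M hm.hl.hMT)
    (n : ↥(Subgroup.normalizer (T : Set G))) (p : V8) : Prop :=
  ∀ x, lin (hm.psi n) (e x) = e (uni p x)

omit hx in
theorem par_mul {m n : ↥(Subgroup.normalizer (T : Set G))} {p q : V8} (hp : HasPar hm e m p)
    (hq : HasPar hm e n q) : HasPar hm e (m * n) (uniMul p q) := by
  intro x
  obtain ⟨s', hC, hA, h0, htr⟩ := hm.exists_gen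
  rw [map_mul, (hm.affine hC hA h0 htr).lin_mul ⟨m, rfl⟩, hq, hp, uni_mul]

omit hx in
theorem par_unique {n : ↥(Subgroup.normalizer (T : Set G))} {p q : V8} (hp : HasPar hm e n p)
    (hq : HasPar hm e n q) : p = q := uni_inj p q fun x => e.injective ((hp x).symm.trans (hq x))

theorem par_zero_iff {n : ↥(Subgroup.normalizer (T : Set G))} : HasPar hm e n 0 ↔ hm.psi n = 1 := by
  constructor
  · intro h
    refine hx.lin_faithful fun y => ?_
    obtain ⟨x, rfl⟩ := e.surjective y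
    rw [h, uni_zero]
  · intro h x
    rw [h, uni_zero]
    simp [lin]

theorem par_psi_eq {m n : ↥(Subgroup.normalizer (T : Set G))} {p : V8} (hp : HasPar hm e m p)
    (hq : HasPar hm e n p) : hm.psi m = hm.psi n := by
  obtain ⟨q, hq'⟩ := uniMul_assoc_self p
  obtain ⟨nq, hnq⟩ := hx.allLin (uni q)
  have h1 := hx.par_zero_iff.1 (hq' ▸ par_mul hp hnq)
  have h2 := hx.par_zero_iff.1 (hq' ▸ par_mul hq hnq)
  rw [map_mul] at h1 h2
  exact mul_right_cancel (h1.trans h2.symm)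

/-- A 2-subgroup `R` of `N(T)` mapping onto the unitriangular group. -/
theorem exists_R : ∃ R : Subgroup G, ∃ hR : R ≤ Subgroup.normalizer (T : Set G), IsPGroup 2 ↥R ∧ T ≤ R ∧
    Nat.card ↥R = 8 * Nat.card ↥T ∧ (∀ x, ∀ h : x ∈ R, ∃ p, HasPar hm e ⟨x, hR h⟩ p) ∧
    (∀ p, ∃ x, ∃ h : x ∈ R, HasPar hm e ⟨x, hR h⟩ p) ∧
    (∀ Q : Subgroup G, IsPGroup 2 ↥Q → R ≤ Q → Q ≤ Subgroup.normalizer (T : Set G) → Q = R) := by
  classical
  have : Fact (Nat.Prime 2) := ⟨Nat.prime_two⟩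
  set N := Subgroup.normalizer (T : Set G) with hN
  obtain ⟨s', hC, hA, h0, htr⟩ := hm.exists_gen
  have hy := hm.affine hC hA h0 htr
  let U : Subgroup ↥N :=
    { carrier := {n | ∃ p, HasPar hm e n p}
      one_mem' := ⟨0, hx.par_zero_iff.2 (map_one _)⟩
      mul_mem' := fun ⟨p, hp⟩ ⟨q, hq⟩ => ⟨_, par_mul hp hq⟩
      inv_mem' := fun {a} ⟨p, hp⟩ => by
        obtain ⟨q, hq⟩ := uniMul_assoc_self p
        obtain ⟨m, hm'⟩ := hx.allLin (uni q)
        have h1 := hx.par_zero_iff.1 (hq ▸ par_mul hp hm' : HasPar hm e (a * m) 0)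
        refine ⟨q, fun x => ?_⟩
        rw [map_mul] at h1
        rw [map_inv, inv_eq_of_mul_eq_one_right h1]
        exact hm' x }
  have hTU : T.subgroupOf N ≤ U := fun x hxT => ⟨0, hx.par_zero_iff.2 (hm.psi_T (Subgroup.mem_subgroupOf.1 hxT))⟩
  obtain ⟨P, hP⟩ := (show IsPGroup 2 ↥((T.subgroupOf N).subgroupOf U) from
    (hm.hl.hT.of_equiv (Subgroup.subgroupOfEquivOfLe Subgroup.le_normalizer).symm).of_equiv
      (Subgroup.subgroupOfEquivOfLe hTU).symm).exists_le_sylow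
  set R : Subgroup G := ((P : Subgroup ↥U).map U.subtype).map N.subtype with hR
  have hRN : R ≤ N := Subgroup.map_subtype_le _
  have hR2 : IsPGroup 2 ↥R := (P.2.map _).map _
  have hTR : T ≤ R := fun x hxT =>
    ⟨⟨x, Subgroup.le_normalizer hxT⟩, ⟨⟨⟨x, Subgroup.le_normalizer hxT⟩, hTU hxT⟩, hP hxT, rfl⟩, rfl⟩
  have hpar : ∀ x, ∀ h : x ∈ R, ∃ p, HasPar hm e ⟨x, hRN h⟩ p := by
    rintro _ ⟨y, ⟨z, hz, rfl⟩, rfl⟩
    exact z.2
  -- the map to parameters
  choose par hpar' using hpar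
  have honto : ∀ p, ∃ x, ∃ h : x ∈ R, HasPar hm e ⟨x, hRN h⟩ p := by
    let f : ↥U →* Equiv.Perm (Quo T M hm.hl.hMT) := hm.psi.comp U.subtype
    let par' : ↥f.range → V8 := fun g => g.2.choose.2.choose
    have hpar'' : ∀ g : ↥f.range, HasPar hm e (g.2.choose : ↥U) (par' g) := fun g => g.2.choose.2.choose_spec
    have hbij : Function.Bijective par' := by
      constructor
      · intro g h hgh
        refine Subtype.ext (g.2.choose_spec.symm.trans ((hx.par_psi_eq (hpar'' g) (hgh ▸ hpar'' h)).trans h.2.choose_spec))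
      · intro p
        obtain ⟨n, hn⟩ := hx.allLin (uni p)
        refine ⟨⟨hm.psi n, ⟨⟨n, p, hn⟩, rfl⟩⟩, ?_⟩
        set g : ↥f.range := ⟨hm.psi n, ⟨⟨n, p, hn⟩, rfl⟩⟩
        have h1 : hm.psi (g.2.choose : ↥U) = hm.psi n := g.2.choose_spec
        refine par_unique (hm := hm) (e := e) (n := n) (fun x => ?_) hn
        rw [← h1]
        exact hpar'' g x
    have hcard : Nat.card ↥f.range = 8 := by rw [Nat.card_eq_of_bijective _ hbij]; simp
    have htop : (P : Subgroup ↥U).map f.rangeRestrict = ⊤ := by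
      rw [← Subgroup.index_eq_one]
      have h1 : ((P : Subgroup ↥U).map f.rangeRestrict).index ∣ 2 ^ 3 := by
        rw [show 2 ^ 3 = Nat.card ↥f.range by rw [hcard]; rfl]; exact Subgroup.index_dvd_card _
      have h2 : ((P : Subgroup ↥U).map f.rangeRestrict).index ∣ (P : Subgroup ↥U).index :=
        Subgroup.index_map_dvd _ f.rangeRestrict_surjective
      obtain ⟨b, -, hb'⟩ := (Nat.dvd_prime_pow Nat.prime_two).1 h1
      rcases b with _ | b
      · exact hb'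
      · exact absurd ((dvd_pow_self 2 (Nat.succ_ne_zero b)).trans (hb' ▸ h2)) P.not_dvd_index
    intro p
    obtain ⟨g, hg⟩ := hbij.2 p
    obtain ⟨z, hz, hze⟩ : g ∈ (P : Subgroup ↥U).map f.rangeRestrict := htop ▸ Subgroup.mem_top _
    refine ⟨_, ⟨_, ⟨z, hz, rfl⟩, rfl⟩, fun x => ?_⟩
    have h1 : hm.psi (z : ↥N) = hm.psi (g.2.choose : ↥U) :=
      (congrArg Subtype.val hze).trans g.2.choose_spec.symm
    show lin (hm.psi (z : ↥N)) (e x) = e (uni p x)
    rw [h1, ← hg]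
    exact hpar'' g x
  -- kernels
  have hkerQ : ∀ Q : Subgroup G, IsPGroup 2 ↥Q → T ≤ Q → ∀ hQ : Q ≤ N, ∀ x, ∀ h : x ∈ Q,
      hm.psi ⟨x, hQ h⟩ = 1 → x ∈ T := by
    intro Q hQ2 hTQ hQ x h h1
    have hQT : Q ⊓ hm.psi.ker.map N.subtype = T := by
      refine hm.ker_eq (hQ2.to_le inf_le_left) (le_inf hTQ fun y hy' =>
        ⟨⟨y, Subgroup.le_normalizer hy'⟩, hm.psi_T hy', rfl⟩) (inf_le_left.trans hQ) fun y hy' => ?_
      obtain ⟨z, hz, rfl⟩ := hy'.2
      show hm.psi z 0 = 0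
      rw [MonoidHom.mem_ker.1 hz]; rfl
    rw [← hQT]
    exact ⟨h, ⟨x, hQ h⟩, h1, rfl⟩
  have hpmul : ∀ x y (hx' : x ∈ R) (hy' : y ∈ R), par (x * y) (mul_mem hx' hy') = uniMul (par x hx') (par y hy') :=
    fun x y hx' hy' => par_unique (hpar' _ _) (par_mul (hpar' x hx') (hpar' y hy'))
  have hcardR : Nat.card ↥R = 8 * Nat.card ↥T := by
    have h1 := (T.subgroupOf R).index_mul_card
    rw [Nat.card_congr (Subgroup.subgroupOfEquivOfLe hTR).toEquiv] at h1
    rw [← h1]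
    congr 1
    have hlift : ∀ x y : ↥R, (x⁻¹ * y) ∈ T.subgroupOf R → par x x.2 = par y y.2 := by
      intro x y hxy
      have h2 : hm.psi ⟨(x : G), hRN x.2⟩ = hm.psi ⟨(y : G), hRN y.2⟩ := by
        rw [show (⟨(y : G), hRN y.2⟩ : ↥N) = ⟨(x : G), hRN x.2⟩ * ⟨((x⁻¹ * y : ↥R) : G), hRN (x⁻¹ * y).2⟩ from
          Subtype.ext (by simp), map_mul]
        rw [show hm.psi ⟨((x⁻¹ * y : ↥R) : G), hRN (x⁻¹ * y).2⟩ = 1 from hm.psi_T (Subgroup.mem_subgroupOf.1 hxy),
          mul_one]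
      refine par_unique (hpar' x x.2) fun z => ?_
      rw [h2]
      exact hpar' y y.2 z
    let q : ↥R ⧸ T.subgroupOf R → V8 :=
      Quotient.lift (fun x : ↥R => par x x.2) fun x y h => hlift x y (QuotientGroup.leftRel_apply.1 h)
    rw [Subgroup.index_eq_card, Nat.card_eq_of_bijective q ⟨?_, ?_⟩]
    · simp
    · rintro ⟨x⟩ ⟨y⟩ hxy
      refine Quotient.sound (QuotientGroup.leftRel_apply.2 (Subgroup.mem_subgroupOf.2 ?_))
      refine hkerQ R hR2 hTR hRN _ (x⁻¹ * y).2 ?_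
      rw [show (⟨((x⁻¹ * y : ↥R) : G), hRN (x⁻¹ * y).2⟩ : ↥N) = ⟨(x : G), hRN x.2⟩⁻¹ * ⟨(y : G), hRN y.2⟩ from rfl,
        map_mul, map_inv, hx.par_psi_eq (hpar' x x.2) (fun z => by rw [show par (x : G) x.2 = par (y : G) y.2 from hxy]; exact hpar' y y.2 z),
        inv_mul_cancel]
    · intro p
      obtain ⟨x, h, hp⟩ := honto p
      exact ⟨Quotient.mk'' ⟨x, h⟩, par_unique (hpar' x h) hp⟩
  refine ⟨R, hRN, hR2, hTR, hcardR, fun x h => ⟨_, hpar' x h⟩, honto, fun Q hQ2 hRQ hQN => ?_⟩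
  -- the image of `Q` is semiregular
  refine (Subgroup.eq_of_le_of_card_ge hRQ ?_).symm
  have hle : (T.subgroupOf Q).index ≤ 8 := by
    have hinj : ∀ x y : ↥Q, hm.psi ⟨(x : G), hQN x.2⟩ 0 = hm.psi ⟨(y : G), hQN y.2⟩ 0 → x⁻¹ * y ∈ T.subgroupOf Q := by
      intro x y hxy
      set z : ↥N := ⟨(x : G), hQN x.2⟩⁻¹ * ⟨(y : G), hQN y.2⟩ with hz
      have h1 : hm.psi z 0 = 0 := by
        rw [hz, map_mul, map_inv, Equiv.Perm.mul_apply, ← hxy, inva]
      have h2 := hy.odd _ ⟨z, rfl⟩ h1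
      obtain ⟨j, hj⟩ := hQ2 (x⁻¹ * y)
      have h3 : orderOf (hm.psi z) ∣ 2 ^ j := orderOf_dvd_of_pow_eq_one (by
        rw [← map_pow, show z ^ (2 ^ j) = 1 from Subtype.ext (by
          have := congrArg Subtype.val hj
          simpa [hz] using this), map_one])
      have h4 : hm.psi z = 1 := orderOf_eq_one_iff.1
        (Nat.eq_one_of_dvd_coprimes ((Nat.coprime_two_right.2 h2).pow_right j) dvd_rfl h3)
      exact Subgroup.mem_subgroupOf.2 (hkerQ Q hQ2 (hTR.trans hRQ) hQN _ (x⁻¹ * y).2 h4)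
    rw [Subgroup.index_eq_card, ← hx.card8]
    refine Nat.card_le_card_of_injective (fun q => hm.psi ⟨(q.out : G), hQN q.out.2⟩ 0) fun a b hab => ?_
    rw [← QuotientGroup.out_eq' a, ← QuotientGroup.out_eq' b]
    exact QuotientGroup.eq.2 (hinj _ _ hab)
  have h1 := (T.subgroupOf Q).index_mul_card
  rw [Nat.card_congr (Subgroup.subgroupOfEquivOfLe (hTR.trans hRQ)).toEquiv] at h1
  rw [← h1, hcardR]
  exact Nat.mul_le_mul_right _ hle

end Exc

end Moving

end Cfsg.Agent.TimesPSLTwo
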