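import Cfsg.Agent.Lib.TimesPSLTwo.Exceptional

/-!
The exceptional level forces a subgroup of index two.
-/

namespace Cfsg.Agent.TimesPSLTwo

open Affine (Hyp lin tr ainv inva)

theorem plane_card (p : V8) (hp : uniMul p p = 0) (h0 : p ≠ 0) :
    Fintype.card {x : V8 // uni p x = x} = 4 := by
  revert p; decide +kernel

theorem plane_imp (p x : V8) (h : p.1 = 0 ∧ p ≠ 0 ∧ uni p x = x) : x.2.2 = 0 := by
  revert p x; decide +kernel

theorem plane_fix (p x : V8) (h : p.1 = 0 ∧ x.2.2 = 0) : uni p x = x := by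
  revert p x; decide +kernel

theorem plane_iff (p : V8) (h1 : p.1 = 0) (h0 : p ≠ 0) (x : V8) : uni p x = x ↔ x.2.2 = 0 :=
  ⟨fun h => plane_imp p x ⟨h1, h0, h⟩, fun h => plane_fix p x ⟨h1, h⟩⟩

theorem v8_cancel (p q : V8) (h : p = uniMul p q) : q = 0 := by
  revert p q; decide +kernel

theorem uniMul_z_ne (p : V8) (h : p ≠ (0, 1, 0)) : uniMul p (0, 1, 0) ≠ 0 := by
  revert p; decide +kernel

theorem uniMul_zero (p : V8) : uniMul p 0 = p := by
  revert p; decide +kernel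

theorem inv_z (p : V8) (h : uniMul p p = 0) : uniMul p (uniMul p (0, 1, 0)) = (0, 1, 0) := by
  revert p; decide +kernel

theorem z_inv_z (p : V8) (h : uniMul p p = 0) :
    uniMul (0, 1, 0) (uniMul p (uniMul p (0, 1, 0))) = 0 := by
  revert p; decide +kernel

theorem z_ne_zero : ((0, 1, 0) : V8) ≠ 0 := by decide +kernel

theorem uniMul_zz : uniMul (0, 1, 0) (0, 1, 0) = 0 := by decide +kernel

theorem uniMul_101 : uniMul (1, 0, 1) (1, 0, 1) = (0, 1, 0) ∧ uniMul (0, 1, 0) (1, 0, 1) = (1, 1, 1) := by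
  decide +kernel

theorem zero_or_one (i : ZMod 2) : i = 0 ∨ i = 1 := by revert i; decide +kernel

theorem card_plane_zero : Fintype.card {x : V8 // x.2.2 = 0} = 4 := by decide +kernel

theorem card_plane_one : Fintype.card {x : V8 // x.2.2 = 1} = 4 := by decide +kernel

theorem card_shape (i j : ZMod 2) : Fintype.card {q : V8 // q.1 = 0 ∧ q ≠ (0, i, j)} = 3 := by
  revert i j; decide +kernel

theorem kappa_value (i j : ZMod 2) : uni (0, i, j) (0, 0, 1) = (i, j, 1) := by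
  revert i j; decide +kernel

theorem four_cases (p q : V8) (hp1 : p.1 = 0) (hp0 : p ≠ 0) (hpz : p ≠ (0, 1, 0))
    (hq : q = 0 ∨ q = p ∨ q = (0, 1, 0) ∨ q = uniMul p (0, 1, 0)) : q.1 = 0 := by
  revert p q; decide +kernel

theorem axis_class (p q : V8) (hp1 : p.1 = 0) (hq1 : q.1 = 0) (hp0 : p ≠ 0) (hpz : p ≠ (0, 1, 0))
    (hq0 : q ≠ 0) (hqz : q ≠ (0, 1, 0)) : q = p ∨ q = uniMul p (0, 1, 0) := by
  revert p q; decide +kernel

variable {G : Type*} [Group G] [Finite G] {t : G} {A V : Subgroup G} {s : G} {k : ℕ} {T M : Subgroup G}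

namespace Moving.Exc

variable {hm : Moving t A V s k T M} {e : V8 ≃+ Quo T M hm.hl.hMT} (hx : Exc hm e)

include hx

theorem lin_apply (n : ↥(Subgroup.normalizer (T : Set G))) (m : ↥M) :
    lin (hm.psi n) (mkQ T M hm.hl.hMT m) =
      mkQ T M hm.hl.hMT ⟨(n : G) * m * (n : G)⁻¹, hm.hNM n n.2 m m.2⟩ := by
  have h0 : hm.psi n 0 = mkQ T M hm.hl.hMT
      ⟨t⁻¹ * ((n : G) * (t * (1 : G)) * (n : G)⁻¹), hm.shift_mem n.2 (one_mem M)⟩ := by
    rw [← mkQ_one hm.hl.hMT, hm.psi_apply]; rfl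
  set a : ↥M := ⟨t⁻¹ * ((n : G) * (t * (1 : G)) * (n : G)⁻¹), hm.shift_mem n.2 (one_mem M)⟩ with ha
  set b : ↥M := ⟨(n : G) * m * (n : G)⁻¹, hm.hNM n n.2 m m.2⟩ with hb
  have h1 : hm.psi n (mkQ T M hm.hl.hMT m) = mkQ T M hm.hl.hMT a + mkQ T M hm.hl.hMT b := by
    rw [hm.psi_apply, ← mkQ_mul]
    congr 1
    refine Subtype.ext ?_
    simp only [ha, hb, Subgroup.coe_mul]
    group
  show hm.psi n (mkQ T M hm.hl.hMT m) + hm.psi n 0 = _
  rw [h1, h0, add_comm (mkQ T M hm.hl.hMT a), add_assoc, hm.two, add_zero]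

/-- A 2-element of `N(T)` fixing a point acts trivially. -/
theorem psi_one_of_fixed {n : ↥(Subgroup.normalizer (T : Set G))} {j : ℕ} (h2 : (n : G) ^ 2 ^ j = 1)
    {w : Quo T M hm.hl.hMT} (hw : hm.psi n w = w) : hm.psi n = 1 := by
  obtain ⟨s', hC, hA, h0, htr⟩ := hm.exists_gen
  have hodd := (hm.affine hC hA h0 htr).odd_of_fixed ⟨n, rfl⟩ hw
  refine orderOf_eq_one_iff.1 (Nat.eq_one_of_dvd_coprimes ((Nat.coprime_two_right.2 hodd).pow_right j) dvd_rfl
    (orderOf_dvd_of_pow_eq_one ?_))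
  rw [← map_pow, show n ^ 2 ^ j = 1 from Subtype.ext (by rw [Subgroup.coe_pow, h2]; rfl), map_one]

/-- An element of `T` commuting modulo `⁅T, T⁆` with a 2-element acting nontrivially lies in `M`. -/
theorem mem_M_of_fixed {n : ↥(Subgroup.normalizer (T : Set G))} {j : ℕ} (h2 : (n : G) ^ 2 ^ j = 1)
    (hne : hm.psi n ≠ 1) {y : G} (hy : y ∈ T) (hc : y⁻¹ * ((n : G) * y * (n : G)⁻¹) ∈ ⁅T, T⁆) : y ∈ M := by
  rcases hm.hl.mem_or hy with h | h
  · exact h
  exfalso
  have hmem := h t (hm.hl.tT hm.hb) hm.hl.htM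
  refine hne (hx.psi_one_of_fixed h2 (w := mkQ T M hm.hl.hMT ⟨_, hmem⟩) ?_)
  rw [hm.psi_apply, eq_comm, mkQ_eq]
  simp only [mul_inv_cancel_left]
  rwa [show (t⁻¹ * y)⁻¹ * (t⁻¹ * ((n : G) * y * (n : G)⁻¹)) = y⁻¹ * ((n : G) * y * (n : G)⁻¹) by group]

omit hx in
theorem uni_apply_of_par {n : ↥(Subgroup.normalizer (T : Set G))} {p : V8} (hp : HasPar hm e n p)
    {x : V8} (h : lin (hm.psi n) (e x) = e x) : uni p x = x := e.injective ((hp x).symm.trans h)

/-- The main contradiction. -/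
theorem contra (hG : ∀ H : Subgroup G, H.index ≠ 2) : False := by
  classical
  have : Fact (Nat.Prime 2) := ⟨Nat.prime_two⟩
  obtain ⟨R, hRN, hR2, hTR, hRc, hpar, honto, hmaxR⟩ := hx.exists_R
  choose par hpar' using hpar
  obtain rfl : k = 3 := hx.k_eq
  have htt : t * t = 1 := hm.hb.elem t hm.hb.memA
  have htT : t ∈ T := hm.hl.tT hm.hb
  set D : Subgroup G := ⁅T, T⁆ with hD
  have hDc : Nat.card ↥T = 16 * Nat.card ↥D := hm.hl.cardD
  have hRpow : ∀ x ∈ R, ∃ j, x ^ 2 ^ j = 1 := fun x hxR => by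
    obtain ⟨j, hj⟩ := hR2 ⟨x, hxR⟩
    exact ⟨j, congrArg Subtype.val hj⟩
  have hcoe : ∀ (x : G) (h1 : x ∈ R), ((⟨x, hRN h1⟩ : ↥(Subgroup.normalizer (T : Set G))) : G) = x := fun _ _ => rfl
  have hmulpar : ∀ x y (h1 : x ∈ R) (h2 : y ∈ R), par (x * y) (mul_mem h1 h2) = uniMul (par x h1) (par y h2) :=
    fun x y h1 h2 => par_unique (hpar' _ _) (par_mul (hpar' x h1) (hpar' y h2))
  have hparT : ∀ x (h1 : x ∈ R), x ∈ T → par x h1 = 0 := fun x h1 hxT =>
    par_unique (hpar' x h1) (hx.par_zero_iff.2 (hm.psi_T hxT))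
  have hker : ∀ x (h1 : x ∈ R), hm.psi ⟨x, hRN h1⟩ 0 = 0 → x ∈ T := by
    intro x h1 h0
    obtain ⟨j, hj⟩ := hRpow x h1
    have h2 : hm.psi ⟨x, hRN h1⟩ = 1 := hx.psi_one_of_fixed (n := ⟨x, hRN h1⟩) hj h0
    have hQ : R ⊓ hm.psi.ker.map (Subgroup.normalizer (T : Set G)).subtype = T := by
      refine hm.ker_eq (hR2.to_le inf_le_left) (le_inf hTR fun y hy' =>
        ⟨⟨y, Subgroup.le_normalizer hy'⟩, hm.psi_T hy', rfl⟩) (inf_le_left.trans hRN) fun y hy' => ?_
      obtain ⟨z, hz, rfl⟩ := hy'.2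
      show hm.psi z 0 = 0
      rw [MonoidHom.mem_ker.1 hz]; rfl
    rw [← hQ]
    exact ⟨h1, ⟨x, hRN h1⟩, h2, rfl⟩
  have hpar0 : ∀ x (h1 : x ∈ R), par x h1 = 0 → x ∈ T := fun x h1 hp => hker x h1 (by
    rw [hx.par_zero_iff.1 (fun y => by rw [← hp]; exact hpar' x h1 y)]; rfl)
  have hparne : ∀ x (h1 : x ∈ R), par x h1 ≠ 0 → hm.psi ⟨x, hRN h1⟩ ≠ 1 := fun x h1 hp h2 =>
    hp (par_unique (hpar' x h1) (hx.par_zero_iff.2 h2))
  have hparD : ∀ x (h1 : x ∈ R), x * x ∈ D → uniMul (par x h1) (par x h1) = 0 := fun x h1 h2 => by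
    rw [← hmulpar x x h1 h1, hparT _ _ (Subgroup.commutator_le_self T h2)]
  -- elements of one class over a parameter
  have hfixed : ∀ x (h1 : x ∈ R) (a : G), a ∈ T → par x h1 ≠ 0 → a⁻¹ * (x * a * x⁻¹) ∈ D →
      ∃ ha : a ∈ M, uni (par x h1) (e.symm (mkQ T M hm.hl.hMT ⟨a, ha⟩)) = e.symm (mkQ T M hm.hl.hMT ⟨a, ha⟩) := by
    intro x h1 a haT hp hc
    obtain ⟨j, hj⟩ := hRpow x h1
    have haM := hx.mem_M_of_fixed (n := ⟨x, hRN h1⟩) hj (hparne x h1 hp) haT hc
    refine ⟨haM, uni_apply_of_par (hpar' x h1) ?_⟩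
    rw [AddEquiv.apply_symm_apply, hx.lin_apply, eq_comm, mkQ_eq]
    exact hc
  have hcand : ∀ p : V8, p ≠ 0 → Nat.card {x : ↥R // par x x.2 = p ∧ (x : G) * x ∈ D} ≤ 4 * Nat.card ↥D := by
    intro p hp
    set C := {x : ↥R // par x x.2 = p ∧ (x : G) * x ∈ D}
    rcases isEmpty_or_nonempty C with hC | ⟨⟨x0, hx0p, hx0D⟩⟩
    · simp
    have hp2 : uniMul p p = 0 := hx0p ▸ hparD x0 x0.2 hx0D
    have hin : ∀ y : C, ((x0 : G))⁻¹ * ((y : ↥R) : G) ∈ T := by
      intro y
      refine hpar0 _ (mul_mem (inv_mem x0.2) (y : ↥R).2) ?_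
      have h3 := hmulpar (x0 : G) ((x0 : G)⁻¹ * ((y : ↥R) : G)) x0.2 (mul_mem (inv_mem x0.2) (y : ↥R).2)
      simp only [mul_inv_cancel_left] at h3
      rw [y.2.1, hx0p] at h3
      exact v8_cancel _ _ h3
    have hfix : ∀ y : C, ∃ ha : (x0 : G)⁻¹ * ((y : ↥R) : G) ∈ M,
        uni p (e.symm (mkQ T M hm.hl.hMT ⟨_, ha⟩)) = e.symm (mkQ T M hm.hl.hMT ⟨_, ha⟩) := by
      intro y
      obtain ⟨ha, hh⟩ : ∃ ha : (x0 : G)⁻¹ * ((y : ↥R) : G) ∈ M,
          uni (par x0 x0.2) (e.symm (mkQ T M hm.hl.hMT ⟨_, ha⟩)) = e.symm (mkQ T M hm.hl.hMT ⟨_, ha⟩) := by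
        refine hfixed _ x0.2 _ (hin y) (hx0p ▸ hp) ?_
        set a := (x0 : G)⁻¹ * ((y : ↥R) : G) with ha
        have hsq : a * a ∈ D := hm.hl.sq a (hin y)
        have hn := normalizer_le_commutator (hRN x0.2)
        have h4 : (x0 : G) * a * ((x0 : G) * a) ∈ D := by rw [ha, mul_inv_cancel_left]; exact y.2.2
        have h5 : a⁻¹ * ((x0 : G) * a * (x0 : G)⁻¹) =
            (a * a)⁻¹ * (a * ((x0 : G) * a * ((x0 : G) * a) * (a⁻¹ * ((x0 : G) * (x0 : G))⁻¹ * a⁻¹⁻¹)) * a⁻¹) := by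
          group
        rw [h5]
        have hna := normalizer_le_commutator (Subgroup.le_normalizer (hin y))
        exact mul_mem (inv_mem hsq) ((Subgroup.mem_normalizer_iff.1 hna _).1
          (mul_mem h4 ((Subgroup.mem_normalizer_iff.1 (inv_mem hna) _).1 (inv_mem hx0D))))
      refine ⟨ha, ?_⟩
      rw [hx0p] at hh
      exact hh
    choose hmem hfx using hfix
    have hsurj := mkQ_surjective (T := T) (M := M) hm.hl.hMT
    choose rep hrep using hsurj
    rw [← plane_card p hp2 hp, ← Nat.card_eq_fintype_card, ← Nat.card_prod]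
    refine Nat.card_le_card_of_injective (fun y => (⟨e.symm (mkQ T M hm.hl.hMT ⟨_, hmem y⟩), hfx y⟩,
      ⟨((rep (mkQ T M hm.hl.hMT ⟨_, hmem y⟩) : ↥M) : G)⁻¹ * ((x0 : G)⁻¹ * ((y : ↥R) : G)),
        (mkQ_eq hm.hl.hMT).1 (hrep _)⟩)) fun y z hyz => ?_
    have h6 : mkQ T M hm.hl.hMT ⟨_, hmem y⟩ = mkQ T M hm.hl.hMT ⟨_, hmem z⟩ :=
      e.symm.injective (congrArg (fun q => (q.1 : {x : V8 // uni p x = x}).1) hyz)
    have h7 := congrArg (fun q => ((q.2 : ↥D) : G)) hyz
    simp only [h6] at h7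
    exact Subtype.ext (Subtype.ext (mul_left_cancel (mul_left_cancel h7)))
  -- the class of a conjugate of `t` outside `T`
  have hclass : ∀ u, IsConj t u → ∀ h1 : u ∈ R, u ∉ T →
      (∀ d ∈ D, u * d * (u * d) = 1) ∧ (par u h1 ≠ (0, 1, 0)) ∧
      Nat.card ↥(R ⊓ Subgroup.centralizer ({u} : Set G)) = 16 ∧
      (∀ y, ∀ h2 : y ∈ R, y * y ∈ D → (par y h2 = par u h1 ∨ par y h2 = uniMul (par u h1) (0, 1, 0)) →
        ∃ r ∈ R, r * u * r⁻¹ = y) := by
    intro u hu h1 huT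
    have huu : u * u = 1 := by
      obtain ⟨g, rfl⟩ := isConj_iff.1 hu
      rw [show g * t * g⁻¹ * (g * t * g⁻¹) = g * (t * t) * g⁻¹ by group, htt]; group
    set p := par u h1 with hp
    have hp0 : p ≠ 0 := fun h => huT (hpar0 u h1 h)
    set C := (Subgroup.centralizer ({u} : Set G)).subgroupOf R
    have hCc : Nat.card ↥C = Nat.card ↥(R ⊓ Subgroup.centralizer ({u} : Set G)) := by
      show Nat.card ↥((Subgroup.centralizer ({u} : Set G)).subgroupOf R) = _
      rw [← Subgroup.inf_subgroupOf_right, inf_comm,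
        Nat.card_congr (Subgroup.subgroupOfEquivOfLe inf_le_left).toEquiv]
    have hC16 := (hm.hb.small_centralizer hu (Q := R ⊓ Subgroup.centralizer ({u} : Set G))
      (hR2.to_le inf_le_left) inf_le_right).1
    have hci := C.index_mul_card
    rw [hRc, hDc, hCc] at hci
    have hidx : 8 * Nat.card ↥D ≤ C.index := by
      by_contra h
      push Not at h
      have h5 : C.index * Nat.card ↥(R ⊓ Subgroup.centralizer ({u} : Set G)) < 8 * Nat.card ↥D * 2 ^ (3 + 1) :=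
        Nat.mul_lt_mul_of_lt_of_le h hC16 (by norm_num)
      rw [hci] at h5
      omega
    let Cd : V8 → Type _ := fun q => {x : ↥R // par x x.2 = q ∧ (x : G) * x ∈ D}
    have hconjpar : ∀ r : ↥R, ∃ rp rp', uniMul rp rp' = 0 ∧
        par ((r : G) * u * (r : G)⁻¹) (mul_mem (mul_mem r.2 h1) (inv_mem r.2)) = uniMul (uniMul rp p) rp' := by
      intro r
      refine ⟨par r r.2, par (r : G)⁻¹ (inv_mem r.2), ?_, ?_⟩
      · rw [← hmulpar]
        exact hparT _ _ (by rw [mul_inv_cancel]; exact one_mem _)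
      · rw [hmulpar _ _ (mul_mem r.2 h1) (inv_mem r.2), hmulpar _ _ r.2 h1]
    have hsq : ∀ r : G, r * u * r⁻¹ * (r * u * r⁻¹) ∈ D := fun r => by
      rw [show r * u * r⁻¹ * (r * u * r⁻¹) = r * (u * u) * r⁻¹ by group, huu, mul_one, mul_inv_cancel]
      exact one_mem _
    have hfib : ∀ a b : ↥R, (a : G) * u * (a : G)⁻¹ = (b : G) * u * (b : G)⁻¹ → a⁻¹ * b ∈ C := by
      intro a b hab
      rw [Subgroup.mem_subgroupOf, Subgroup.mem_centralizer_singleton_iff]
      simp only [Subgroup.coe_mul, Subgroup.coe_inv]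
      calc (a : G)⁻¹ * b * u = (a : G)⁻¹ * ((b : G) * u * (b : G)⁻¹) * b := by group
        _ = _ := by rw [← hab]; group
    have hpz : p ≠ (0, 1, 0) := by
      intro hpz
      have hle : C.index ≤ Nat.card (Cd p) := by
        rw [Subgroup.index_eq_card]
        refine Nat.card_le_card_of_injective (fun q : ↥R ⧸ C => (⟨⟨(q.out : G) * u * (q.out : G)⁻¹,
          mul_mem (mul_mem q.out.2 h1) (inv_mem q.out.2)⟩, ?_, hsq _⟩ : Cd p)) fun a b hab => ?_
        · obtain ⟨rp, rp', hrr, hrp⟩ := hconjpar q.out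
          rw [hrp, hpz]
          exact class_central _ ⟨rp, rp', hrr, rfl⟩
        · rw [← QuotientGroup.out_eq' a, ← QuotientGroup.out_eq' b]
          exact QuotientGroup.eq.2 (hfib _ _ (congrArg (fun x : Cd p => ((x.1 : ↥R) : G)) hab))
      have := (hidx.trans hle).trans (hcand p hp0)
      have := Nat.card_pos (α := ↥D)
      omega
    let f : ↥R ⧸ C → Cd p ⊕ Cd (uniMul p (0, 1, 0)) := fun q =>
      if hq : par ((q.out : G) * u * (q.out : G)⁻¹) (mul_mem (mul_mem q.out.2 h1) (inv_mem q.out.2)) = p then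
        Sum.inl ⟨⟨_, mul_mem (mul_mem q.out.2 h1) (inv_mem q.out.2)⟩, hq, hsq _⟩
      else Sum.inr ⟨⟨_, mul_mem (mul_mem q.out.2 h1) (inv_mem q.out.2)⟩, (by
        obtain ⟨rp, rp', hrr, hrp⟩ := hconjpar q.out
        exact (class_two p _ ⟨rp, rp', hrr, hrp⟩).resolve_left hq), hsq _⟩
    let val : Cd p ⊕ Cd (uniMul p (0, 1, 0)) → G := Sum.elim (fun x => ((x.1 : ↥R) : G)) (fun x => ((x.1 : ↥R) : G))
    have hval : ∀ q : ↥R ⧸ C, val (f q) = (q.out : G) * u * (q.out : G)⁻¹ := by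
      intro q
      simp only [f]
      split_ifs <;> rfl
    have hinj : Function.Injective f := fun a b hab => by
      rw [← QuotientGroup.out_eq' a, ← QuotientGroup.out_eq' b]
      exact QuotientGroup.eq.2 (hfib _ _ (by rw [← hval, ← hval, hab]))
    have hne : uniMul p (0, 1, 0) ≠ 0 := by
      exact uniMul_z_ne p hpz
    have hsum : Nat.card (Cd p ⊕ Cd (uniMul p (0, 1, 0))) ≤ 8 * Nat.card ↥D := by
      rw [Nat.card_sum]
      have h5 : Nat.card (Cd p) ≤ 4 * Nat.card ↥D := hcand p hp0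
      have h6 : Nat.card (Cd (uniMul p (0, 1, 0))) ≤ 4 * Nat.card ↥D := hcand _ hne
      omega
    have hle := Nat.card_le_card_of_injective f hinj
    rw [← Subgroup.index_eq_card] at hle
    have heq : C.index = 8 * Nat.card ↥D := le_antisymm (hle.trans hsum) hidx
    have hbij := (Nat.bijective_iff_injective_and_card f).2 ⟨hinj, by
      rw [← Subgroup.index_eq_card]; omega⟩
    have hall : ∀ y, ∀ h2 : y ∈ R, y * y ∈ D → (par y h2 = p ∨ par y h2 = uniMul p (0, 1, 0)) →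
        ∃ r ∈ R, r * u * r⁻¹ = y := by
      intro y h2 hyD hcases
      obtain ⟨tgt, htgt⟩ : ∃ tgt : Cd p ⊕ Cd (uniMul p (0, 1, 0)), val tgt = y := by
        rcases hcases with h | h
        exacts [⟨Sum.inl ⟨⟨y, h2⟩, h, hyD⟩, rfl⟩, ⟨Sum.inr ⟨⟨y, h2⟩, h, hyD⟩, rfl⟩]
      obtain ⟨q, rfl⟩ := hbij.2 tgt
      exact ⟨q.out, q.out.2, (hval q).symm.trans htgt⟩
    refine ⟨fun d hd => ?_, hpz, ?_, hall⟩
    · have hdR : d ∈ R := hTR (Subgroup.commutator_le_self T hd)
      obtain ⟨r, -, hr⟩ := hall (u * d) (mul_mem h1 hdR) (by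
        rw [show u * d * (u * d) = (u * d * u⁻¹) * ((u * u) * d) by group, huu, one_mul]
        exact mul_mem (hm.D_conj (hRN h1) hd) hd) (Or.inl (by
        rw [hmulpar u d h1 hdR, hparT d hdR (Subgroup.commutator_le_self T hd)]
        exact uniMul_zero _))
      rw [← hr, show r * u * r⁻¹ * (r * u * r⁻¹) = r * (u * u) * r⁻¹ by group, huu, mul_one, mul_inv_cancel]
    · rw [heq] at hci
      have h7 : 8 * Nat.card ↥D * Nat.card ↥(R ⊓ Subgroup.centralizer ({u} : Set G)) = 8 * Nat.card ↥D * 16 := by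
        rw [hci]; ring
      exact Nat.eq_of_mul_eq_mul_left (Nat.mul_pos (by norm_num) Nat.card_pos) h7
  -- `A ∩ M = V`
  have hAV : ∀ a ∈ A, a ∈ V ∨ t * a ∈ V := by
    intro a ha
    have h2 : (V.subgroupOf A).index = 2 := by
      have h1 := (V.subgroupOf A).card_mul_index
      rw [Nat.card_congr (Subgroup.subgroupOfEquivOfLe hm.hb.leV).toEquiv, hm.hb.cardA, hm.hb.cardV,
        pow_succ] at h1
      exact Nat.eq_of_mul_eq_mul_left (Nat.two_pow_pos 3) h1
    by_cases haV : a ∈ V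
    · exact Or.inl haV
    · exact Or.inr (Subgroup.mem_subgroupOf.1 ((Subgroup.mul_mem_iff_of_index_two h2
        (a := ⟨t, hm.hb.memA⟩) (b := ⟨a, ha⟩)).2 (iff_of_false
          (fun h => hm.hb.tV (Subgroup.mem_subgroupOf.1 h)) (fun h => haV (Subgroup.mem_subgroupOf.1 h)))))
  have hAMV : ∀ a ∈ A, a ∈ M → a ∈ V := fun a ha haM => (hAV a ha).resolve_right fun h => hm.hl.htM (by
    have := mul_mem (hm.hl.hVM h) (inv_mem haM)
    rwa [mul_inv_cancel_right] at this)
  -- a conjugate of `t` outside `T` forces a trivial derived group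
  have hDbot : ∀ u, IsConj t u → u ∈ R → u ∉ T → D = ⊥ := by
    intro u hu h1 huT
    by_contra hne
    obtain ⟨hinv, -, -, -⟩ := hclass u hu h1 huT
    have hinvD : ∀ y, IsConj t y → y ∈ T → ∀ d ∈ D, y * d * (y * d) = 1 := fun y hy hyT =>
      (hm.hl.class_coset hm.hb hy hyT).1
    have hV' : ∀ d ∈ D, d * d = 1 → d ∈ V := by
      intro d hd hdd
      have hdA : d ∈ A := by
        rw [← hm.hb.normalizer_le hm.hl.hT hm.hl.hAT]
        refine Subgroup.mem_inf.2 ⟨Subgroup.commutator_le_self T hd, Subgroup.mem_centralizer_singleton_iff.2 ?_⟩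
        calc d * t = t⁻¹ * (t * d * (t * d)) * d⁻¹ := by group
          _ = t * d := by rw [hinvD t (IsConj.refl t) htT d hd, mul_one, inv_eq_of_mul_eq_one_right htt,
              inv_eq_of_mul_eq_one_right hdd]
      exact hAMV d hdA (hm.hl.DM hd)
    have hVD : V ≤ D := by
      have hnt : Nontrivial ↥D := (Subgroup.nontrivial_iff_ne_bot D).2 hne
      obtain ⟨d, hd⟩ := exists_prime_orderOf_dvd_card' (G := ↥D) 2 (by
        obtain ⟨j, hj⟩ := IsPGroup.iff_card.1 (hm.hl.hT.to_le (Subgroup.commutator_le_self T))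
        have h1 : 1 < Nat.card ↥D := Finite.one_lt_card
        rw [hj] at h1 ⊢
        exact dvd_pow_self 2 (by rintro rfl; simp at h1))
      have hd2 : (d : G) * d = 1 := by
        rw [← pow_two, ← show orderOf (d : G) = 2 by rw [Subgroup.orderOf_coe, hd], pow_orderOf_eq_one]
      have hdV := hV' d d.2 hd2
      have hd1 : (d : G) ≠ 1 := fun h => by
        rw [← Subgroup.orderOf_coe, h, orderOf_one] at hd; omega
      intro v hv
      by_cases hv1 : v = 1
      · rw [hv1]; exact one_mem _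
      obtain ⟨s', hs'C, hs'T, -, hs'A, -⟩ := hm.hl.sT
      obtain ⟨i, hi⟩ := hm.hb.sTrans d hdV v hv hd1 hv1
      have hpw : ∀ i : ℕ, s' ^ i * (d : G) * (s' ^ i)⁻¹ = s ^ i * (d : G) * (s ^ i)⁻¹ ∧
          s ^ i * (d : G) * (s ^ i)⁻¹ ∈ A := by
        intro i
        induction i with
        | zero => simp [hm.hb.leV hdV]
        | succ i ih =>
          refine ⟨?_, ?_⟩
          · rw [show s' ^ (i + 1) * (d : G) * (s' ^ (i + 1))⁻¹ = s' * (s' ^ i * (d : G) * (s' ^ i)⁻¹) * s'⁻¹ by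
              rw [pow_succ']; group, ih.1, hs'A _ ih.2, pow_succ']
            group
          · rw [show s ^ (i + 1) * (d : G) * (s ^ (i + 1))⁻¹ = s * (s ^ i * (d : G) * (s ^ i)⁻¹) * s⁻¹ by
              rw [pow_succ']; group]
            exact (Subgroup.mem_normalizer_iff.1 hm.hb.sA _).1 ih.2
      rw [← hi, ← (hpw i).1]
      exact (Subgroup.mem_normalizer_iff.1 (normalizer_le_commutator (pow_mem hs'T i)) _).1 d.2
    have hcentT : ∀ y ∈ T, ∀ v ∈ V, y * v = v * y := by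
      have h1 : ∀ m ∈ M, ∀ v ∈ V, t * m * v = v * (t * m) := by
        intro m hmM v hv
        obtain ⟨n, hn, hne'⟩ := hm.hall m hmM
        have h2 := hinvD (t * m) (isConj_iff.2 ⟨n, hne'⟩) (mul_mem htT (hm.hl.hMT hmM)) v (hVD hv)
        have h3 : v⁻¹ = v := inv_eq_of_mul_eq_one_right (hm.hb.elem v (hm.hb.leV hv))
        have h4 := hinvD (t * m) (isConj_iff.2 ⟨n, hne'⟩) (mul_mem htT (hm.hl.hMT hmM)) 1 (one_mem _)
        rw [mul_one] at h4
        calc t * m * v = (t * m * v)⁻¹ := (inv_eq_of_mul_eq_one_right h2).symm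
          _ = v⁻¹ * (t * m)⁻¹ := by group
          _ = v * (t * m) := by rw [h3, inv_eq_of_mul_eq_one_right h4]
      intro y hy v hv
      rcases hm.hl.mem_or hy with h | h
      · have h2 := h1 y h v hv
        have h3 := h1 1 (one_mem M) v hv
        rw [mul_one] at h3
        have : Commute y v := by
          have h4 : Commute (t * y) v := h2
          have h5 := (Commute.inv_left (show Commute t v from h3)).mul_left h4
          rwa [inv_mul_cancel_left] at h5
        exact this.eq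
      · have := h1 _ (h t htT hm.hl.htM) v hv
        rwa [mul_inv_cancel_left] at this
    set N := Subgroup.normalizer (T : Set G) with hN
    let K : Subgroup ↥N := (Subgroup.centralizer (V : Set G)).subgroupOf N
    have hVN : ∀ n ∈ N, ∀ v ∈ V, n * v * n⁻¹ ∈ V := fun n hn v hv =>
      hV' _ (hm.D_conj hn (hVD hv)) (by
        rw [show n * v * n⁻¹ * (n * v * n⁻¹) = n * (v * v) * n⁻¹ by group, hm.hb.elem v (hm.hb.leV hv),
          mul_one, mul_inv_cancel])
    have hKn : K.Normal := ⟨fun a ha n => by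
      refine Subgroup.mem_subgroupOf.2 (Subgroup.mem_centralizer_iff.2 fun v hv => ?_)
      simp only [Subgroup.coe_mul, Subgroup.coe_inv]
      have h2 := Subgroup.mem_centralizer_iff.1 (Subgroup.mem_subgroupOf.1 ha)
        ((n : G)⁻¹ * v * (n : G)⁻¹⁻¹) (hVN _ (inv_mem n.2) v hv)
      calc v * ((n : G) * a * (n : G)⁻¹) = n * ((n : G)⁻¹ * v * (n : G)⁻¹⁻¹ * a) * (n : G)⁻¹ := by group
        _ = n * (a * ((n : G)⁻¹ * v * (n : G)⁻¹⁻¹)) * (n : G)⁻¹ := by rw [h2]
        _ = _ := by group⟩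
    set Kb := K.map hm.psi.rangeRestrict with hKb
    have hsemi : ∀ g ∈ Kb, ∀ w, (g : Equiv.Perm (Quo T M hm.hl.hMT)) w = w → g = 1 := by
      rintro g ⟨n, hn, rfl⟩ w hw
      obtain ⟨m, rfl⟩ := mkQ_surjective hm.hl.hMT w
      obtain ⟨r, hr, hre⟩ := hm.hall m m.2
      set rr : ↥N := ⟨r, hr⟩
      have hr0 : hm.psi rr 0 = mkQ T M hm.hl.hMT m := by
        rw [← mkQ_one hm.hl.hMT, hm.psi_apply]
        congr 1
        refine Subtype.ext ?_
        simp only [rr, Subgroup.coe_one, mul_one, hre, inv_mul_cancel_left]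
      have hn' : rr⁻¹ * n * rr ∈ K := by
        have := hKn.conj_mem n hn rr⁻¹
        rwa [inv_inv] at this
      have h0 : hm.psi (rr⁻¹ * n * rr) 0 = 0 := by
        rw [map_mul, map_mul, Equiv.Perm.mul_apply, Equiv.Perm.mul_apply, hr0]
        rw [show hm.psi n (mkQ T M hm.hl.hMT m) = mkQ T M hm.hl.hMT m from hw, map_inv, ← hr0, inva]
      obtain ⟨y, hyT, hc⟩ := hm.stab_decomp h0
      set c : ↥N := ⟨y⁻¹ * ((rr⁻¹ * n * rr : ↥N) : G), mul_mem (inv_mem (Subgroup.le_normalizer hyT)) (rr⁻¹ * n * rr).2⟩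
      have hcA : ∀ a ∈ A, (c : G) * a * (c : G)⁻¹ = a := by
        have hcV : ∀ v ∈ V, Commute (c : G) v := fun v hv =>
          Commute.mul_left (Commute.inv_left (hcentT y hyT v hv))
            (Subgroup.mem_centralizer_iff.1 (Subgroup.mem_subgroupOf.1 hn') v hv).symm
        have hct : Commute (c : G) t := Subgroup.mem_centralizer_singleton_iff.1 hc
        intro a ha
        rcases hAV a ha with h | h
        · exact mul_inv_eq_iff_eq_mul.2 (hcV a h).eq
        · have := Commute.mul_right hct.inv_right (hcV _ h)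
          rw [inv_mul_cancel_left] at this
          exact mul_inv_eq_iff_eq_mul.2 this.eq
      have h1' := (hm.psi_eq_one_iff (n := c) hc).2 hcA
      have h2' : hm.psi (rr⁻¹ * n * rr) = 1 := by
        rw [show rr⁻¹ * n * rr = ⟨y, Subgroup.le_normalizer hyT⟩ * c from Subtype.ext (mul_inv_cancel_left _ _).symm,
          map_mul, hm.psi_T hyT, h1', one_mul]
      refine Subtype.ext ?_
      show hm.psi n = 1
      rw [show n = rr * (rr⁻¹ * n * rr) * rr⁻¹ by group, map_mul, map_mul, h2', mul_one, map_inv, mul_inv_cancel]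
    have hK2 : IsPGroup 2 ↥Kb := by
      refine IsPGroup.of_card (n := (Nat.card ↥Kb).primeFactorsList.length) ?_
      by_contra hne'
      obtain ⟨q, hq, hqd, hq2⟩ : ∃ q, q.Prime ∧ q ∣ Nat.card ↥Kb ∧ q ≠ 2 := by
        by_contra h
        push Not at h
        exact hne' (Nat.eq_prime_pow_of_unique_prime_dvd Nat.card_pos.ne' fun {d} hd hdd => h d hd hdd)
      have : Fact q.Prime := ⟨hq⟩
      obtain ⟨g, hg⟩ := exists_prime_orderOf_dvd_card' (G := ↥Kb) q hqd
      set g' : Equiv.Perm (Quo T M hm.hl.hMT) := (g : ↥hm.psi.range).1 with hg'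
      have hog : orderOf g' = q := by rw [hg', Subgroup.orderOf_coe, Subgroup.orderOf_coe, hg]
      have hz : IsPGroup q ↥(Subgroup.zpowers g') :=
        IsPGroup.of_card (n := 1) (by rw [Nat.card_zpowers, hog, pow_one])
      obtain ⟨w, hw⟩ := hz.nonempty_fixed_point_of_prime_not_dvd_card (Quo T M hm.hl.hMT) (by
        rw [hx.card8, show (8 : ℕ) = 2 ^ 3 by norm_num]
        exact fun h => hq2 ((Nat.prime_dvd_prime_iff_eq hq Nat.prime_two).1 (hq.dvd_of_dvd_pow h)))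
      have := hsemi g g.2 w (hw ⟨g', Subgroup.mem_zpowers _⟩)
      rw [← Subgroup.orderOf_coe, this, orderOf_one] at hg
      exact hq.one_lt.ne hg
    have hbot := hx.noNormal Kb (hKn.map _ hm.psi.rangeRestrict_surjective) hK2
    have huK : hm.psi.rangeRestrict ⟨u, hRN h1⟩ ∈ Kb := ⟨⟨u, hRN h1⟩, Subgroup.mem_subgroupOf.2
      (Subgroup.mem_centralizer_iff.2 fun v hv => by
        have h2 := hinv v (hVD hv)
        have h3 := hinv 1 (one_mem _)
        rw [mul_one] at h3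
        show v * u = u * v
        calc v * u = v⁻¹ * u⁻¹ := by
              rw [inv_eq_of_mul_eq_one_right (hm.hb.elem v (hm.hb.leV hv)), inv_eq_of_mul_eq_one_right h3]
          _ = (u * v)⁻¹ := by group
          _ = u * v := inv_eq_of_mul_eq_one_right h2), rfl⟩
    rw [hbot, Subgroup.mem_bot] at huK
    exact hparne u h1 (fun h => huT (hpar0 u h1 h)) (congrArg Subtype.val huK)
  -- the shape of a conjugate of `t` outside `T`
  have hshape : ∀ u, IsConj t u → ∀ h1 : u ∈ R, u ∉ T → (par u h1).1 = 0 := by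
    intro u hu h1 huT
    obtain ⟨-, hpz, hC16, -⟩ := hclass u hu h1 huT
    have hDb := hDbot u hu h1 huT
    set p := par u h1
    have hp0 : p ≠ 0 := fun h => huT (hpar0 u h1 h)
    have hel := (hm.hb.small_centralizer hu (Q := R ⊓ Subgroup.centralizer ({u} : Set G))
      (hR2.to_le inf_le_left) inf_le_right).2
    set Q := R ⊓ Subgroup.centralizer ({u} : Set G)
    have huQ : u ∈ Q := Subgroup.mem_inf.2 ⟨h1, Subgroup.mem_centralizer_singleton_iff.2 rfl⟩
    have hcomm : ∀ a ∈ Q, ∀ b ∈ Q, a * b = b * a := fun a ha b hb => by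
      calc a * b = (a * b)⁻¹ := (inv_eq_of_mul_eq_one_right (hel _ (mul_mem ha hb))).symm
        _ = b * a := by rw [mul_inv_rev, inv_eq_of_mul_eq_one_right (hel a ha), inv_eq_of_mul_eq_one_right (hel b hb)]
    have hp2 : uniMul p p = 0 := hparD u h1 (by rw [hel u huQ]; exact one_mem _)
    have hfix : ∀ a ∈ Q, a ∈ T → ∀ b ∈ Q, ∀ hb : b ∈ R, par b hb ≠ 0 → ∃ ha : a ∈ M,
        uni (par b hb) (e.symm (mkQ T M hm.hl.hMT ⟨a, ha⟩)) = e.symm (mkQ T M hm.hl.hMT ⟨a, ha⟩) := by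
      intro a haQ haT b hbQ hb hne
      refine hfixed b hb a haT hne ?_
      rw [hcomm b hbQ a haQ, mul_inv_cancel_right, inv_mul_cancel]
      exact one_mem _
    choose ha2 hfx using fun a : ↥(Q ⊓ T) => hfix a a.2.1 a.2.2 u huQ h1 hp0
    let F : ↥(Q ⊓ T) → {x : V8 // uni p x = x} := fun a => ⟨_, hfx a⟩
    have hFinj : Function.Injective F := fun a b hab => by
      have h2 := (mkQ_eq hm.hl.hMT).1 (e.symm.injective (congrArg Subtype.val hab))
      rw [show ⁅T, T⁆ = (⊥ : Subgroup G) from hDb, Subgroup.mem_bot] at h2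
      exact Subtype.ext (inv_mul_eq_one.1 h2)
    have hfour : Fintype.card {x : V8 // uni p x = x} = 4 := plane_card p hp2 hp0
    have hQT4 : Nat.card ↥(Q ⊓ T) ≤ 4 := by
      have := Nat.card_le_card_of_injective F hFinj
      rw [Nat.card_eq_fintype_card (α := {x : V8 // uni p x = x}), hfour] at this
      exact this
    let qp : ↥Q → V8 := fun b => par (b : G) b.2.1
    have hqp : ∀ b : ↥Q, qp b = 0 ∨ qp b = p ∨ qp b = (0, 1, 0) ∨ qp b = uniMul p (0, 1, 0) := by
      intro b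
      refine centralizer_four p (qp b) hp0 hpz ?_ (hparD _ _ (by rw [hel _ b.2]; exact one_mem _))
      show uniMul (par u h1) (par (b : G) b.2.1) = uniMul (par (b : G) b.2.1) (par u h1)
      rw [← hmulpar, ← hmulpar]
      congr 1
      exact hcomm u huQ b b.2
    -- a fibre bound shows that `z` occurs
    obtain ⟨b, hb⟩ : ∃ b : ↥Q, qp b = (0, 1, 0) := by
      by_contra hno
      push Not at hno
      have hprog : Nat.card ↥Q ≤ Nat.card (Bool × ↥(Q ⊓ T)) := by
        have hcase : ∀ b : ↥Q, (b : G) ∈ T ∨ u * (b : G) ∈ T := by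
          intro b
          rcases hqp b with h | h | h | h
          · exact Or.inl (hpar0 _ _ h)
          · refine Or.inr (hpar0 _ (mul_mem h1 b.2.1) ?_)
            rw [hmulpar u b h1 b.2.1, show par (b : G) b.2.1 = p from h, hp2]
          · exact absurd h (hno b)
          · exfalso
            refine hno ⟨u * b, mul_mem huQ b.2⟩ ?_
            show par (u * (b : G)) _ = _
            rw [hmulpar u b h1 b.2.1, show par (b : G) b.2.1 = _ from h]
            exact inv_z p hp2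
        refine Nat.card_le_card_of_surjective (fun x => (⟨(if x.1 then u⁻¹ else 1) * (x.2 : G),
          mul_mem (by split_ifs <;> [exact inv_mem huQ; exact one_mem _]) x.2.2.1⟩ : ↥Q)) fun b => ?_
        rcases hcase b with h | h
        · exact ⟨(false, ⟨b, b.2, h⟩), Subtype.ext (by simp)⟩
        · exact ⟨(true, ⟨u * b, mul_mem huQ b.2, h⟩), Subtype.ext (by simp)⟩
      rw [Nat.card_prod, Nat.card_eq_fintype_card (α := Bool), Fintype.card_bool, hC16] at hprog
      omega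
    have hQT : Nat.card ↥(Q ⊓ T) = 4 := by
      refine le_antisymm hQT4 ?_
      by_contra hlt
      have h16 : Nat.card ↥Q ≤ Nat.card (Bool × Bool × ↥(Q ⊓ T)) := by
        refine Nat.card_le_card_of_surjective (fun x => (⟨(if x.1 then u⁻¹ else 1) * (if x.2.1 then (b : G)⁻¹ else 1) * (x.2.2 : G),
          mul_mem (mul_mem (by split_ifs <;> [exact inv_mem huQ; exact one_mem _])
            (by split_ifs <;> [exact inv_mem b.2; exact one_mem _])) x.2.2.2.1⟩ : ↥Q)) fun c => ?_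
        have hb' : par (b : G) b.2.1 = (0, 1, 0) := hb
        rcases hqp c with h | h | h | h
        · exact ⟨(false, false, ⟨c, c.2, hpar0 _ _ h⟩), Subtype.ext (by simp)⟩
        · refine ⟨(true, false, ⟨u * c, mul_mem huQ c.2, hpar0 _ (mul_mem h1 c.2.1) ?_⟩), Subtype.ext (by simp)⟩
          rw [hmulpar u c h1 c.2.1, show par (c : G) c.2.1 = p from h, hp2]
        · refine ⟨(false, true, ⟨b * c, mul_mem b.2 c.2, hpar0 _ (mul_mem b.2.1 c.2.1) ?_⟩), Subtype.ext (by simp)⟩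
          rw [hmulpar b c b.2.1 c.2.1, show par (c : G) c.2.1 = _ from h, hb']
          exact uniMul_zz
        · refine ⟨(true, true, ⟨(b : G) * (u * c), mul_mem b.2 (mul_mem huQ c.2),
            hpar0 _ (mul_mem b.2.1 (mul_mem h1 c.2.1)) ?_⟩), Subtype.ext (by simp [mul_assoc])⟩
          rw [hmulpar (b : G) (u * c) b.2.1 (mul_mem h1 c.2.1), hmulpar u c h1 c.2.1,
            show par (c : G) c.2.1 = _ from h, hb']
          exact z_inv_z p hp2
      rw [Nat.card_prod, Nat.card_prod, Nat.card_eq_fintype_card (α := Bool), Fintype.card_bool, hC16] at h16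
      omega
    refine pointwise_plane p fun x hxl => ?_
    -- every fixed point of `p` lies in the plane of `z`
    have hFsurj : Function.Surjective F := ((Nat.bijective_iff_injective_and_card F).2
      ⟨hFinj, by rw [hQT, Nat.card_eq_fintype_card, hfour]⟩).2
    have hsub : ∀ y : V8, uni p y = y → y.2.2 = 0 := by
      intro y hy'
      obtain ⟨a, ha⟩ := hFsurj ⟨y, hy'⟩
      obtain ⟨ha', hz⟩ := hfix a a.2.1 a.2.2 b b.2 b.2.1 (by rw [show par (b : G) b.2.1 = _ from hb]; exact z_ne_zero)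
      have he : e.symm (mkQ T M hm.hl.hMT ⟨a, ha'⟩) = y := congrArg Subtype.val ha
      rw [he, show par (b : G) b.2.1 = _ from hb] at hz
      exact (fix_z y).1 hz
    let J : {x : V8 // uni p x = x} → {x : V8 // x.2.2 = 0} := fun y => ⟨y.1, hsub y.1 y.2⟩
    have hJ : Function.Bijective J := (Fintype.bijective_iff_injective_and_card J).2
      ⟨fun a b h => Subtype.ext (congrArg (fun q : {x : V8 // x.2.2 = 0} => q.1) h), by rw [hfour, card_plane_zero]⟩
    obtain ⟨y, hy'⟩ := hJ.2 ⟨x, hxl⟩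
    have := y.2
    rwa [show y.1 = x from congrArg Subtype.val hy'] at this
  -- the class of `t` inside `R` is `t M`
  have htM : ∀ m ∈ M, ∃ r ∈ R, r * t * r⁻¹ = t * m := by
    intro m hmM
    let q : ↥R ⧸ T.subgroupOf R → Quo T M hm.hl.hMT := fun x => hm.psi ⟨(x.out : G), hRN x.out.2⟩ 0
    have hq : Function.Injective q := fun a b hab => by
      rw [← QuotientGroup.out_eq' a, ← QuotientGroup.out_eq' b]
      refine QuotientGroup.eq.2 (Subgroup.mem_subgroupOf.2 (hker _ ((a.out)⁻¹ * b.out).2 ?_))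
      rw [show (⟨((a.out⁻¹ * b.out : ↥R) : G), hRN (a.out⁻¹ * b.out).2⟩ : ↥(Subgroup.normalizer (T : Set G))) =
        ⟨(a.out : G), hRN a.out.2⟩⁻¹ * ⟨(b.out : G), hRN b.out.2⟩ from rfl, map_mul, map_inv,
        Equiv.Perm.mul_apply, show hm.psi ⟨(b.out : G), hRN b.out.2⟩ 0 = hm.psi ⟨(a.out : G), hRN a.out.2⟩ 0 from hab.symm,
        inva]
    have hc : Nat.card (↥R ⧸ T.subgroupOf R) = 8 := by
      have h1 := (T.subgroupOf R).index_mul_card
      rw [Nat.card_congr (Subgroup.subgroupOfEquivOfLe hTR).toEquiv, hRc] at h1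
      exact Nat.eq_of_mul_eq_mul_right Nat.card_pos h1
    obtain ⟨x, hxq⟩ := ((Nat.bijective_iff_injective_and_card q).2 ⟨hq, by rw [hc, hx.card8]⟩).2
      (mkQ T M hm.hl.hMT ⟨m, hmM⟩)
    set r : G := (x.out : G)
    have hrR : r ∈ R := x.out.2
    have h1 : hm.psi ⟨r, hRN hrR⟩ 0 = mkQ T M hm.hl.hMT ⟨m, hmM⟩ := hxq
    rw [← mkQ_one hm.hl.hMT, hm.psi_apply, mkQ_eq] at h1
    simp only [Subgroup.coe_one, mul_one] at h1
    have hd := hm.D_conj (inv_mem (hRN hrR)) h1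
    obtain ⟨y, hyT, hye⟩ := (hm.hl.class_coset hm.hb (IsConj.refl t) htT).2.1 _ hd
    refine ⟨r * y, mul_mem hrR (hTR hyT), ?_⟩
    rw [show r * y * t * (r * y)⁻¹ = r * (y * t * y⁻¹) * r⁻¹ by group, hye]
    group
  -- `R` is a Sylow subgroup
  obtain ⟨S, hRS⟩ := hR2.exists_le_sylow
  have hSR : (S : Subgroup G) = R := by
    refine le_antisymm ?_ hRS
    by_contra hne
    have hlt : R.subgroupOf S ≠ ⊤ := fun h => hne (Subgroup.subgroupOf_eq_top.1 h)
    obtain ⟨θ', hθn, hθR⟩ := SetLike.exists_of_lt (Group.normalizerCondition_of_isNilpotent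
      (h := S.2.isNilpotent) (R.subgroupOf S) (lt_top_iff_ne_top.2 hlt))
    set θ : G := (θ' : G) with hθ
    have hθR' : θ ∉ R := fun h => hθR (Subgroup.mem_subgroupOf.2 h)
    have hθN : ∀ y, y ∈ R ↔ θ * y * θ⁻¹ ∈ R := by
      intro y
      constructor
      · intro hy'
        exact ((Subgroup.mem_normalizer_iff.1 hθn) ⟨y, hRS hy'⟩).1 hy'
      · intro hy'
        have hyS : y ∈ (S : Subgroup G) := by
          have := mul_mem (mul_mem (inv_mem (θ'.2 : θ ∈ (S : Subgroup G))) (hRS hy')) θ'.2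
          rwa [show θ⁻¹ * (θ * y * θ⁻¹) * θ = y by group] at this
        exact ((Subgroup.mem_normalizer_iff.1 hθn) ⟨y, hyS⟩).2 hy'
    have hθN' : ∀ y, y ∈ R → θ⁻¹ * y * θ ∈ R := fun y hy' => by
      rw [hθN, show θ * (θ⁻¹ * y * θ) * θ⁻¹ = y by group]; exact hy'
    have hTgen : ∀ W : Subgroup G, (∀ m ∈ M, t * m ∈ W) → T ≤ W := by
      intro W hW y hy'
      have htW : t ∈ W := by have := hW 1 (one_mem M); rwa [mul_one] at this
      rcases hm.hl.mem_or hy' with h | h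
      · have := mul_mem (inv_mem htW) (hW y h)
        rwa [inv_mul_cancel_left] at this
      · have := hW _ (h t htT hm.hl.htM)
        rwa [mul_inv_cancel_left] at this
    set u := θ * t * θ⁻¹ with hu
    have huc : IsConj t u := isConj_iff.2 ⟨θ, rfl⟩
    have huR : u ∈ R := (hθN t).1 (hTR htT)
    have hRT : ∀ r ∈ R, r ∈ Subgroup.normalizer (T : Set G) := fun r hr => hRN hr
    have hinto : ∀ m ∈ M, ∀ v, IsConj t v → v ∈ T → ∃ r ∈ R, r * v * r⁻¹ = t * m := by
      intro m hmM v hv hvT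
      obtain ⟨r1, hr1, hr1e⟩ := htM _ (hm.hl.conj_mem_tM hm.hb hm.hVX hv hvT)
      rw [mul_inv_cancel_left] at hr1e
      obtain ⟨r2, hr2, hr2e⟩ := htM m hmM
      exact ⟨r2 * r1⁻¹, mul_mem hr2 (inv_mem hr1), by rw [← hr2e, ← hr1e]; group⟩
    by_cases huT : u ∈ T
    · have hT' : T.map (MulAut.conj θ).toMonoidHom = T := by
        refine (Subgroup.eq_of_le_of_card_ge (hTgen _ fun m hmM => ?_) (Subgroup.card_map_of_injective
          (MulAut.conj θ).injective).le).symm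
        obtain ⟨r, hr, hre⟩ := hinto m hmM u huc huT
        refine ⟨θ⁻¹ * (t * m) * θ, ?_, by simp only [MulEquiv.coe_toMonoidHom, MulAut.conj_apply]; group⟩
        rw [← hre, show θ⁻¹ * (r * u * r⁻¹) * θ = (θ⁻¹ * r * θ) * t * (θ⁻¹ * r * θ)⁻¹ by rw [hu]; group]
        exact (Subgroup.mem_normalizer_iff.1 (hRT _ (hθN' r hr)) t).1 htT
      have hθT : θ ∈ Subgroup.normalizer (T : Set G) := Transfer.Fusion.map_conj_eq_self_iff.1 hT'
      have hmax := hmaxR ((S : Subgroup G) ⊓ Subgroup.normalizer (T : Set G)) (S.2.to_le inf_le_left)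
        (le_inf hRS hRN) inf_le_right
      exact hθR' (hmax ▸ Subgroup.mem_inf.2 ⟨θ'.2, hθT⟩)
    -- `θ` swaps `T` with another elementary subgroup
    have hDb := hDbot u huc huR huT
    obtain ⟨-, hpz, hC16, hall⟩ := hclass u huc huR huT
    have hp1 := hshape u huc huR huT
    set p := par u huR with hpdef
    have hp0 : p ≠ 0 := fun h => huT (hpar0 u huR h)
    have hD1 : ∀ x, x ∈ ⁅T, T⁆ ↔ x = 1 := fun x => by rw [show ⁅T, T⁆ = (⊥ : Subgroup G) from hDb, Subgroup.mem_bot]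
    have hT16 : Nat.card ↥T = 16 := by rw [hDc, hDb, Subgroup.card_bot]
    have hTsq : ∀ x ∈ T, x * x = 1 := fun x hxT => (hD1 _).1 (hm.hl.sq x hxT)
    have hTcomm : ∀ a ∈ T, ∀ b ∈ T, a * b = b * a := fun a ha b hb => by
      calc a * b = (a * b)⁻¹ := (inv_eq_of_mul_eq_one_right (hTsq _ (mul_mem ha hb))).symm
        _ = b * a := by rw [mul_inv_rev, inv_eq_of_mul_eq_one_right (hTsq a ha), inv_eq_of_mul_eq_one_right (hTsq b hb)]
    have hv2 : θ * u * θ⁻¹ ∈ T := by
      by_contra hv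
      have hvR := (hθN u).1 huR
      have hvc : IsConj t (θ * u * θ⁻¹) := huc.trans (isConj_iff.2 ⟨θ, rfl⟩)
      obtain ⟨-, hvz, -, -⟩ := hclass _ hvc hvR hv
      have hv1 := hshape _ hvc hvR hv
      have hcls := axis_class p _ hp1 hv1 hp0 hpz (fun h => hv (hpar0 _ _ h)) hvz
      obtain ⟨r, hr, hre⟩ := hall _ hvR (by
        rw [hD]
        refine (hD1 _).2 ?_
        rw [show θ * u * θ⁻¹ * (θ * u * θ⁻¹) = θ * θ * (t * t) * (θ * θ)⁻¹ by rw [hu]; group, htt, mul_one,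
          mul_inv_cancel]) hcls
      refine huT ?_
      have h2 : u = θ⁻¹ * r * θ * t * (θ⁻¹ * r * θ)⁻¹ := by
        calc u = θ⁻¹ * (θ * u * θ⁻¹) * θ := by group
          _ = θ⁻¹ * (r * u * r⁻¹) * θ := by rw [hre]
          _ = _ := by rw [hu]; group
      rw [h2]
      exact (Subgroup.mem_normalizer_iff.1 (hRT _ (hθN' r hr)) t).1 htT
    set Ab := T.map (MulAut.conj θ).toMonoidHom with hAb
    have hAbR : Ab ≤ R := by
      rintro _ ⟨a, ha, rfl⟩
      exact (hθN a).1 (hTR ha)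
    have hnAb : ∀ r ∈ R, r ∈ Subgroup.normalizer (Ab : Set G) := fun r hr => by
      rw [← Transfer.Fusion.map_conj_eq_self_iff]
      refine Subgroup.eq_of_le_of_card_ge ?_ (Subgroup.card_map_of_injective (MulAut.conj r).injective).ge
      rintro _ ⟨_, ⟨a, ha, rfl⟩, rfl⟩
      refine ⟨(θ⁻¹ * r * θ) * a * (θ⁻¹ * r * θ)⁻¹, (Subgroup.mem_normalizer_iff.1 (hRT _ (hθN' r hr)) a).1 ha, ?_⟩
      simp only [MulEquiv.coe_toMonoidHom, MulAut.conj_apply]
      group
    have huAb : u ∈ Ab := ⟨t, htT, rfl⟩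
    have hAbT : Ab.map (MulAut.conj θ).toMonoidHom = T := by
      refine (Subgroup.eq_of_le_of_card_ge (hTgen _ fun m hmM => ?_) ?_).symm
      · obtain ⟨r, hr, hre⟩ := hinto m hmM (θ * u * θ⁻¹) (huc.trans (isConj_iff.2 ⟨θ, rfl⟩)) hv2
        refine ⟨θ⁻¹ * r * θ * u * (θ⁻¹ * r * θ)⁻¹,
          (Subgroup.mem_normalizer_iff.1 (hnAb _ (hθN' r hr)) u).1 huAb, ?_⟩
        rw [← hre]
        simp only [MulEquiv.coe_toMonoidHom, MulAut.conj_apply]
        group
      · rw [hAb, Subgroup.card_map_of_injective (MulAut.conj θ).injective,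
          Subgroup.card_map_of_injective (MulAut.conj θ).injective]
    have hAbc : ∀ a ∈ Ab, ∀ b ∈ Ab, a * b = b * a := by
      rintro _ ⟨a, ha, rfl⟩ _ ⟨b, hb, rfl⟩
      rw [← map_mul, ← map_mul, hTcomm a ha b hb]
    have hAb16 : Nat.card ↥Ab = 16 := by rw [hAb, Subgroup.card_map_of_injective (MulAut.conj θ).injective, hT16]
    have hAbQ : Ab = R ⊓ Subgroup.centralizer ({u} : Set G) := Subgroup.eq_of_le_of_card_ge
      (fun a ha => Subgroup.mem_inf.2 ⟨hAbR ha, Subgroup.mem_centralizer_singleton_iff.2 (hAbc a ha u huAb)⟩)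
      (by rw [hC16, hAb16])
    have huu : u * u = 1 := by rw [hu, show θ * t * θ⁻¹ * (θ * t * θ⁻¹) = θ * (t * t) * θ⁻¹ by group, htt, mul_one, mul_inv_cancel]
    have hAbsq : ∀ a ∈ Ab, a * a = 1 := by
      rintro _ ⟨a, ha, rfl⟩
      rw [← map_mul, hTsq a ha, map_one]
    have hp2 : uniMul p p = 0 := hparD u huR (by rw [huu]; exact one_mem _)
    have hparAb : ∀ a (ha : a ∈ Ab), (par a (hAbR ha)).1 = 0 := by
      intro a ha
      refine four_cases p _ hp1 hp0 hpz (centralizer_four p _ hp0 hpz ?_ (hparD _ _ (by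
        rw [hAbsq a ha]; exact one_mem _)))
      rw [hpdef, ← hmulpar, ← hmulpar]
      congr 1
      exact hAbc u huAb a ha
    -- the intersection
    set F := T ⊓ Ab with hF
    have hFfix : ∀ a ∈ F, ∃ ha : a ∈ M, (e.symm (mkQ T M hm.hl.hMT ⟨a, ha⟩)).2.2 = 0 := by
      intro a ha
      obtain ⟨ha', hfx⟩ := hfixed u huR a ha.1 hp0 (by
        rw [hD]; refine (hD1 _).2 ?_
        rw [hAbc u huAb a ha.2, mul_inv_cancel_right, inv_mul_cancel])
      exact ⟨ha', (plane_iff p hp1 hp0 _).1 hfx⟩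
    have hFof : ∀ a : ↥M, (e.symm (mkQ T M hm.hl.hMT a)).2.2 = 0 → (a : G) ∈ F := by
      intro a ha
      refine Subgroup.mem_inf.2 ⟨hm.hl.hMT a.2, ?_⟩
      rw [hAbQ]
      refine Subgroup.mem_inf.2 ⟨hTR (hm.hl.hMT a.2), Subgroup.mem_centralizer_singleton_iff.2 ?_⟩
      have h2 := (plane_iff p hp1 hp0 _).2 ha
      have h3 := hpar' u huR (e.symm (mkQ T M hm.hl.hMT a))
      rw [← hpdef, h2, AddEquiv.apply_symm_apply, hx.lin_apply, mkQ_eq] at h3
      have h4 := (hD1 _).1 h3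
      simp only at h4
      calc (a : G) * u = u * a * u⁻¹ * ((u * a * u⁻¹)⁻¹ * a) * u := by group
        _ = u * a := by rw [h4]; group
    have hFeq : ∀ a b : ↥M, mkQ T M hm.hl.hMT a = mkQ T M hm.hl.hMT b → (a : G) = b := fun a b h =>
      inv_mul_eq_one.1 ((hD1 _).1 ((mkQ_eq hm.hl.hMT).1 h))
    choose rep hrep using mkQ_surjective (T := T) (M := M) hm.hl.hMT
    set w : ↥M := rep (e (0, 0, 1)) with hwdef
    have hw : e.symm (mkQ T M hm.hl.hMT w) = (0, 0, 1) := by rw [hwdef, hrep, AddEquiv.symm_apply_apply]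
    have hwF : (w : G) ∉ F := fun h => by
      obtain ⟨h', h2⟩ := hFfix w h
      rw [hw] at h2; exact one_ne_zero h2
    have hcosetF : ∀ a : ↥M, (a : G) ∉ F → ∀ b : ↥M, (b : G) ∉ F → (a : G)⁻¹ * b ∈ F := by
      intro a ha b hb
      have h1 : ∀ x : ↥M, (x : G) ∉ F → (e.symm (mkQ T M hm.hl.hMT x)).2.2 = 1 := fun x hx' =>
        (zero_or_one _).resolve_left fun h => hx' (hFof x h)
      refine hFof (a⁻¹ * b) ?_
      rw [show a⁻¹ = a from Subtype.ext (inv_eq_of_mul_eq_one_right (hTsq a (hm.hl.hMT a.2))), mkQ_mul, map_add]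
      show (e.symm _).2.2 + (e.symm _).2.2 = 0
      rw [h1 a ha, h1 b hb]
      exact CharTwo.add_self_eq_zero 1
    have hFcard : Nat.card ↥F = 4 := by
      have hsurj : Nat.card {x : V8 // x.2.2 = 0} = 4 := by rw [Nat.card_eq_fintype_card, card_plane_zero]
      rw [← hsurj]
      refine Nat.card_eq_of_bijective (fun a => ⟨e.symm (mkQ T M hm.hl.hMT ⟨a, (hFfix a a.2).1⟩), (hFfix a a.2).2⟩)
        ⟨fun a b hab => Subtype.ext (hFeq ⟨_, _⟩ ⟨_, _⟩ (e.symm.injective (congrArg Subtype.val hab))), fun x => ?_⟩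
      have hx' : e.symm (mkQ T M hm.hl.hMT (rep (e x.1))) = x.1 := by rw [hrep, AddEquiv.symm_apply_apply]
      exact ⟨⟨rep (e x.1), hFof _ (by rw [hx']; exact x.2)⟩, Subtype.ext hx'⟩
    -- the key property
    have key : ∀ ρ : G, Odd (orderOf ρ) → ρ ∈ Subgroup.normalizer (T : Set G) → ρ ∈ Subgroup.normalizer (Ab : Set G) →
        (∃ f ∈ F, ρ * f * ρ⁻¹ ≠ f) →
        (∀ a ∈ T, ρ * a * ρ⁻¹ * a⁻¹ ∈ F) ∧ ∃ b ∈ Ab, ρ * b * ρ⁻¹ * b⁻¹ ∉ F := by
      intro ρ hodd hρT hρA hmove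
      have hρF : ∀ f, f ∈ F ↔ ρ * f * ρ⁻¹ ∈ F := fun f => by
        rw [hF, Subgroup.mem_inf, Subgroup.mem_inf, ← Subgroup.mem_normalizer_iff.1 hρT, ← Subgroup.mem_normalizer_iff.1 hρA]
      have hρw : (w : G)⁻¹ * (ρ * w * ρ⁻¹) ∈ F :=
        hcosetF w hwF ⟨_, hm.hNM ρ hρT w w.2⟩ fun h => hwF ((hρF _).2 h)
      have hVT : ∀ m ∈ M, ρ * m * ρ⁻¹ * m⁻¹ ∈ F := by
        intro m hmM
        by_cases hmF : m ∈ F
        · exact mul_mem ((hρF m).1 hmF) (inv_mem hmF)
        · have h1 := hcosetF ⟨m, hmM⟩ hmF ⟨_, hm.hNM ρ hρT m hmM⟩ fun h => hmF ((hρF _).2 h)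
          rw [hTcomm _ ((Subgroup.mem_normalizer_iff.1 hρT m).1 (hm.hl.hMT hmM)) _ (inv_mem (hm.hl.hMT hmM))]
          exact h1
      refine ⟨fun a ha => ?_, ?_⟩
      · -- modulo `F` the element acts with odd order on two cosets
        have hodd' : ∀ i : ℕ, ρ ^ i * t * (ρ ^ i)⁻¹ * t⁻¹ ∈ F ↔ (ρ * t * ρ⁻¹ * t⁻¹ ∈ F ∨ Even i) := by
          intro i
          have hti : ∀ i : ℕ, ρ ^ i * t * (ρ ^ i)⁻¹ * t⁻¹ ∈ M := fun i => by
            rw [hTcomm _ ((Subgroup.mem_normalizer_iff.1 (pow_mem hρT i) t).1 htT) _ (inv_mem htT)]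
            exact hm.hl.conj_mem_tM hm.hb hm.hVX (isConj_iff.2 ⟨_, rfl⟩)
              ((Subgroup.mem_normalizer_iff.1 (pow_mem hρT i) t).1 htT)
          induction i with
          | zero => simp
          | succ i ih =>
            set d := ρ * t * ρ⁻¹ * t⁻¹ with hd
            set di := ρ ^ i * t * (ρ ^ i)⁻¹ * t⁻¹ with hdi
            have hstep : ρ ^ (i + 1) * t * (ρ ^ (i + 1))⁻¹ * t⁻¹ = (ρ * di * ρ⁻¹) * d := by
              rw [hdi, hd, pow_succ']; group
            have hdiM : di ∈ M := hti i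
            have hdM : d ∈ M := by have := hti 1; rwa [pow_one] at this
            have h1 : ρ * di * ρ⁻¹ ∈ F ↔ di ∈ F := (hρF di).symm
            rw [hstep, Nat.even_add_one]
            by_cases hdF : d ∈ F
            · exact iff_of_true (mul_mem (h1.2 (ih.2 (Or.inl hdF))) hdF) (Or.inl hdF)
            · by_cases hdiF : di ∈ F
              · refine iff_of_false (fun h => hdF ?_) (fun h => h.elim hdF fun h' => h' ((ih.1 hdiF).resolve_left hdF))
                have := mul_mem (inv_mem (h1.2 hdiF)) h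
                rwa [inv_mul_cancel_left] at this
              · refine iff_of_true ?_ (Or.inr fun h => hdiF (ih.2 (Or.inr h)))
                have h2 := hcosetF ⟨_, hm.hNM ρ hρT di hdiM⟩ (fun h => hdiF (h1.1 h)) ⟨d, hdM⟩ hdF
                rwa [inv_eq_of_mul_eq_one_right (hTsq _ (hm.hl.hMT (hm.hNM ρ hρT di hdiM)))] at h2
        have ht' : ρ * t * ρ⁻¹ * t⁻¹ ∈ F := ((hodd' (orderOf ρ)).1 (by
          rw [pow_orderOf_eq_one]; simp)).resolve_right (Nat.not_even_iff_odd.2 hodd)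
        rcases hm.hl.mem_or ha with haM | haM
        · exact hVT a haM
        · have h2 := hVT _ (haM t htT hm.hl.htM)
          have hc := hTcomm (ρ * (t⁻¹ * a) * ρ⁻¹ * (t⁻¹ * a)⁻¹) (mul_mem ((Subgroup.mem_normalizer_iff.1 hρT _).1
            (mul_mem (inv_mem htT) ha)) (inv_mem (mul_mem (inv_mem htT) ha))) t⁻¹ (inv_mem htT)
          have h3 : ρ * a * ρ⁻¹ * a⁻¹ = (ρ * t * ρ⁻¹ * t⁻¹) * (ρ * (t⁻¹ * a) * ρ⁻¹ * (t⁻¹ * a)⁻¹) := by
            calc ρ * a * ρ⁻¹ * a⁻¹ = ρ * t * ρ⁻¹ * ((ρ * (t⁻¹ * a) * ρ⁻¹ * (t⁻¹ * a)⁻¹) * t⁻¹) := by group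
              _ = _ := by rw [hc]; group
          rw [h3]
          exact mul_mem ht' h2
      · by_contra hno
        push Not at hno
        obtain ⟨f, hf, hfne⟩ := hmove
        -- `f` is a commutator with `w`
        obtain ⟨hfM, hf0⟩ := hFfix f hf
        obtain ⟨i, j, hij⟩ : ∃ i j, e.symm (mkQ T M hm.hl.hMT ⟨f, hfM⟩) = (i, j, 0) :=
          ⟨_, _, Prod.ext rfl (Prod.ext rfl hf0)⟩
        obtain ⟨b, hb, hbp⟩ : ∃ b, ∃ hb : b ∈ Ab, par b (hAbR hb) = (0, i, j) := by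
          by_contra hnb
          push Not at hnb
          -- at most three parameters, each fibre has at most four elements
          have hfib : Nat.card ↥Ab ≤ Nat.card ({q : V8 // q.1 = 0 ∧ q ≠ (0, i, j)} × ↥F) := by
            choose g hg using fun q : {q : V8 // (∃ a, ∃ ha : a ∈ Ab, par a (hAbR ha) = q)} => q.2
            refine Nat.card_le_card_of_injective (fun a => (⟨par a (hAbR a.2), hparAb a a.2, hnb a a.2⟩,
              ⟨(g ⟨_, a, a.2, rfl⟩)⁻¹ * (a : G), ?_⟩)) fun a c hac => ?_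
            · obtain ⟨hga, hgp⟩ := hg ⟨_, a, a.2, rfl⟩
              refine Subgroup.mem_inf.2 ⟨hpar0 _ (mul_mem (inv_mem (hAbR hga)) (hAbR a.2)) ?_, mul_mem (inv_mem hga) a.2⟩
              have h5 := hmulpar (g ⟨_, a, a.2, rfl⟩) ((g ⟨_, a, a.2, rfl⟩)⁻¹ * (a : G)) (hAbR hga)
                (mul_mem (inv_mem (hAbR hga)) (hAbR a.2))
              simp only [mul_inv_cancel_left, hgp] at h5
              exact v8_cancel _ _ h5
            · have h5 := congrArg (fun q => (q.1 : {q : V8 // q.1 = 0 ∧ q ≠ (0, i, j)}).1) hac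
              have h6 := congrArg (fun q => ((q.2 : ↥F) : G)) hac
              simp only at h5 h6
              refine Subtype.ext (mul_left_cancel (a := (g ⟨_, a, a.2, rfl⟩)⁻¹) (h6.trans ?_))
              congr 3
              exact Subtype.ext h5.symm
          rw [Nat.card_prod, hFcard, hAb16, Nat.card_eq_fintype_card] at hfib
          rw [card_shape] at hfib
          omega
        have hbR := hAbR hb
        have hbw : b * w * b⁻¹ * (w : G)⁻¹ = f := by
          have h2 := hpar' b hbR (0, 0, 1)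
          rw [hbp, kappa_value, show e (0, 0, 1) = mkQ T M hm.hl.hMT w from by rw [hwdef, hrep], hx.lin_apply,
            show ((i, j, 1) : V8) = (i, j, 0) + (0, 0, 1) by simp, map_add, ← hij, AddEquiv.apply_symm_apply,
            show e (0, 0, 1) = mkQ T M hm.hl.hMT w from by rw [hwdef, hrep], ← mkQ_mul] at h2
          have h3 := hFeq _ _ h2
          simp only [Subgroup.coe_mul] at h3
          rw [h3, mul_inv_cancel_right]
        have hρb : ρ * b * ρ⁻¹ * b⁻¹ ∈ F := hno b hb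
        refine hfne ?_
        set f1 := ρ * b * ρ⁻¹ * b⁻¹
        set f2 := (w : G)⁻¹ * (ρ * w * ρ⁻¹)
        have c1 : f1 * w = w * f1 := hTcomm _ hρb.1 _ (hm.hl.hMT w.2)
        have c2 : f2 * b = b * f2 := hAbc _ hρw.2 _ hb
        have c3 : f1 * f2 = f2 * f1 := hTcomm _ hρb.1 _ hρw.1
        have c4 : f1 * b = b * f1 := hAbc _ hρb.2 _ hb
        rw [← hbw]
        calc ρ * (b * w * b⁻¹ * (w : G)⁻¹) * ρ⁻¹
            = f1 * b * (w * f2) * b⁻¹ * f1⁻¹ * f2⁻¹ * (w : G)⁻¹ := by simp only [f1, f2]; group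
          _ = f1 * (b * w * b⁻¹) * f2 * f1⁻¹ * f2⁻¹ * (w : G)⁻¹ := by
              rw [show f1 * b * (w * f2) * b⁻¹ = f1 * (b * w * (f2 * b⁻¹)) by group,
                (Commute.inv_right (show Commute f2 b from c2)).eq]
              group
          _ = f1 * (b * w * b⁻¹) * f1⁻¹ * (w : G)⁻¹ := by
              rw [show f1 * (b * w * b⁻¹) * f2 * f1⁻¹ * f2⁻¹ = f1 * (b * w * b⁻¹) * (f2 * f1⁻¹) * f2⁻¹ by group,
                (Commute.inv_right (show Commute f2 f1 from c3.symm)).eq]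
              group
          _ = b * w * b⁻¹ * (w : G)⁻¹ := by
              have : Commute f1 (b * w * b⁻¹) :=
                ((show Commute f1 b from c4).mul_right c1).mul_right (Commute.inv_right c4)
              rw [this.eq, mul_inv_cancel_right]
    -- an element rotating `F`
    obtain ⟨n, hn⟩ := hx.allLin rot
    have hnF : ∀ g : ↥(Subgroup.normalizer (T : Set G)), (∀ x : V8, x.2.2 = 0 → ∃ y : V8, y.2.2 = 0 ∧ lin (hm.psi g) (e x) = e y) →
        ∀ a ∈ F, (g : G) * a * (g : G)⁻¹ ∈ F := by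
      intro g hg a ha
      obtain ⟨haM, ha0⟩ := hFfix a ha
      obtain ⟨y, hy0, hye⟩ := hg _ ha0
      rw [AddEquiv.apply_symm_apply, hx.lin_apply] at hye
      exact hFof ⟨_, hm.hNM g g.2 a haM⟩ (by rw [hye, AddEquiv.symm_apply_apply]; exact hy0)
    set NN := Subgroup.normalizer (T : Set G) ⊓ Subgroup.normalizer (F : Set G) with hNN
    set NE : Subgroup ↥NN := (Subgroup.centralizer (F : Set G)).subgroupOf NN with hNE
    have hNEn : NE.Normal := ⟨fun a ha g => by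
      refine Subgroup.mem_subgroupOf.2 (Subgroup.mem_centralizer_iff.2 fun v hv => ?_)
      simp only [Subgroup.coe_mul, Subgroup.coe_inv]
      have h2 := Subgroup.mem_centralizer_iff.1 (Subgroup.mem_subgroupOf.1 ha)
        ((g : G)⁻¹ * v * (g : G)⁻¹⁻¹) ((Subgroup.mem_normalizer_iff.1 (inv_mem g.2.2) v).1 hv)
      calc v * ((g : G) * a * (g : G)⁻¹) = g * ((g : G)⁻¹ * v * (g : G)⁻¹⁻¹ * a) * (g : G)⁻¹ := by group
        _ = g * (a * ((g : G)⁻¹ * v * (g : G)⁻¹⁻¹)) * (g : G)⁻¹ := by rw [h2]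
        _ = _ := by group⟩
    set Y := T ⊔ Ab with hY
    have hAbN : Ab ≤ Subgroup.normalizer (T : Set G) := hAbR.trans hRN
    have hYNT : Y ≤ Subgroup.normalizer (T : Set G) := sup_le Subgroup.le_normalizer hAbN
    have hYc : Y ≤ Subgroup.centralizer (F : Set G) := sup_le
      (fun a ha => Subgroup.mem_centralizer_iff.2 fun f hf => hTcomm f hf.1 a ha)
      (fun a ha => Subgroup.mem_centralizer_iff.2 fun f hf => hAbc f hf.2 a ha)
    have hYN : Y ≤ NN := le_inf hYNT (hYc.trans (Subgroup.centralizer_le_normalizer _))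
    have hYdec : ∀ y ∈ Y, ∃ a ∈ T, ∃ b ∈ Ab, y = a * b := by
      intro y hy'
      have hy2 : y ∈ (T ⊔ Ab : Subgroup G) := hy'
      rw [← SetLike.mem_coe, Subgroup.coe_mul_of_right_le_normalizer_left _ _ hAbN] at hy2
      obtain ⟨a, ha, b, hb, rfl⟩ := Set.mem_mul.1 hy2
      exact ⟨a, ha, b, hb, rfl⟩
    have hY2 : IsPGroup 2 ↥Y := hm.hl.hT.to_sup_of_normal_left' (hR2.to_le hAbR) hAbN
    obtain ⟨Pn, hPn⟩ := (show IsPGroup 2 ↥((Y.subgroupOf NN).subgroupOf NE) from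
      (hY2.of_equiv (Subgroup.subgroupOfEquivOfLe hYN).symm).of_equiv
        (Subgroup.subgroupOfEquivOfLe (fun y hy' => Subgroup.mem_subgroupOf.2 (hYc (Subgroup.mem_subgroupOf.1 hy')) :
          Y.subgroupOf NN ≤ NE)).symm).exists_le_sylow
    set PP := ((Pn : Subgroup ↥NE).map NE.subtype).map NN.subtype with hPP
    have hPY : PP = Y := by
      have hYP : Y ≤ PP := fun y hy' => ⟨⟨y, hYN hy'⟩,
        ⟨⟨⟨y, hYN hy'⟩, Subgroup.mem_subgroupOf.2 (hYc hy')⟩, hPn hy', rfl⟩, rfl⟩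
      have hPN : PP ≤ Subgroup.normalizer (T : Set G) := (Subgroup.map_subtype_le _).trans inf_le_left
      have hPF : PP ≤ Subgroup.centralizer (F : Set G) := by
        rintro _ ⟨_, ⟨z, -, rfl⟩, rfl⟩
        exact z.2
      refine (Subgroup.eq_of_le_of_card_ge hYP ?_).symm
      have hTP : T ≤ PP := (le_sup_left : T ≤ Y).trans hYP
      have hP2 : IsPGroup 2 ↥PP := (Pn.2.map _).map _
      have hlinval : ∀ x : ↥PP, (e.symm (lin (hm.psi ⟨x, hPN x.2⟩) (e (0, 0, 1)))).2.2 = 1 := by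
        intro x
        refine (zero_or_one _).resolve_left fun h => hwF ?_
        have h2 : lin (hm.psi ⟨x, hPN x.2⟩) (mkQ T M hm.hl.hMT w) = lin (hm.psi ⟨x, hPN x.2⟩) (e (0, 0, 1)) := by
          rw [hwdef, hrep]
        rw [← h2, hx.lin_apply] at h
        have h3 := hFof _ h
        have hxF : (x : G) ∈ Subgroup.normalizer (F : Set G) := Subgroup.centralizer_le_normalizer _ (hPF x.2)
        exact (Subgroup.mem_normalizer_iff.1 hxF _).2 h3
      have hPle : Nat.card ↥PP ≤ 64 := by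
        have h1 := (T.subgroupOf PP).index_mul_card
        rw [Nat.card_congr (Subgroup.subgroupOfEquivOfLe hTP).toEquiv, hT16] at h1
        have h2 : (T.subgroupOf PP).index ≤ Nat.card {x : V8 // x.2.2 = 1} := by
          rw [Subgroup.index_eq_card]
          refine Nat.card_le_card_of_injective (fun q => ⟨_, hlinval q.out⟩) fun a c hac => ?_
          rw [← QuotientGroup.out_eq' a, ← QuotientGroup.out_eq' c]
          refine QuotientGroup.eq.2 (Subgroup.mem_subgroupOf.2 ?_)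
          have h3 := e.symm.injective (congrArg Subtype.val hac)
          obtain ⟨s', hsC, hsA, hs0, hstr⟩ := hm.exists_gen
          have hyy := hm.affine hsC hsA hs0 hstr
          set g : ↥(Subgroup.normalizer (T : Set G)) := ⟨((a.out⁻¹ * c.out : ↥PP) : G), hPN (a.out⁻¹ * c.out).2⟩
          have hg1 : hm.psi g = 1 := by
            refine hx.lin_faithful fun z => ?_
            obtain ⟨z, rfl⟩ := e.surjective z
            have hplane : ∀ z : V8, z.2.2 = 0 → lin (hm.psi g) (e z) = e z := by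
              intro z hz
              have hmem := hFof (rep (e z)) (by rw [hrep, AddEquiv.symm_apply_apply]; exact hz)
              rw [← hrep (e z), hx.lin_apply]
              congr 1
              refine Subtype.ext ?_
              exact mul_inv_eq_iff_eq_mul.2 (Subgroup.mem_centralizer_iff.1 (hPF (a.out⁻¹ * c.out).2) _ hmem).symm
            have h001 : lin (hm.psi g) (e (0, 0, 1)) = e (0, 0, 1) := by
              rw [show g = ⟨(a.out : G), hPN a.out.2⟩⁻¹ * ⟨(c.out : G), hPN c.out.2⟩ from rfl, map_mul,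
                map_inv, hyy.lin_mul ⟨_, map_inv hm.psi _⟩, ← h3, ← hyy.lin_mul ⟨_, map_inv hm.psi _⟩,
                inv_mul_cancel, hyy.lin_one]
            rcases zero_or_one z.2.2 with h | h
            · exact hplane z h
            · have hz : z = (z.1, z.2.1, 0) + (0, 0, 1) := by ext <;> simp [h]
              rw [hz, map_add, hyy.lin_add ⟨g, rfl⟩, hplane _ rfl, h001]
          have hQ : PP ⊓ hm.psi.ker.map (Subgroup.normalizer (T : Set G)).subtype = T := by
            refine hm.ker_eq (hP2.to_le inf_le_left) (le_inf hTP fun y hy' =>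
              ⟨⟨y, Subgroup.le_normalizer hy'⟩, hm.psi_T hy', rfl⟩) (inf_le_left.trans hPN) fun y hy' => ?_
            obtain ⟨z, hz, rfl⟩ := hy'.2
            show hm.psi z 0 = 0
            rw [MonoidHom.mem_ker.1 hz]; rfl
          exact hQ.le ⟨(a.out⁻¹ * c.out).2, g, hg1, rfl⟩
        rw [show Nat.card {x : V8 // x.2.2 = 1} = 4 by rw [Nat.card_eq_fintype_card, card_plane_one]] at h2
        rw [← h1]
        omega
      refine hPle.trans ?_
      have hinj : Nat.card (↥T × ↥Ab) ≤ Nat.card (↥Y × ↥F) := by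
        choose r hr using fun y : {y : G // ∃ a ∈ T, ∃ b ∈ Ab, y = a * b} => y.2
        refine Nat.card_le_card_of_injective (fun x => (⟨(x.1 : G) * x.2,
          mul_mem (Subgroup.mem_sup_left x.1.2) (Subgroup.mem_sup_right x.2.2)⟩,
          ⟨(r ⟨(x.1 : G) * x.2, x.1, x.1.2, x.2, x.2.2, rfl⟩)⁻¹ * (x.1 : G), ?_⟩)) fun x y hxy => ?_
        · obtain ⟨hr1, b, hb, hre⟩ := hr ⟨(x.1 : G) * x.2, x.1, x.1.2, x.2, x.2.2, rfl⟩
          refine Subgroup.mem_inf.2 ⟨mul_mem (inv_mem hr1) x.1.2, ?_⟩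
          simp only at hre
          rw [show (r ⟨(x.1 : G) * x.2, x.1, x.1.2, x.2, x.2.2, rfl⟩)⁻¹ * (x.1 : G) = b * (x.2 : G)⁻¹ by
            rw [eq_mul_inv_iff_mul_eq, mul_assoc, inv_mul_eq_iff_eq_mul]; exact hre]
          exact mul_mem hb (inv_mem x.2.2)
        · have h5 := congrArg (fun q => ((q.1 : ↥Y) : G)) hxy
          have h6 := congrArg (fun q => ((q.2 : ↥F) : G)) hxy
          simp only at h5 h6
          have h7 : (x.1 : G) = y.1 := by
            refine mul_left_cancel (h6.trans ?_)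
            congr 3
            exact Subtype.ext h5.symm
          rw [h7] at h5
          exact Prod.ext (Subtype.ext h7) (Subtype.ext (mul_left_cancel h5))
      rw [Nat.card_prod, Nat.card_prod, hT16, hAb16, hFcard] at hinj
      omega
    have hninv : (n : G) ∈ Subgroup.normalizer (F : Set G) := by
      rw [← Transfer.Fusion.map_conj_eq_self_iff]
      refine Subgroup.eq_of_le_of_card_ge ?_ (Subgroup.card_map_of_injective (MulAut.conj (n : G)).injective).ge
      rintro _ ⟨a, ha, rfl⟩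
      exact hnF n (fun x hx0 => ⟨rot x, rot_facts.2.1 x hx0, hn x⟩) a ha
    set nn : ↥NN := ⟨n, n.2, hninv⟩
    obtain ⟨n', hn', kk, hkk, hnk⟩ := Subgroup.mem_sup_of_normal_right.1
      ((Sylow.normalizer_sup_eq_top (N := NE) Pn) ▸ Subgroup.mem_top nn :
        nn ∈ Subgroup.normalizer _ ⊔ NE)
    have hn'Y : ∀ y ∈ Y, (n' : G) * y * (n' : G)⁻¹ ∈ Y := by
      rw [← hPY]
      rintro _ ⟨z, hz, rfl⟩
      exact ⟨n' * z * n'⁻¹, (Subgroup.mem_normalizer_iff.1 hn' z).1 hz, rfl⟩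
    have hn'T : (n' : G) ∈ Subgroup.normalizer (T : Set G) := n'.2.1
    have hmemAb : ∀ y ∈ Y, y * y = 1 → y ∉ T → y ∈ Ab := by
      intro y hy' hyy hyT
      obtain ⟨a, ha, b, hb, rfl⟩ := hYdec y hy'
      have hbT : b ∉ T := fun h => hyT (mul_mem ha h)
      have hb0 : par b (hAbR hb) ≠ 0 := fun h => hbT (hpar0 _ _ h)
      have hab : a * b = b * a := by
        calc a * b = (a * b)⁻¹ := (inv_eq_of_mul_eq_one_right hyy).symm
          _ = b * a := by rw [mul_inv_rev, inv_eq_of_mul_eq_one_right (hAbsq b hb), inv_eq_of_mul_eq_one_right (hTsq a ha)]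
      obtain ⟨haM, hfx⟩ := hfixed b (hAbR hb) a ha hb0 (by
        rw [hD]; refine (hD1 _).2 ?_
        rw [← hab, mul_inv_cancel_right, inv_mul_cancel])
      exact mul_mem (hFof ⟨a, haM⟩ ((plane_iff _ (hparAb b hb) hb0 _).1 hfx)).2 hb
    have hn'A : (n' : G) ∈ Subgroup.normalizer (Ab : Set G) := by
      rw [← Transfer.Fusion.map_conj_eq_self_iff]
      refine Subgroup.eq_of_le_of_card_ge ?_ (Subgroup.card_map_of_injective (MulAut.conj (n' : G)).injective).ge
      rintro _ ⟨a, ha, rfl⟩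
      have hout : ∀ b ∈ Ab, b ∉ T → (n' : G) * b * (n' : G)⁻¹ ∈ Ab := fun b hb hbT =>
        hmemAb _ (hn'Y b (Subgroup.mem_sup_right hb)) (by
          rw [show (n' : G) * b * (n' : G)⁻¹ * ((n' : G) * b * (n' : G)⁻¹) = n' * (b * b) * (n' : G)⁻¹ by group,
            hAbsq b hb, mul_one, mul_inv_cancel]) fun h => hbT ((Subgroup.mem_normalizer_iff.1 hn'T b).2 h)
      simp only [MulEquiv.coe_toMonoidHom, MulAut.conj_apply]
      by_cases haT : a ∈ T
      · have huT' : u * a ∉ T := fun h => huT (by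
          have := mul_mem h (inv_mem haT); rwa [mul_inv_cancel_right] at this)
        have := mul_mem (inv_mem (hout u huAb huT)) (hout _ (mul_mem huAb ha) huT')
        rwa [show ((n' : G) * u * (n' : G)⁻¹)⁻¹ * ((n' : G) * (u * a) * (n' : G)⁻¹) = (n' : G) * a * (n' : G)⁻¹ by group] at this
      · exact hout a ha haT
    have hkkF : ∀ f ∈ F, (kk : G) * f * (kk : G)⁻¹ = f := fun f hf =>
      mul_inv_eq_iff_eq_mul.2 (Subgroup.mem_centralizer_iff.1 (Subgroup.mem_subgroupOf.1 hkk) f hf).symm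
    have hnk' : (n' : G) * kk = n := congrArg Subtype.val hnk
    have hact : ∀ f ∈ F, (n' : G) * f * (n' : G)⁻¹ = (n : G) * f * (n : G)⁻¹ := fun f hf => by
      conv_lhs => rw [← hkkF f hf]
      rw [← hnk']; group
    -- cube is trivial on `F`
    have hlinF : ∀ a (ha : a ∈ F), ∃ h2 : (n' : G) * a * (n' : G)⁻¹ ∈ F,
        e.symm (mkQ T M hm.hl.hMT ⟨_, (hFfix _ h2).1⟩) = rot (e.symm (mkQ T M hm.hl.hMT ⟨a, (hFfix a ha).1⟩)) := by
      intro a ha
      have h2 : (n' : G) * a * (n' : G)⁻¹ ∈ F := (Subgroup.mem_normalizer_iff.1 n'.2.2 a).1 ha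
      refine ⟨h2, e.injective ?_⟩
      rw [← hn, AddEquiv.apply_symm_apply, AddEquiv.apply_symm_apply, hx.lin_apply]
      congr 1
      exact Subtype.ext (hact a ha)
    have hcube : ∀ a ∈ F, (n' : G) ^ 3 * a * ((n' : G) ^ 3)⁻¹ = a := by
      intro a ha
      obtain ⟨h1, e1⟩ := hlinF a ha
      obtain ⟨h2, e2⟩ := hlinF _ h1
      obtain ⟨h3, e3⟩ := hlinF _ h2
      rw [e2, e1, rot_facts.1] at e3
      have h5 := hFeq _ _ (e.symm.injective e3)
      simp only at h5
      rw [show (n' : G) ^ 3 * a * ((n' : G) ^ 3)⁻¹ =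
        (n' : G) * ((n' : G) * ((n' : G) * a * (n' : G)⁻¹) * (n' : G)⁻¹) * (n' : G)⁻¹ by
          rw [pow_succ, pow_two]; group]
      exact h5
    obtain ⟨f0, hf0, hf0'⟩ : ∃ f ∈ F, (n' : G) * f * (n' : G)⁻¹ ≠ f := by
      have hmem := hFof (rep (e (1, 0, 0))) (by rw [hrep, AddEquiv.symm_apply_apply])
      refine ⟨_, hmem, fun h => rot_facts.2.2 ?_⟩
      obtain ⟨h1, e1⟩ := hlinF _ hmem
      have h6 : e.symm (mkQ T M hm.hl.hMT (rep (e (1, 0, 0)))) = (1, 0, 0) := by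
        rw [hrep, AddEquiv.symm_apply_apply]
      calc rot (1, 0, 0) = rot (e.symm (mkQ T M hm.hl.hMT (rep (e (1, 0, 0))))) := by rw [h6]
        _ = _ := e1.symm
        _ = e.symm (mkQ T M hm.hl.hMT (rep (e (1, 0, 0)))) := by congr 2; exact Subtype.ext h
        _ = _ := h6
    obtain ⟨a2, b2, he, hodd, -⟩ := two_part_decomp (n' : G)
    set ρ := (n' : G) ^ (2 ^ a2) with hρ
    have hρo : Odd (orderOf ρ) := hodd.of_dvd_nat (orderOf_dvd_of_pow_eq_one (by
      rw [hρ, ← pow_mul, ← he, pow_orderOf_eq_one]))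
    have hρmove : ∃ f ∈ F, ρ * f * ρ⁻¹ ≠ f := by
      by_contra hno
      push Not at hno
      obtain ⟨x, y, hxy⟩ : ∃ x y : ℕ, 2 ^ a2 * x = 3 * y + 1 := by
        rcases Nat.even_or_odd a2 with ⟨c, hc⟩ | ⟨c, hc⟩
        · refine ⟨1, (4 ^ c - 1) / 3, ?_⟩
          have h1 : 4 ^ c % 3 = 1 := by rw [Nat.pow_mod]; simp
          rw [hc, ← two_mul, pow_mul]; norm_num
          have h2 : 1 ≤ 4 ^ c := Nat.one_le_pow _ _ (by norm_num)
          generalize 4 ^ c = z at h1 h2 ⊢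
          omega
        · refine ⟨2, (4 ^ (c + 1) - 1) / 3, ?_⟩
          have h1 : 4 ^ (c + 1) % 3 = 1 := by rw [Nat.pow_mod]; simp
          rw [hc, ← pow_succ, show 2 * c + 1 + 1 = 2 * (c + 1) by ring, pow_mul]; norm_num
          have h2 : 1 ≤ 4 ^ (c + 1) := Nat.one_le_pow _ _ (by norm_num)
          generalize 4 ^ (c + 1) = z at h1 h2 ⊢
          omega
      have hpow : ∀ g : G, (∀ f ∈ F, g * f * g⁻¹ = f) → ∀ i : ℕ, ∀ f ∈ F, g ^ i * f * (g ^ i)⁻¹ = f := by
        intro g hg i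
        induction i with
        | zero => intro f _; simp
        | succ i ih =>
          intro f hf
          rw [pow_succ, show g ^ i * g * f * (g ^ i * g)⁻¹ = g ^ i * (g * f * g⁻¹) * (g ^ i)⁻¹ by group, hg f hf, ih f hf]
      have h1 := hpow ρ hno x f0 hf0
      rw [hρ, ← pow_mul, hxy, pow_succ', pow_mul] at h1
      have h2 := hpow _ hcube y f0 hf0
      apply hf0'
      rw [show (n' : G) * ((n' : G) ^ 3) ^ y * f0 * ((n' : G) * ((n' : G) ^ 3) ^ y)⁻¹ =
        (n' : G) * (((n' : G) ^ 3) ^ y * f0 * (((n' : G) ^ 3) ^ y)⁻¹) * (n' : G)⁻¹ by group, h2] at h1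
      exact h1
    obtain ⟨hρtriv, -⟩ := key ρ hρo (pow_mem hn'T _) (pow_mem hn'A _) hρmove
    -- transport by `θ`
    have hθF : ∀ f, f ∈ F → θ * f * θ⁻¹ ∈ F := fun f hf => Subgroup.mem_inf.2
      ⟨hAbT ▸ ⟨f, hf.2, rfl⟩, ⟨f, hf.1, rfl⟩⟩
    set ρ' := θ * ρ * θ⁻¹ with hρ'
    have hmapT : ρ' ∈ Subgroup.normalizer (T : Set G) := by
      rw [← hAbT]
      exact Subgroup.le_normalizer_map _ ⟨ρ, pow_mem hn'A _, rfl⟩
    have hmapA : ρ' ∈ Subgroup.normalizer (Ab : Set G) :=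
      Subgroup.le_normalizer_map _ ⟨ρ, pow_mem hn'T _, rfl⟩
    have hρ'move : ∃ f ∈ F, ρ' * f * ρ'⁻¹ ≠ f := by
      obtain ⟨f, hf, hne'⟩ := hρmove
      refine ⟨_, hθF f hf, fun h => hne' ?_⟩
      rw [hρ', show θ * ρ * θ⁻¹ * (θ * f * θ⁻¹) * (θ * ρ * θ⁻¹)⁻¹ = θ * (ρ * f * ρ⁻¹) * θ⁻¹ by group] at h
      exact mul_left_cancel (mul_right_cancel h)
    obtain ⟨-, b, hb, hbne⟩ := key ρ' (by
      rw [hρ', show θ * ρ * θ⁻¹ = (MulAut.conj θ) ρ from rfl, MulEquiv.orderOf_eq]; exact hρo) hmapT hmapA hρ'move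
    obtain ⟨a, ha, rfl⟩ := hb
    refine hbne ?_
    rw [hρ']
    simp only [MulEquiv.coe_toMonoidHom, MulAut.conj_apply]
    rw [show θ * ρ * θ⁻¹ * (θ * a * θ⁻¹) * (θ * ρ * θ⁻¹)⁻¹ * (θ * a * θ⁻¹)⁻¹ =
      θ * (ρ * a * ρ⁻¹ * a⁻¹) * θ⁻¹ by group]
    exact hθF _ (hρtriv a ha)
  -- transfer
  obtain ⟨g0, hg0, hg0p⟩ := honto (1, 0, 1)
  have hg0par : par g0 hg0 = (1, 0, 1) := par_unique (hpar' g0 hg0) hg0p
  have hRM : ∀ r ∈ R, ∀ m ∈ M, r * m * r⁻¹ ∈ M := fun r hr m hmM => hm.hNM r (hRN hr) m hmM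
  have hfpM : ∀ g (hg : g ∈ R), par g hg ≠ 0 → g * g ∈ T → g * g ∈ M := by
    intro g hg hp hgg
    obtain ⟨j, hj⟩ := hRpow g hg
    refine hx.mem_M_of_fixed (n := ⟨g, hRN hg⟩) hj (hparne g hg hp) hgg ?_
    rw [show g * (g * g) * g⁻¹ = g * g by group, inv_mul_cancel]; exact one_mem _
  have hcen : ∀ r ∈ R, ∀ a ∈ T, a⁻¹ * (r * a * r⁻¹) ∈ M := by
    intro r hr a ha
    have haT : r * a * r⁻¹ ∈ T := (Subgroup.mem_normalizer_iff.1 (hRN hr) a).1 ha
    rcases hm.hl.mem_or ha with h | h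
    · exact mul_mem (inv_mem h) (hRM r hr a h)
    · rcases hm.hl.mem_or haT with h' | h'
      · exfalso
        have := hRM r⁻¹ (inv_mem hr) _ h'
        rw [show r⁻¹ * (r * a * r⁻¹) * r⁻¹⁻¹ = a by group] at this
        have h2 := mul_mem this (inv_mem (h t htT hm.hl.htM))
        rw [show a * (t⁻¹ * a)⁻¹ = t by group] at h2
        exact hm.hl.htM h2
      · exact h' a ha fun haM => hm.hl.htM (by
          have h2 := mul_mem haM (inv_mem (h t htT hm.hl.htM))
          rwa [show a * (t⁻¹ * a)⁻¹ = t by group] at h2)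
  set c := g0 * g0 with hc
  have hcR : c ∈ R := mul_mem hg0 hg0
  have hcp : par c hcR = (0, 1, 0) := by
    rw [show par c hcR = uniMul (par g0 hg0) (par g0 hg0) from hmulpar g0 g0 hg0 hg0, hg0par]; exact uniMul_101.1
  have hcc : c * c ∈ M := by
    refine hfpM c hcR (by rw [hcp]; exact z_ne_zero) (hpar0 _ (mul_mem hcR hcR) ?_)
    rw [hmulpar c c hcR hcR, hcp]; exact uniMul_zz
  set Sq := M ⊔ Subgroup.zpowers c with hSq
  have hcM : c ∈ Subgroup.normalizer (M : Set G) := by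
    rw [← Transfer.Fusion.map_conj_eq_self_iff]
    refine Subgroup.eq_of_le_of_card_ge ?_ (Subgroup.card_map_of_injective (MulAut.conj c).injective).ge
    rintro _ ⟨x, hx', rfl⟩
    exact hRM c hcR x hx'
  have hSqmem : ∀ y, y ∈ Sq ↔ y ∈ M ∨ c⁻¹ * y ∈ M := by
    intro y
    constructor
    · intro hy'
      rw [hSq, ← SetLike.mem_coe, Subgroup.coe_mul_of_right_le_normalizer_left _ _ (Subgroup.zpowers_le.2 hcM)] at hy'
      obtain ⟨m, hmM, _, ⟨i, rfl⟩, rfl⟩ := Set.mem_mul.1 hy'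
      have hzz : ∀ l : ℤ, c ^ (2 * l) ∈ M := fun l => by
        rw [zpow_mul, show c ^ (2 : ℤ) = c * c from zpow_two c]; exact zpow_mem hcc l
      obtain ⟨l, rfl | rfl⟩ := Int.even_or_odd' i
      · exact Or.inl (mul_mem hmM (hzz l))
      · right
        have hm' := (Subgroup.mem_normalizer_iff.1 (inv_mem hcM) m).1 hmM
        have := mul_mem hm' (hzz l)
        beta_reduce
        rw [show 2 * l + 1 = 1 + 2 * l by ring, zpow_add, zpow_one]
        rwa [inv_inv, show c⁻¹ * m * c * c ^ (2 * l) = c⁻¹ * (m * (c * c ^ (2 * l))) by group] at this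
    · rintro (h | h)
      · exact Subgroup.mem_sup_left h
      · have := mul_mem (Subgroup.mem_sup_right (S := M) (Subgroup.mem_zpowers c)) (Subgroup.mem_sup_left h)
        rwa [mul_inv_cancel_left] at this
  have hsqR : ∀ g ∈ R, g * g ∈ Sq := by
    intro g hg
    rcases uni_sq_cases (par g hg) with h | h | h
    · refine Subgroup.mem_sup_left ?_
      by_cases hp : par g hg = 0
      · exact hm.hl.DM (hm.hl.sq g (hpar0 g hg hp))
      · exact hfpM g hg hp (hpar0 _ (mul_mem hg hg) (by rw [hmulpar g g hg hg, h]))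
    all_goals
      refine (hSqmem _).2 (Or.inr ?_)
      obtain ⟨g1, hg1, hg1c, hg1p⟩ : ∃ g1, ∃ hg1 : g1 ∈ R, c⁻¹ * (g1 * g1) ∈ M ∧ par g1 hg1 = par g hg := by
        first
          | (rw [h]; refine ⟨g0, hg0, ?_, hg0par⟩; rw [← hc, inv_mul_cancel]; exact one_mem _)
          | exact ⟨c * g0, mul_mem hcR hg0, by
              rw [show c⁻¹ * (c * g0 * (c * g0)) = c * c by simp [hc, mul_assoc]]; exact hcc, by
              rw [hmulpar c g0 hcR hg0, hcp, hg0par, h]; exact uniMul_101.2⟩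
      have ha : g1⁻¹ * g ∈ T := by
        refine hpar0 _ (mul_mem (inv_mem hg1) hg) ?_
        have h5 := hmulpar g1 (g1⁻¹ * g) hg1 (mul_mem (inv_mem hg1) hg)
        simp only [mul_inv_cancel_left, hg1p] at h5
        exact v8_cancel _ _ h5
      set a := g1⁻¹ * g
      have h6 := hcen g1⁻¹ (inv_mem hg1) a ha
      have h7 : (a * a) * (a⁻¹ * (a⁻¹ * (g1⁻¹ * a * g1⁻¹⁻¹)) * a) ∈ M :=
        mul_mem (hm.hl.DM (hm.hl.sq a ha)) (by
          have := hRM a⁻¹ (inv_mem (hTR ha)) _ h6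
          simpa only [inv_inv] using this)
      rw [show (a * a) * (a⁻¹ * (a⁻¹ * (g1⁻¹ * a * g1⁻¹⁻¹)) * a) = g1⁻¹ * a * g1 * a by group] at h7
      rw [show c⁻¹ * (g * g) = c⁻¹ * (g1 * g1) * (g1⁻¹ * a * g1 * a) by simp only [a]; group]
      exact mul_mem hg1c h7
  have hSqR : Sq ≤ R := sup_le (hm.hl.hMT.trans hTR) (Subgroup.zpowers_le.2 hcR)
  have hSqn : (Sq.subgroupOf R).Normal := ⟨fun x hx' g => Subgroup.mem_subgroupOf.2 (by
    have hxS := Subgroup.mem_subgroupOf.1 hx'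
    simp only [Subgroup.coe_mul, Subgroup.coe_inv]
    rw [show (g : G) * x * (g : G)⁻¹ = (g * x : G) * (g * x) * (x : G)⁻¹ * ((g : G) * g)⁻¹ by group]
    exact mul_mem (mul_mem (hsqR _ (mul_mem g.2 x.2)) (inv_mem hxS)) (inv_mem (hsqR _ g.2)))⟩
  let QQ := ↥R ⧸ Sq.subgroupOf R
  have hQQ : ∀ q : QQ, q * q = 1 := by
    intro q
    induction q using QuotientGroup.induction_on with | _ x =>
    rw [← QuotientGroup.mk_mul, QuotientGroup.eq_one_iff, Subgroup.mem_subgroupOf, Subgroup.coe_mul]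
    exact hsqR x x.2
  have htS : (⟨t, hTR htT⟩ : ↥R) ∉ Sq.subgroupOf R := fun h => by
    rcases (hSqmem _).1 (Subgroup.mem_subgroupOf.1 h) with h | h
    · exact hm.hl.htM h
    · have h2 : c ∈ T := by
        have := mul_mem htT (inv_mem (hm.hl.hMT h))
        rwa [show t * (c⁻¹ * t)⁻¹ = c by group] at this
      have := hparT c hcR h2
      rw [hcp] at this; exact z_ne_zero this
  have huS : ∀ u, IsConj t u → ∀ h1 : u ∈ R, u ∉ T → (⟨u, h1⟩ : ↥R) ∉ Sq.subgroupOf R := fun u hu h1 huT h => by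
    obtain ⟨-, hpz, -, -⟩ := hclass u hu h1 huT
    rcases (hSqmem _).1 (Subgroup.mem_subgroupOf.1 h) with h | h
    · exact huT (hm.hl.hMT h)
    · refine hpz ?_
      have h5 := hmulpar c (c⁻¹ * u) hcR (mul_mem (inv_mem hcR) h1)
      simp only [mul_inv_cancel_left] at h5
      rw [h5, hcp, hparT _ _ (hm.hl.hMT h)]; exact uniMul_zero _
  by_cases hex : ∃ u, IsConj t u ∧ u ∈ R ∧ u ∉ T
  · obtain ⟨u0, hu0, hu0R, hu0T⟩ := hex
    obtain ⟨K, hK, htK, huK⟩ := exists_functional hQQ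
      (a := ((⟨t, hTR htT⟩ : ↥R) : QQ)) (b := ((⟨u0, hu0R⟩ : ↥R) : QQ))
      (fun h => htS ((QuotientGroup.eq_one_iff _).1 h)) (fun h => huS u0 hu0 hu0R hu0T ((QuotientGroup.eq_one_iff _).1 h))
    have hKn : (K.comap (QuotientGroup.mk' (Sq.subgroupOf R))).Normal :=
      (Subgroup.normal_of_index_eq_two hK).comap _
    set MR := (K.comap (QuotientGroup.mk' (Sq.subgroupOf R))).map R.subtype
    have hrel : MR.relIndex (S : Subgroup G) = 2 := by
      rw [hSR, Subgroup.relIndex, Subgroup.subgroupOf, Subgroup.comap_map_eq_self_of_injective (Subgroup.subtype_injective _),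
        Subgroup.index_comap_of_surjective _ (QuotientGroup.mk'_surjective _), hK]
    obtain ⟨g, hg⟩ := Involutions.ThompsonTransfer.exists_conj_mem hG S MR
      (hSR ▸ Subgroup.map_subtype_le _) hrel t hm.hb.ot
    obtain ⟨v', hv', hve⟩ := hg
    have hvc : IsConj t (v' : G) := isConj_iff.2 ⟨g, hve.symm⟩
    have hmove : ∀ (x y : ↥R), ((x : ↥R) : QQ) ∉ K → (∃ r : ↥R, r * x * r⁻¹ = y) → ((y : ↥R) : QQ) ∉ K := by
      rintro x y hxK ⟨r, rfl⟩ hyK
      have := hKn.conj_mem _ (show r * x * r⁻¹ ∈ K.comap (QuotientGroup.mk' (Sq.subgroupOf R)) from hyK) r⁻¹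
      rw [show r⁻¹ * (r * x * r⁻¹) * r⁻¹⁻¹ = x by group] at this
      exact hxK this
    by_cases hvT : (v' : G) ∈ T
    · obtain ⟨r, hr, hre⟩ := htM _ (hm.hl.conj_mem_tM hm.hb hm.hVX hvc hvT)
      rw [mul_inv_cancel_left] at hre
      exact hmove _ v' htK ⟨⟨r, hr⟩, Subtype.ext hre⟩ hv'
    · obtain ⟨-, hz0, -, hall⟩ := hclass u0 hu0 hu0R hu0T
      obtain ⟨-, hzv, -, -⟩ := hclass (v' : G) hvc v'.2 hvT
      have hcls := axis_class _ _ (hshape u0 hu0 hu0R hu0T) (hshape _ hvc v'.2 hvT)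
        (fun h => hu0T (hpar0 _ _ h)) hz0 (fun h => hvT (hpar0 _ _ h)) hzv
      obtain ⟨r, hr, hre⟩ := hall (v' : G) v'.2 (by
        obtain ⟨g', hg'⟩ := isConj_iff.1 hvc
        rw [← hg', show g' * t * g'⁻¹ * (g' * t * g'⁻¹) = g' * (t * t) * g'⁻¹ by group, htt, mul_one, mul_inv_cancel]
        exact one_mem _) hcls
      exact hmove _ v' huK ⟨⟨r, hr⟩, Subtype.ext hre⟩ hv'
  · push Not at hex
    obtain ⟨K, hK, htK, -⟩ := exists_functional hQQ
      (a := ((⟨t, hTR htT⟩ : ↥R) : QQ)) (b := ((⟨t, hTR htT⟩ : ↥R) : QQ))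
      (fun h => htS ((QuotientGroup.eq_one_iff _).1 h)) (fun h => htS ((QuotientGroup.eq_one_iff _).1 h))
    have hKn : (K.comap (QuotientGroup.mk' (Sq.subgroupOf R))).Normal :=
      (Subgroup.normal_of_index_eq_two hK).comap _
    set MR := (K.comap (QuotientGroup.mk' (Sq.subgroupOf R))).map R.subtype
    have hrel : MR.relIndex (S : Subgroup G) = 2 := by
      rw [hSR, Subgroup.relIndex, Subgroup.subgroupOf, Subgroup.comap_map_eq_self_of_injective (Subgroup.subtype_injective _),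
        Subgroup.index_comap_of_surjective _ (QuotientGroup.mk'_surjective _), hK]
    obtain ⟨g, hg⟩ := Involutions.ThompsonTransfer.exists_conj_mem hG S MR
      (hSR ▸ Subgroup.map_subtype_le _) hrel t hm.hb.ot
    obtain ⟨v', hv', hve⟩ := hg
    have hvc : IsConj t (v' : G) := isConj_iff.2 ⟨g, hve.symm⟩
    obtain ⟨r, hr, hre⟩ := htM _ (hm.hl.conj_mem_tM hm.hb hm.hVX hvc (hex _ hvc v'.2))
    rw [mul_inv_cancel_left] at hre
    have := hKn.conj_mem _ hv' (⟨r, hr⟩ : ↥R)⁻¹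
    rw [show (⟨r, hr⟩ : ↥R)⁻¹ * v' * (⟨r, hr⟩ : ↥R)⁻¹⁻¹ = ⟨t, hTR htT⟩ from Subtype.ext (by
      simp only [Subgroup.coe_mul, Subgroup.coe_inv]; rw [← hre]; group)] at this
    exact htK this

end Moving.Exc

end Cfsg.Agent.TimesPSLTwo
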