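import Cfsg.Agent.Lib.TimesPSLTwo.Elementary
import Cfsg.Agent.Lib.TimesPSLTwo.PSLFacts
import Cfsg.Agent.InvChar.Core

/-!
The centraliser of `t`, seen through its map to `Z₂ × X`.
-/

namespace Cfsg.Agent.TimesPSLTwo

abbrev Z2 := Multiplicative (ZMod 2)

theorem z2_cases (a : Z2) : a = 1 ∨ a = Multiplicative.ofAdd 1 := by revert a; decide +kernel

/-- The local data at `t`. -/
structure Loc {G X : Type*} [Group G] [Group X] (t : G) (N : Subgroup G) (f : ↥N →* Z2 × X) : Prop where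
  le : N ≤ Subgroup.centralizer ({t} : Set G)
  surj : Function.Surjective f
  odd : ∀ x, f x = 1 → Odd (orderOf x)
  ot : orderOf t = 2
  tmem : t ∈ N
  ft : f ⟨t, tmem⟩ = (Multiplicative.ofAdd 1, 1)
  two : ∀ x ∈ Subgroup.centralizer ({t} : Set G), ∀ j : ℕ, x ^ 2 ^ j = 1 → x ∈ N
  fstNorm : ∀ n ∈ Subgroup.centralizer ({t} : Set G), ∀ x : ↥N, (f x).1 = 1 →
    ∃ h : n * x * n⁻¹ ∈ N, (f ⟨_, h⟩).1 = 1

namespace Loc

variable {G X : Type*} [Group G] [Finite G] [Group X] {t : G} {N : Subgroup G} {f : ↥N →* Z2 × X}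
  (hl : Loc t N f)

include hl

theorem finite_X : Finite X :=
  Finite.of_surjective (fun x : ↥N => (f x).2) fun p => by
    obtain ⟨x, hx⟩ := hl.surj (1, p)
    exact ⟨x, congrArg Prod.snd hx⟩

theorem le_N {Q : Subgroup G} (hQ : IsPGroup 2 ↥Q) (hC : Q ≤ Subgroup.centralizer ({t} : Set G)) : Q ≤ N :=
  fun x hx => by
    obtain ⟨j, hj⟩ := hQ ⟨x, hx⟩
    exact hl.two x (hC hx) j (congrArg Subtype.val hj)

theorem inj {Q : Subgroup ↥N} (hQ : IsPGroup 2 ↥Q) {x y : ↥N} (hx : x ∈ Q) (hy : y ∈ Q) (h : f x = f y) :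
    x = y := by
  obtain ⟨j, hj⟩ := hQ ⟨x⁻¹ * y, mul_mem (inv_mem hx) hy⟩
  have h1 : (x⁻¹ * y) ^ 2 ^ j = 1 := congrArg Subtype.val hj
  have h2 := hl.odd (x⁻¹ * y) (by rw [map_mul, map_inv, h, inv_mul_cancel])
  refine inv_mul_eq_one.1 (orderOf_eq_one_iff.1 (Nat.eq_one_of_dvd_coprimes
    ((Nat.coprime_two_right.2 h2).pow_right j) dvd_rfl (orderOf_dvd_of_pow_eq_one h1)))

theorem ker_odd : Odd (Nat.card ↥f.ker) := by
  have : Fact (Nat.Prime 2) := ⟨Nat.prime_two⟩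
  rw [← Nat.not_even_iff_odd, even_iff_two_dvd]
  intro h
  obtain ⟨x, hx⟩ := exists_prime_orderOf_dvd_card' (G := ↥f.ker) 2 h
  have := hl.odd x x.2
  rw [Subgroup.orderOf_coe, hx] at this
  exact absurd this (by decide)

/-- 2-subgroups with the same image are conjugate by an element of the kernel. -/
theorem lift_conj {Q1 Q2 : Subgroup ↥N} (h1 : IsPGroup 2 ↥Q1) (h2 : IsPGroup 2 ↥Q2)
    (h : Q1.map f = Q2.map f) : ∃ o, f o = 1 ∧ Q1.map (MulAut.conj o).toMonoidHom = Q2 := by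
  classical
  have : Fact (Nat.Prime 2) := ⟨Nat.prime_two⟩
  set H := (Q1.map f).comap f with hH
  have hQ1 : Q1 ≤ H := fun x hx => ⟨x, hx, rfl⟩
  have hQ2 : Q2 ≤ H := fun x hx => show f x ∈ Q1.map f from h ▸ ⟨x, hx, rfl⟩
  let φ : ↥H →* Z2 × X := f.comp H.subtype
  have hidx : ∀ Q : Subgroup ↥N, IsPGroup 2 ↥Q → Q ≤ H → Q.map f = Q1.map f → ¬ 2 ∣ (Q.subgroupOf H).index := by
    intro Q hQ hQH hQf
    have hr : φ.range = Q.map f := by
      rw [hQf, MonoidHom.range_comp, Subgroup.range_subtype, hH, Subgroup.map_comap_eq,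
        MonoidHom.range_eq_top.2 hl.surj, top_inf_eq]
    have hc : Nat.card ↥(Q.map f) = Nat.card ↥Q := by
      refine (Nat.card_eq_of_bijective (fun x : ↥Q => (⟨f x, x, x.2, rfl⟩ : ↥(Q.map f))) ⟨fun x y hxy => ?_, ?_⟩).symm
      · exact Subtype.ext (hl.inj hQ x.2 y.2 (congrArg Subtype.val hxy))
      · rintro ⟨_, x, hx, rfl⟩; exact ⟨⟨x, hx⟩, rfl⟩
    have e1 := φ.ker.index_mul_card
    rw [Subgroup.index_ker, hr, hc] at e1
    have e2 := (Q.subgroupOf H).card_mul_index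
    rw [Nat.card_congr (Subgroup.subgroupOfEquivOfLe hQH).toEquiv, ← e1] at e2
    rw [Nat.eq_of_mul_eq_mul_left Nat.card_pos e2]
    refine (Odd.of_dvd_nat hl.ker_odd ?_).not_two_dvd_nat
    rw [show φ.ker = f.ker.subgroupOf H from rfl,
      Nat.card_congr (Subgroup.subgroupOfEquivOfLe (show f.ker ≤ H from fun x hx => by
        show f x ∈ Q1.map f
        rw [MonoidHom.mem_ker.1 hx]; exact one_mem _)).toEquiv]
  let S1 : Sylow 2 ↥H := (h1.of_equiv (Subgroup.subgroupOfEquivOfLe hQ1).symm).toSylow (hidx Q1 h1 hQ1 rfl)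
  let S2 : Sylow 2 ↥H := (h2.of_equiv (Subgroup.subgroupOfEquivOfLe hQ2).symm).toSylow (hidx Q2 h2 hQ2 h.symm)
  obtain ⟨g, hg⟩ := MulAction.exists_smul_eq ↥H S1 S2
  obtain ⟨q, hq, hqe⟩ : f (g : ↥N) ∈ Q1.map f := g.2
  refine ⟨(g : ↥N) * q⁻¹, by rw [map_mul, map_inv, hqe, mul_inv_cancel], ?_⟩
  have hg' : (Q1.subgroupOf H).map (MulAut.conj g).toMonoidHom = Q2.subgroupOf H := by
    have := congrArg (fun S : Sylow 2 ↥H => (S : Subgroup ↥H)) hg
    simp only [S1, S2] at this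
    exact this
  refine le_antisymm ?_ fun y hy => ?_
  · rintro _ ⟨x, hx, rfl⟩
    have hx' : q⁻¹ * x * q ∈ Q1 := mul_mem (mul_mem (inv_mem hq) hx) hq
    have h3 : g * (⟨q⁻¹ * x * q, hQ1 hx'⟩ : ↥H) * g⁻¹ ∈ Q2.subgroupOf H :=
      hg' ▸ ⟨⟨q⁻¹ * x * q, hQ1 hx'⟩, hx', rfl⟩
    have h4 := Subgroup.mem_subgroupOf.1 h3
    simp only [Subgroup.coe_mul, Subgroup.coe_inv] at h4
    simp only [MulEquiv.coe_toMonoidHom, MulAut.conj_apply]
    rwa [show (g : ↥N) * q⁻¹ * x * ((g : ↥N) * q⁻¹)⁻¹ = g * (q⁻¹ * x * q) * (g : ↥N)⁻¹ by group]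
  · obtain ⟨x, hx, hxe⟩ : (⟨y, hQ2 hy⟩ : ↥H) ∈ (Q1.subgroupOf H).map (MulAut.conj g).toMonoidHom := hg' ▸ hy
    refine ⟨q * x * q⁻¹, mul_mem (mul_mem hq hx) (inv_mem hq), ?_⟩
    have h4 := congrArg Subtype.val hxe
    simp only [MulEquiv.coe_toMonoidHom, MulAut.conj_apply, Subgroup.coe_mul, Subgroup.coe_inv] at h4 ⊢
    rw [← h4]; group

/-- Elements of the normaliser of the image lift to the normaliser. -/
theorem lift_normalizer {Q : Subgroup ↥N} (hQ : IsPGroup 2 ↥Q) {m : Z2 × X}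
    (hm : m ∈ Subgroup.normalizer ((Q.map f : Subgroup (Z2 × X)) : Set (Z2 × X))) :
    ∃ n ∈ Subgroup.normalizer (Q : Set ↥N), f n = m := by
  obtain ⟨n0, rfl⟩ := hl.surj m
  have himg : (Q.map (MulAut.conj n0).toMonoidHom).map f = Q.map f := by
    rw [Subgroup.map_map]
    rw [show f.comp (MulAut.conj n0).toMonoidHom = (MulAut.conj (f n0)).toMonoidHom.comp f from
      MonoidHom.ext fun x => by simp, ← Subgroup.map_map, Transfer.Fusion.map_conj_eq_self_iff.2 hm]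
  obtain ⟨o, ho, hoe⟩ := hl.lift_conj (hQ.map _) hQ himg
  refine ⟨o * n0, ?_, by rw [map_mul, ho, one_mul]⟩
  rw [← Transfer.Fusion.map_conj_eq_self_iff]
  rw [Subgroup.map_map] at hoe
  conv_rhs => rw [← hoe]
  congr 1
  exact MonoidHom.ext fun x => by simp [mul_assoc]

theorem exists_image (S : Sylow 2 ↥N) : ∃ Q : Sylow 2 X,
    (S : Subgroup ↥N).map f = (⊤ : Subgroup Z2).prod (Q : Subgroup X) := by
  have : Fact (Nat.Prime 2) := ⟨Nat.prime_two⟩
  have := hl.finite_X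
  have hs : Function.Surjective ((MonoidHom.snd Z2 X).comp f) := fun p => by
    obtain ⟨x, hx⟩ := hl.surj (1, p)
    exact ⟨x, by rw [MonoidHom.comp_apply, hx]; rfl⟩
  let Q : Sylow 2 X := S.mapSurjective hs
  refine ⟨Q, ?_⟩
  let S' : Sylow 2 (Z2 × X) := S.mapSurjective hl.surj
  refine (S'.3 ?_ ?_).symm
  · have hz : IsPGroup 2 ↥(⊤ : Subgroup Z2) := IsPGroup.of_card (n := 1) (by simp)
    intro x
    obtain ⟨a, ha⟩ := Q.2 ⟨x.1.2, x.2.2⟩
    refine ⟨a + 1, Subtype.ext (Prod.ext ?_ ?_)⟩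
    · show x.1.1 ^ 2 ^ (a + 1) = 1
      rw [pow_succ, pow_mul]
      rcases z2_cases (x.1.1 ^ 2 ^ a) with h | h <;> rw [h] <;> rfl
    · show x.1.2 ^ 2 ^ (a + 1) = 1
      rw [pow_succ, pow_mul, show x.1.2 ^ 2 ^ a = 1 from congrArg Subtype.val ha, one_pow]
  · rintro _ ⟨x, hx, rfl⟩
    exact ⟨Subgroup.mem_top _, x, hx, rfl⟩

/-- The Sylow subgroup of `C(t)` determined by a Sylow subgroup of `N`. -/
theorem maxA (S : Sylow 2 ↥N) {Q : Subgroup G} (hQ : IsPGroup 2 ↥Q)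
    (hC : Q ≤ Subgroup.centralizer ({t} : Set G)) :
    ∃ c ∈ Subgroup.centralizer ({t} : Set G), ∀ x ∈ Q, c * x * c⁻¹ ∈ (S : Subgroup ↥N).map N.subtype := by
  have : Fact (Nat.Prime 2) := ⟨Nat.prime_two⟩
  obtain ⟨S', hS'⟩ := (hQ.of_equiv (Subgroup.subgroupOfEquivOfLe (hl.le_N hQ hC)).symm).exists_le_sylow
  obtain ⟨c, hc⟩ := MulAction.exists_smul_eq ↥N S' S
  refine ⟨c, hl.le c.2, fun x hx => ?_⟩
  have h1 : c * ⟨x, hl.le_N hQ hC hx⟩ * c⁻¹ ∈ (S : Subgroup ↥N) := by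
    rw [← hc]; exact ⟨⟨x, hl.le_N hQ hC hx⟩, hS' (Subgroup.mem_subgroupOf.2 hx), rfl⟩
  exact ⟨_, h1, rfl⟩

theorem t_mem (S : Sylow 2 ↥N) : (⟨t, hl.tmem⟩ : ↥N) ∈ (S : Subgroup ↥N) := by
  have : Fact (Nat.Prime 2) := ⟨Nat.prime_two⟩
  have hz : IsPGroup 2 ↥(Subgroup.zpowers (⟨t, hl.tmem⟩ : ↥N)) := by
    refine IsPGroup.of_card (n := 1) ?_
    rw [Nat.card_zpowers, pow_one, Subgroup.orderOf_mk, hl.ot]
  have hn : Subgroup.zpowers (⟨t, hl.tmem⟩ : ↥N) ≤ Subgroup.normalizer ((S : Subgroup ↥N) : Set ↥N) :=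
    Subgroup.zpowers_le.2 (Subgroup.mem_normalizer_iff.2 fun y => by
      have h1 : (⟨t, hl.tmem⟩ : ↥N) * y * (⟨t, hl.tmem⟩ : ↥N)⁻¹ = y := Subtype.ext (by
        simp only [Subgroup.coe_mul, Subgroup.coe_inv]
        rw [← Subgroup.mem_centralizer_singleton_iff.1 (hl.le y.2), mul_inv_cancel_right])
      rw [h1])
  have := S.3 (S.2.to_sup_of_normal_left' hz hn) le_sup_left
  rw [← this]
  exact Subgroup.mem_sup_right (Subgroup.mem_zpowers _)

/-- The setup in the elementary case. -/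
theorem setup (S : Sylow 2 ↥N) (Q : Sylow 2 X)
    (hSQ : (S : Subgroup ↥N).map f = (⊤ : Subgroup Z2).prod (Q : Subgroup X))
    {w : X} {k : ℕ} (hd : PData (Q : Subgroup X) w k) :
    ∃ A V s, Setup t A V s k := by
  classical
  have : Fact (Nat.Prime 2) := ⟨Nat.prime_two⟩
  have := hl.finite_X
  have hmem : ∀ x, (∃ y ∈ (S : Subgroup ↥N), f y = x) ↔ x.2 ∈ (Q : Subgroup X) := fun x => by
    have := SetLike.ext_iff.1 hSQ x
    rw [Subgroup.mem_map, Subgroup.mem_prod] at this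
    rw [this]
    exact and_iff_right (Subgroup.mem_top _)
  have hcard : Nat.card ↥(S : Subgroup ↥N) = 2 ^ (k + 1) := by
    have e : ↥(S : Subgroup ↥N) ≃ Z2 × ↥(Q : Subgroup X) := by
      refine Equiv.ofBijective (fun y => ((f y).1, ⟨(f y).2, (hmem _).1 ⟨y, y.2, rfl⟩⟩)) ⟨fun a b hab => ?_, ?_⟩
      · simp only [Prod.mk.injEq, Subtype.mk.injEq] at hab
        exact Subtype.ext (hl.inj S.2 a.2 b.2 (Prod.ext hab.1 hab.2))
      · rintro ⟨a, q, hq⟩
        obtain ⟨y, hy, hye⟩ := (hmem (a, q)).2 hq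
        refine ⟨⟨y, hy⟩, Prod.ext ?_ (Subtype.ext ?_)⟩
        · show (f y).1 = a
          rw [hye]
        · show (f y).2 = q
          rw [hye]
    rw [Nat.card_congr e, Nat.card_prod, hd.card, pow_succ']
    congr 1
    simp
  have hm : ((1 : Z2), w) ∈ Subgroup.normalizer (((S : Subgroup ↥N).map f : Subgroup (Z2 × X)) : Set (Z2 × X)) := by
    refine Subgroup.mem_normalizer_iff.2 fun x => ?_
    rw [hSQ, Subgroup.mem_prod, Subgroup.mem_prod]
    simp only [Subgroup.mem_top, true_and, Prod.snd_mul, Prod.snd_inv]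
    exact Subgroup.mem_normalizer_iff.1 hd.wN x.2
  obtain ⟨n, hn, hfn⟩ := hl.lift_normalizer S.2 hm
  set A : Subgroup G := (S : Subgroup ↥N).map N.subtype with hA
  set V : Subgroup G := ((S : Subgroup ↥N) ⊓ ((MonoidHom.fst Z2 X).comp f).ker).map N.subtype with hV
  have hAN : ∀ a ∈ A, ∃ y : ↥N, y ∈ (S : Subgroup ↥N) ∧ (y : G) = a := fun a ha => ha
  have hVN : ∀ v ∈ V, ∃ y : ↥N, y ∈ (S : Subgroup ↥N) ∧ (f y).1 = 1 ∧ (y : G) = v := by
    rintro _ ⟨y, hy, rfl⟩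
    exact ⟨y, hy.1, hy.2, rfl⟩
  have hVmem : ∀ y : ↥N, y ∈ (S : Subgroup ↥N) → (f y).1 = 1 → (y : G) ∈ V := fun y h1 h2 => ⟨y, ⟨h1, h2⟩, rfl⟩
  have helem : ∀ y ∈ (S : Subgroup ↥N), y * y = 1 := fun y hy =>
    hl.inj S.2 (mul_mem hy hy) (one_mem _) (by
      rw [map_mul, map_one]
      refine Prod.ext ?_ (hd.elem _ ((hmem _).1 ⟨y, hy, rfl⟩))
      rcases z2_cases (f y).1 with h | h <;> simp only [Prod.fst_mul, Prod.fst_one, h] <;> rfl)
  have hconj : ∀ y ∈ (S : Subgroup ↥N), n * y * n⁻¹ ∈ (S : Subgroup ↥N) := fun y hy =>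
    (Subgroup.mem_normalizer_iff.1 hn y).1 hy
  have hnA : (n : G) ∈ Subgroup.normalizer (A : Set G) := Subgroup.le_normalizer_map _ ⟨n, hn, rfl⟩
  have hpow : ∀ (i : ℕ) (y : ↥N), f (n ^ i * y * (n ^ i)⁻¹) = ((f y).1, w ^ i * (f y).2 * (w ^ i)⁻¹) := by
    intro i y
    rw [map_mul, map_mul, map_inv, map_pow, hfn]
    refine Prod.ext ?_ ?_
    · simp
    · simp [Prod.pow_snd]
  refine ⟨A, V, n, hl.ot, ⟨_, hl.t_mem S, rfl⟩, fun a ha => ?_, ?_, hd.two_le, fun a ha => ?_,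
    fun P hP hPC => hl.maxA S hP hPC, Subgroup.map_mono inf_le_left, fun h => ?_, ?_, hl.le n.2, hnA,
    fun v hv u hu hv1 hu1 => ?_, fun m hmC hmA v hv => ?_, fun m hmC hmA => ?_⟩
  · obtain ⟨y, -, rfl⟩ := hAN a ha
    exact hl.le y.2
  · rw [hA, Subgroup.card_map_of_injective N.subtype_injective, hcard]
  · obtain ⟨y, hy, rfl⟩ := hAN a ha
    exact congrArg Subtype.val (helem y hy)
  · obtain ⟨y, -, hy1, hyt⟩ := hVN t h
    obtain rfl : y = ⟨t, hl.tmem⟩ := Subtype.ext hyt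
    rw [hl.ft] at hy1
    exact one_ne_zero (congrArg Multiplicative.toAdd hy1)
  · rw [hV, Subgroup.card_map_of_injective N.subtype_injective, ← hd.card]
    refine Nat.card_eq_of_bijective (fun y => ⟨(f y.1).2, (hmem _).1 ⟨y, y.2.1, rfl⟩⟩) ⟨fun a b hab => ?_, ?_⟩
    · refine Subtype.ext (hl.inj S.2 a.2.1 b.2.1 (Prod.ext ?_ (congrArg Subtype.val hab)))
      exact (show (f a.1).1 = 1 from a.2.2).trans (show (f b.1).1 = 1 from b.2.2).symm
    · rintro ⟨q, hq⟩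
      obtain ⟨y, hy, hye⟩ := (hmem (1, q)).2 hq
      refine ⟨⟨y, hy, show (f y).1 = 1 by rw [hye]⟩, Subtype.ext ?_⟩
      show (f y).2 = q
      rw [hye]
  · obtain ⟨y, hy, hy1, rfl⟩ := hVN v hv
    obtain ⟨z, hz, hz1, rfl⟩ := hVN u hu
    have hne : ∀ y : ↥N, y ∈ (S : Subgroup ↥N) → (f y).1 = 1 → (y : G) ≠ 1 → (f y).2 ≠ 1 := by
      intro y hy hy1 hne h2
      refine hne ?_
      rw [hl.inj S.2 hy (one_mem _) (by rw [map_one]; exact Prod.ext hy1 h2)]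
      rfl
    obtain ⟨i, hi⟩ := hd.trans _ ((hmem _).1 ⟨y, hy, rfl⟩) _ ((hmem _).1 ⟨z, hz, rfl⟩) (hne y hy hy1 hv1) (hne z hz hz1 hu1)
    refine ⟨i, ?_⟩
    have hin : n ^ i * y * (n ^ i)⁻¹ ∈ (S : Subgroup ↥N) := (Subgroup.mem_normalizer_iff.1 (pow_mem hn i) y).1 hy
    have := hl.inj S.2 hin hz (by rw [hpow, hi, hy1, ← hz1])
    have := congrArg Subtype.val this
    simpa using this
  · obtain ⟨y, hy, hy1, rfl⟩ := hVN v hv
    obtain ⟨h, h1⟩ := hl.fstNorm m hmC y hy1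
    obtain ⟨z, hz, hze⟩ := hAN _ ((Subgroup.mem_normalizer_iff.1 hmA _).1 ⟨y, hy, rfl⟩)
    obtain rfl : z = ⟨_, h⟩ := Subtype.ext hze
    exact hVmem _ hz h1
  · obtain ⟨h, h1⟩ := hl.fstNorm m hmC n (by rw [hfn])
    set y : ↥N := ⟨_, h⟩ with hy
    have hyA : (y : G) ∈ Subgroup.normalizer (A : Set G) := mul_mem (mul_mem hmA hnA) (inv_mem hmA)
    have hyS : ∀ x : ↥N, x ∈ (S : Subgroup ↥N) ↔ y * x * y⁻¹ ∈ (S : Subgroup ↥N) := fun x => by
      have h2 := Subgroup.mem_normalizer_iff.1 hyA (x : G)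
      rw [show (y : G) * x * (y : G)⁻¹ = ((y * x * y⁻¹ : ↥N) : G) by simp, hA] at h2
      exact (Subgroup.mem_map_iff_mem (f := N.subtype) N.subtype_injective (x := x)).symm.trans
        (h2.trans (Subgroup.mem_map_iff_mem (f := N.subtype) N.subtype_injective (x := y * x * y⁻¹)))
    have hyQ : (f y).2 ∈ Subgroup.normalizer ((Q : Subgroup X) : Set X) := by
      rw [← Transfer.Fusion.map_conj_eq_self_iff]
      refine Subgroup.eq_of_le_of_card_ge ?_ (Subgroup.card_map_of_injective (MulAut.conj _).injective).ge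
      rintro _ ⟨q, hq, rfl⟩
      obtain ⟨x, hx, hxe⟩ := (hmem (1, q)).2 hq
      have h3 := (hmem _).1 ⟨_, (hyS x).1 hx, rfl⟩
      rw [map_mul, map_mul, map_inv, hxe] at h3
      simpa using h3
    obtain ⟨j, hj⟩ := hd.pow _ hyQ
    refine ⟨j, fun a ha => ?_⟩
    obtain ⟨x, hx, rfl⟩ := hAN a ha
    have e := hl.inj S.2 ((hyS x).1 hx) ((Subgroup.mem_normalizer_iff.1 (pow_mem hn j) x).1 hx) (by
      rw [hpow, map_mul, map_mul, map_inv]
      refine Prod.ext ?_ ?_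
      · simp [h1]
      · simp [hj _ ((hmem _).1 ⟨x, hx, rfl⟩)])
    have := congrArg Subtype.val e
    simpa [hy] using this

omit hl [Finite G] in
/-- An elementary Sylow subgroup of order four with a rotation. -/
theorem pdata_four [Finite X] (Q : Sylow 2 X) (h4 : Nat.card ↥(Q : Subgroup X) = 4)
    (hsq : ∀ x ∈ (Q : Subgroup X), x * x = 1)
    (hrot : ∀ e f : X, orderOf e = 2 → orderOf f = 2 → e ≠ f → Commute e f →
      ∃ w, w * e * w⁻¹ = f ∧ w * f * w⁻¹ = e * f) : ∃ w k, PData (Q : Subgroup X) w k := by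
  classical
  have : Fact (Nat.Prime 2) := ⟨Nat.prime_two⟩
  have hinv : ∀ x ∈ (Q : Subgroup X), x⁻¹ = x := fun x hx => inv_eq_of_mul_eq_one_right (hsq x hx)
  have hcm : ∀ x ∈ (Q : Subgroup X), ∀ y ∈ (Q : Subgroup X), x * y = y * x := fun x hx y hy => by
    rw [← hinv _ (mul_mem hx hy), mul_inv_rev, hinv x hx, hinv y hy]
  obtain ⟨e, he, he1⟩ := (Q : Subgroup X).bot_or_exists_ne_one.resolve_left fun h => by
    rw [h, Subgroup.card_bot] at h4; omega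
  obtain ⟨f, hf, hf1, hfe⟩ : ∃ f ∈ (Q : Subgroup X), f ≠ 1 ∧ f ≠ e := by
    by_contra h
    push Not at h
    have hle : Nat.card ↥(Q : Subgroup X) ≤ Nat.card Bool := Nat.card_le_card_of_injective
      (fun x => decide ((x : X) = 1)) fun a b hab => by
        by_cases ha : (a : X) = 1 <;> by_cases hb : (b : X) = 1 <;> simp only [ha, hb, decide_true, decide_false] at hab
        · exact Subtype.ext (ha.trans hb.symm)
        · exact absurd hab (by decide)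
        · exact absurd hab (by decide)
        · exact Subtype.ext ((h a a.2 ha).trans (h b b.2 hb).symm)
    simp [h4] at hle
  have hef : e * f ≠ 1 := fun h => hfe (by rw [← inv_eq_of_mul_eq_one_right h, hinv e he])
  have hoe := orderOf_eq_prime (p := 2) (by rw [pow_two]; exact hsq e he) he1
  have hof := orderOf_eq_prime (p := 2) (by rw [pow_two]; exact hsq f hf) hf1
  obtain ⟨w, hwe, hwf⟩ := hrot e f hoe hof (Ne.symm hfe) (hcm e he f hf)
  have hel := card_four h4 he hf he1 hf1 (Ne.symm hfe) hef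
  have hwef : w * (e * f) * w⁻¹ = e := by
    rw [show w * (e * f) * w⁻¹ = (w * e * w⁻¹) * (w * f * w⁻¹) by group, hwe, hwf, hcm e he f hf,
      ← mul_assoc, hsq f hf, one_mul]
  have hwN : w ∈ Subgroup.normalizer ((Q : Subgroup X) : Set X) := by
    rw [← Transfer.Fusion.map_conj_eq_self_iff]
    refine Subgroup.eq_of_le_of_card_ge ?_ (Subgroup.card_map_of_injective (MulAut.conj _).injective).ge
    rintro _ ⟨q, hq, rfl⟩
    simp only [MulEquiv.coe_toMonoidHom, MulAut.conj_apply]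
    rcases hel q hq with rfl | rfl | rfl | rfl
    · simp
    · rwa [hwe]
    · rw [hwf]; exact mul_mem he hq
    · rwa [hwef]
  have hpc : ∀ (i l : ℕ) (x : X), w ^ (i + l) * x * (w ^ (i + l))⁻¹ = w ^ i * (w ^ l * x * (w ^ l)⁻¹) * (w ^ i)⁻¹ :=
    fun i l x => by rw [pow_add]; group
  have c1 : w ^ 1 * e * (w ^ 1)⁻¹ = f := by rw [pow_one, hwe]
  have c2 : w ^ 2 * e * (w ^ 2)⁻¹ = e * f := by rw [hpc 1 1, c1, pow_one, hwf]
  have c3 : w ^ 3 * e * (w ^ 3)⁻¹ = e := by rw [hpc 1 2, c2, pow_one, hwef]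
  have hfrom : ∀ u ∈ (Q : Subgroup X), u ≠ 1 → ∃ i : ℕ, i ≤ 2 ∧ w ^ i * e * (w ^ i)⁻¹ = u := by
    intro u hu hu1
    rcases hel u hu with rfl | rfl | rfl | rfl
    · exact absurd rfl hu1
    · exact ⟨0, by omega, by simp⟩
    · exact ⟨1, by omega, c1⟩
    · exact ⟨2, le_rfl, c2⟩
  refine ⟨w, 2, h4, le_rfl, hsq, hwN, fun v hv u hu hv1 hu1 => ?_, fun m hm => ?_⟩
  · obtain ⟨i, hi, hiv⟩ := hfrom v hv hv1
    obtain ⟨l, -, hlu⟩ := hfrom u hu hu1
    refine ⟨l + (3 - i), ?_⟩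
    rw [hpc l (3 - i), ← hiv, ← hpc (3 - i) i, show 3 - i + i = 3 by omega, c3, hlu]
  have hm1 : m * e * m⁻¹ ≠ 1 := fun h => he1 (conj_eq_one_iff.1 h)
  obtain ⟨i, -, hie⟩ := hfrom _ ((Subgroup.mem_normalizer_iff.1 hm e).1 he) hm1
  set r := (w ^ i)⁻¹ * m with hr
  have hrN : r ∈ Subgroup.normalizer ((Q : Subgroup X) : Set X) := mul_mem (inv_mem (pow_mem hwN i)) hm
  have hre : r * e * r⁻¹ = e := by
    rw [hr, show (w ^ i)⁻¹ * m * e * ((w ^ i)⁻¹ * m)⁻¹ = (w ^ i)⁻¹ * (m * e * m⁻¹) * w ^ i by group, ← hie]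
    group
  have hrf : r * f * r⁻¹ = f := by
    have h1 : r * f * r⁻¹ ∈ (Q : Subgroup X) := (Subgroup.mem_normalizer_iff.1 hrN f).1 hf
    rcases hel _ h1 with h | h | h | h
    · exact absurd (conj_eq_one_iff.1 h) hf1
    · exact absurd (mul_left_cancel (mul_right_cancel (h.trans hre.symm))) hfe
    · exact h
    exfalso
    obtain ⟨a, b, hab, hodd, -⟩ := two_part_decomp r
    have hpc2 : ∀ l : ℕ, r ^ (2 * l) * f * (r ^ (2 * l))⁻¹ = f ∧ r ^ (2 * l + 1) * f * (r ^ (2 * l + 1))⁻¹ = e * f := by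
      intro l
      induction l with
      | zero => refine ⟨by simp, ?_⟩; rw [Nat.mul_zero, zero_add, pow_one, h]
      | succ l ih =>
        have h2 : r ^ (2 * (l + 1)) * f * (r ^ (2 * (l + 1)))⁻¹ = f := by
          rw [show r ^ (2 * (l + 1)) * f * (r ^ (2 * (l + 1)))⁻¹ =
            r * (r ^ (2 * l + 1) * f * (r ^ (2 * l + 1))⁻¹) * r⁻¹ by
              rw [show 2 * (l + 1) = 1 + (2 * l + 1) by ring, pow_add, pow_one]; group, ih.2,
            show r * (e * f) * r⁻¹ = (r * e * r⁻¹) * (r * f * r⁻¹) by group, hre, h, ← mul_assoc, hsq e he,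
            one_mul]
        refine ⟨h2, ?_⟩
        rw [show r ^ (2 * (l + 1) + 1) * f * (r ^ (2 * (l + 1) + 1))⁻¹ =
          r * (r ^ (2 * (l + 1)) * f * (r ^ (2 * (l + 1)))⁻¹) * r⁻¹ by rw [pow_succ']; group, h2, h]
    obtain ⟨l, rfl⟩ := hodd
    have hq : r ^ (2 * l + 1) ∈ (Q : Subgroup X) := by
      have := Q.3 (closure_sup_isPGroup Q.2 (a := a) (orderOf_dvd_of_pow_eq_one (x := r ^ (2 * l + 1)) (by
        rw [← pow_mul, mul_comm, ← hab, pow_orderOf_eq_one])) (pow_mem hrN _)) le_sup_left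
      rw [← this]
      exact Subgroup.mem_sup_right (Subgroup.mem_zpowers _)
    have h2 := (hpc2 l).2
    rw [hcm _ hq f hf, mul_inv_cancel_right] at h2
    exact he1 (mul_eq_right.1 h2.symm)
  refine ⟨i, fun x hx => ?_⟩
  have hmr : m = w ^ i * r := by rw [hr, mul_inv_cancel_left]
  have hrx : r * x * r⁻¹ = x := by
    rcases hel x hx with rfl | rfl | rfl | rfl
    · simp
    · exact hre
    · exact hrf
    · rw [show r * (e * f) * r⁻¹ = (r * e * r⁻¹) * (r * f * r⁻¹) by group, hre, hrf]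
  rw [hmr, show w ^ i * r * x * (w ^ i * r)⁻¹ = w ^ i * (r * x * r⁻¹) * (w ^ i)⁻¹ by group, hrx]

end Loc

/-- The local data, from the hypothesis on `C / O(C)`. -/
theorem exists_loc {G : Type*} [Group G] [Finite G] {X : Type*} [Group X] (hperf : commutator X = ⊤)
    (hcen : ∀ x : X, (∀ y, x * y = y * x) → x = 1) {t : G} (ht : orderOf t = 2)
    (e : ↥(Subgroup.closure {x : (↥(Subgroup.centralizer ({t} : Set G)) ⧸
      Cfsg.oddCore ↥(Subgroup.centralizer ({t} : Set G))) | ∃ k : ℕ, orderOf x = 2 ^ k}) ≃* Z2 × X) :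
    ∃ N : Subgroup G, ∃ f : ↥N →* Z2 × X, Loc t N f := by
  classical
  have : Fact (Nat.Prime 2) := ⟨Nat.prime_two⟩
  set C := Subgroup.centralizer ({t} : Set G) with hC
  set O := Cfsg.oddCore ↥C with hO
  set L : Subgroup (↥C ⧸ O) := Subgroup.closure {x | ∃ k : ℕ, orderOf x = 2 ^ k} with hL
  let π := QuotientGroup.mk' O
  set N := (L.comap π).map C.subtype with hN
  have hNC : N ≤ C := Subgroup.map_subtype_le _
  have hNL : ∀ x : ↥N, π ⟨x, hNC x.2⟩ ∈ L := by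
    rintro ⟨_, y, hy, rfl⟩
    exact hy
  let g : ↥N →* ↥L :=
    { toFun := fun x => ⟨π ⟨x, hNC x.2⟩, hNL x⟩
      map_one' := Subtype.ext (map_one π)
      map_mul' := fun x y => Subtype.ext (map_mul π ⟨x, hNC x.2⟩ ⟨y, hNC y.2⟩) }
  let f : ↥N →* Z2 × X := e.toMonoidHom.comp g
  have hg : ∀ z (hz : z ∈ L), ∃ x : ↥N, π ⟨x, hNC x.2⟩ = z := fun z hz => by
    obtain ⟨y, rfl⟩ := QuotientGroup.mk'_surjective O z
    exact ⟨⟨y, y, hz, rfl⟩, rfl⟩
  have hfs : Function.Surjective f := e.surjective.comp fun z => by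
    obtain ⟨x, hx⟩ := hg z z.2
    exact ⟨x, Subtype.ext hx⟩
  have htwoL : ∀ y : ↥C, ∀ j : ℕ, y ^ 2 ^ j = 1 → π y ∈ L := fun y j hj => by
    refine Subgroup.subset_closure ?_
    have h1 : orderOf (π y) ∣ 2 ^ j := orderOf_dvd_of_pow_eq_one (by rw [← map_pow, hj, map_one])
    obtain ⟨i, -, hi⟩ := (Nat.dvd_prime_pow Nat.prime_two).1 h1
    exact ⟨i, hi⟩
  have hker : ∀ x : ↥N, f x = 1 → Odd (orderOf x) := fun x hx => by
    have h1 : (⟨x, hNC x.2⟩ : ↥C) ∈ O := (QuotientGroup.eq_one_iff _).1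
      (congrArg Subtype.val ((map_eq_one_iff e e.injective).1 hx))
    refine (InvChar.Core.odd_card_oddCore (G := ↥C)).of_dvd_nat ?_
    have h2 := orderOf_dvd_natCard (⟨_, h1⟩ : ↥O)
    rwa [← Subgroup.orderOf_coe, ← Subgroup.orderOf_coe, Subgroup.orderOf_coe x] at h2
  have htC : t ∈ C := Subgroup.mem_centralizer_singleton_iff.2 rfl
  have htN : t ∈ N := ⟨⟨t, htC⟩, htwoL _ 1 (Subtype.ext (by
    rw [Subgroup.coe_pow, Subgroup.coe_one, pow_one, ← ht, pow_orderOf_eq_one])), rfl⟩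
  have hcentral : ∀ z : ↥N, f z * f ⟨t, htN⟩ = f ⟨t, htN⟩ * f z := fun z => by
    rw [← map_mul, ← map_mul]
    exact congrArg f (Subtype.ext (Subgroup.mem_centralizer_singleton_iff.1 (hNC z.2)))
  have hft : f ⟨t, htN⟩ = (Multiplicative.ofAdd 1, 1) := by
    have h2 : (f ⟨t, htN⟩).2 = 1 := hcen _ fun p => by
      obtain ⟨z, hz⟩ := hfs (1, p)
      have := congrArg Prod.snd (hcentral z)
      rw [hz] at this
      exact this.symm
    refine Prod.ext ((z2_cases _).resolve_left fun h1 => ?_) h2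
    have h3 := hker ⟨t, htN⟩ (Prod.ext h1 h2)
    rw [Subgroup.orderOf_mk, ht] at h3
    exact absurd h3 (by decide)
  refine ⟨N, f, hNC, hfs, hker, ht, htN, hft, fun x hx j hj => ⟨⟨x, hx⟩, htwoL _ j (Subtype.ext hj), rfl⟩,
    fun n hn x hx => ?_⟩
  have hLn : ∀ z ∈ L, ∀ a, a * z * a⁻¹ ∈ L := by
    intro z hz a
    have : L.map (MulAut.conj a).toMonoidHom ≤ L := by
      rw [hL, MonoidHom.map_closure]
      refine Subgroup.closure_mono ?_
      rintro _ ⟨y, ⟨k, hk⟩, rfl⟩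
      exact ⟨k, by rw [← hk]; exact MulEquiv.orderOf_eq (MulAut.conj a) y⟩
    exact this ⟨z, hz, rfl⟩
  have hmem : ∀ x : ↥N, n * x * n⁻¹ ∈ N := fun x =>
    ⟨⟨n, hn⟩ * ⟨x, hNC x.2⟩ * ⟨n, hn⟩⁻¹, by
      show π _ ∈ L
      rw [map_mul, map_mul, map_inv]
      exact hLn _ (hNL x) _, rfl⟩
  refine ⟨hmem x, ?_⟩
  let φ : X →* Z2 :=
    { toFun := fun p => (e ⟨π ⟨n, hn⟩ * (e.symm (1, p) : ↥L) * (π ⟨n, hn⟩)⁻¹, hLn _ (e.symm (1, p)).2 _⟩).1
      map_one' := by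
        have h0 : e.symm ((1 : Z2), (1 : X)) = 1 := map_one e.symm
        simp only [h0, Subgroup.coe_one, mul_one, mul_inv_cancel]
        exact congrArg Prod.fst (map_one e)
      map_mul' := fun p q => by
        rw [← Prod.fst_mul, ← map_mul]
        refine congrArg (fun z => (e z).1) (Subtype.ext ?_)
        have h0 : e.symm ((1 : Z2), p * q) = e.symm (1, p) * e.symm (1, q) := by
          rw [← map_mul, Prod.mk_mul_mk, one_mul]
        simp only [Subgroup.coe_mul, h0]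
        group }
  have hφ : ∀ p, φ p = 1 := fun p => Abelianization.commutator_subset_ker φ (hperf ▸ Subgroup.mem_top p)
  have hsplit : e.symm (1, (f x).2) = g x := by
    rw [← hx]
    exact e.symm_apply_apply _
  have h5 := hφ (f x).2
  simp only [φ, MonoidHom.coe_mk, OneHom.coe_mk, hsplit] at h5
  refine Eq.trans ?_ h5
  refine congrArg (fun z => (e z).1) (Subtype.ext ?_)
  show π ⟨n * x * n⁻¹, _⟩ = π ⟨n, hn⟩ * π ⟨x, _⟩ * (π ⟨n, hn⟩)⁻¹
  rw [← map_mul, ← map_inv, ← map_mul]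
  rfl

end Cfsg.Agent.TimesPSLTwo
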