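import Cfsg.Agent.Lib.TimesPSLTwo.Base
import Cfsg.Agent.Lib.TimesPSLTwo.AffineThree

/-!
One level of the chain of 2-groups above `A`: the conjugates of `t` in it, and the affine action of
its normaliser.
-/

namespace Cfsg.Agent.TimesPSLTwo

open Affine (Hyp lin tr ainv inva)

variable {G : Type*} [Group G]

/-- A 2-group `T` with `|T : T'| = 2 q`, `T / T'` elementary, and a distinguished maximal subgroup `M`. -/
structure Lev (t : G) (A V : Subgroup G) (s : G) (k : ℕ) (T M : Subgroup G) : Prop where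
  hT : IsPGroup 2 ↥T
  hMT : M ≤ T
  hAT : A ≤ T
  hVM : V ≤ M
  htM : t ∉ M
  cardT : Nat.card ↥T = 2 * Nat.card ↥M
  cardD : Nat.card ↥T = 2 ^ (k + 1) * Nat.card ↥(⁅T, T⁆ : Subgroup G)
  sq : ∀ x ∈ T, x * x ∈ ⁅T, T⁆
  DM : ⁅T, T⁆ ≤ M
  sT : ∃ s' : G, s' ∈ Subgroup.centralizer ({t} : Set G) ∧ s' ∈ Subgroup.normalizer (T : Set G) ∧
    (∀ x ∈ M, s' * x * s'⁻¹ ∈ M) ∧ (∀ a ∈ A, s' * a * s'⁻¹ = s * a * s⁻¹) ∧
    ∀ x ∈ M, ∀ y ∈ M, x ∉ ⁅T, T⁆ → y ∉ ⁅T, T⁆ → ∃ i : ℕ, (s' ^ i * x * (s' ^ i)⁻¹)⁻¹ * y ∈ ⁅T, T⁆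

theorem conj_commutatorElement (n x y : G) :
    n * (x * y * x⁻¹ * y⁻¹) * n⁻¹ = n * x * n⁻¹ * (n * y * n⁻¹) * (n * x * n⁻¹)⁻¹ * (n * y * n⁻¹)⁻¹ := by
  group

theorem normalizer_le_commutator {T : Subgroup G} {n : G} (hn : n ∈ Subgroup.normalizer (T : Set G)) :
    n ∈ Subgroup.normalizer ((⁅T, T⁆ : Subgroup G) : Set G) := by
  rw [← Transfer.Fusion.map_conj_eq_self_iff, Subgroup.map_commutator,
    Transfer.Fusion.map_conj_eq_self_iff.2 hn]

variable {t : G} {A V : Subgroup G} {s : G} {k : ℕ} {T M : Subgroup G}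

open scoped commutatorElement in
theorem comm_mem {x y : G} (hx : x ∈ T) (hy : y ∈ T) : x * y * x⁻¹ * y⁻¹ ∈ ⁅T, T⁆ :=
  Subgroup.commutator_mem_commutator hx hy

theorem quot_exists_pow [Finite G] {x : G} (i : ℤ) : ∃ m : ℕ, x ^ i = x ^ m := by
  obtain ⟨n, hn⟩ := mem_powers_iff_mem_zpowers.2 (zpow_mem (Subgroup.mem_zpowers x) i)
  exact ⟨n, hn.symm⟩

/-- The initial level. -/
theorem Setup.level_zero [Finite G] (hb : Setup t A V s k) : Lev t A V s k A V := by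
  have hD : ⁅A, A⁆ = ⊥ := by
    rw [Subgroup.commutator_eq_bot_iff_le_centralizer]
    exact fun a ha => Subgroup.mem_centralizer_iff.2 fun b hb' => hb.comm hb' ha
  refine ⟨hb.isPGroup, hb.leV, le_rfl, le_rfl, hb.tV, by rw [hb.cardA, hb.cardV, pow_succ'], ?_,
    fun x hx => by rw [hb.elem x hx]; exact one_mem _, hD ▸ bot_le, s, hb.smem, hb.sA,
    hb.normV s hb.smem hb.sA, fun a _ => rfl, fun x hx y hy hx1 hy1 => ?_⟩
  · rw [hD, Subgroup.card_bot, mul_one, hb.cardA]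
  · obtain ⟨i, hi⟩ := hb.sTrans x hx y hy (fun h => hx1 (h ▸ one_mem _)) (fun h => hy1 (h ▸ one_mem _))
    exact ⟨i, by rw [hi, inv_mul_cancel]; exact one_mem _⟩

namespace Lev

variable [Finite G] (hb : Setup t A V s k) (hl : Lev t A V s k T M)

include hb hl

theorem tT : t ∈ T := hl.hAT hb.memA

omit hb in
theorem mem_or {x : G} (hx : x ∈ T) : x ∈ M ∨ ∀ y ∈ T, y ∉ M → y⁻¹ * x ∈ M := by
  by_cases h : x ∈ M
  · exact Or.inl h
  refine Or.inr fun y hy hyM => ?_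
  have h2 : (M.subgroupOf T).index = 2 := by
    have h1 := (M.subgroupOf T).card_mul_index
    rw [Nat.card_congr (Subgroup.subgroupOfEquivOfLe hl.hMT).toEquiv, hl.cardT, mul_comm 2] at h1
    exact Nat.eq_of_mul_eq_mul_left Nat.card_pos h1
  have h3 := Subgroup.mul_mem_iff_of_index_two h2 (a := ⟨y, hy⟩⁻¹) (b := ⟨x, hx⟩)
  have h4 : (⟨y, hy⟩⁻¹ * ⟨x, hx⟩ : ↥T) ∈ M.subgroupOf T := h3.2 (iff_of_false
    (fun h' => hyM (inv_mem_iff.1 (Subgroup.mem_subgroupOf.1 h'))) h)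
  exact Subgroup.mem_subgroupOf.1 h4

theorem card_D : Nat.card ↥M = 2 ^ k * Nat.card ↥(⁅T, T⁆ : Subgroup G) := by
  have h := hl.cardT.symm.trans hl.cardD
  rw [pow_succ', mul_assoc] at h
  exact Nat.eq_of_mul_eq_mul_left two_pos h

/-- A conjugate of `t` in `T` inverts `⁅T, T⁆`, and its coset of `⁅T, T⁆` is its class in `T`. -/
theorem class_coset {u : G} (hu : IsConj t u) (huT : u ∈ T) :
    (∀ d ∈ ⁅T, T⁆, u * d * (u * d) = 1) ∧
      (∀ d ∈ ⁅T, T⁆, ∃ x ∈ T, x * u * x⁻¹ = u * d) ∧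
      Nat.card ↥(T ⊓ Subgroup.centralizer ({u} : Set G)) = 2 ^ (k + 1) ∧
      ∀ x ∈ T, x * u = u * x → x * x = 1 := by
  classical
  have : Fintype G := Fintype.ofFinite G
  set C := (Subgroup.centralizer ({u} : Set G)).subgroupOf T with hC
  obtain ⟨hsmall, hel⟩ := hb.small_centralizer hu (Q := T ⊓ Subgroup.centralizer ({u} : Set G))
    (hl.hT.to_le inf_le_left) inf_le_right
  have hDn : ∀ x ∈ T, ∀ d ∈ ⁅T, T⁆, x * d * x⁻¹ ∈ ⁅T, T⁆ := fun x hx d hd =>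
    (Subgroup.mem_normalizer_iff.1 (normalizer_le_commutator (Subgroup.le_normalizer hx)) d).1 hd
  let f : ↥T ⧸ C → ↥(⁅T, T⁆ : Subgroup G) :=
    Quotient.lift (fun x : ↥T => ⟨u⁻¹ * ((x : G) * u * (x : G)⁻¹), by
      rw [← inv_mem_iff]
      have := comm_mem x.2 huT
      rw [show (u⁻¹ * ((x : G) * u * (x : G)⁻¹))⁻¹ = (u⁻¹ * ((x : G) * u * (x : G)⁻¹ * u⁻¹) * u)⁻¹ by group,
        inv_mem_iff, show u⁻¹ * ((x : G) * u * (x : G)⁻¹ * u⁻¹) * u =
          u⁻¹ * ((x : G) * u * (x : G)⁻¹ * u⁻¹) * u⁻¹⁻¹ by rw [inv_inv]]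
      exact hDn _ (inv_mem huT) _ this⟩)
      fun x y hxy => Subtype.ext (by
        have h1 := Subgroup.mem_centralizer_singleton_iff.1
          (Subgroup.mem_subgroupOf.1 (QuotientGroup.leftRel_apply.1 hxy))
        simp only [Subgroup.coe_mul, Subgroup.coe_inv] at h1 ⊢
        congr 1
        calc (x : G) * u * (x : G)⁻¹ = x * (u * ((x : G)⁻¹ * y)) * (y : G)⁻¹ := by group
          _ = _ := by rw [← h1]; group)
  have hinj : Function.Injective f := by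
    rintro ⟨x⟩ ⟨y⟩ hxy
    refine Quotient.sound (QuotientGroup.leftRel_apply.2 (Subgroup.mem_subgroupOf.2
      (Subgroup.mem_centralizer_singleton_iff.2 ?_)))
    have h1 : (x : G) * u * (x : G)⁻¹ = (y : G) * u * (y : G)⁻¹ :=
      mul_left_cancel (congrArg Subtype.val hxy)
    simp only [Subgroup.coe_mul, Subgroup.coe_inv]
    calc (x : G)⁻¹ * y * u = (x : G)⁻¹ * ((y : G) * u * (y : G)⁻¹) * y := by group
      _ = _ := by rw [← h1]; group
  have hle := Nat.card_le_card_of_injective f hinj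
  have hcard := C.index_mul_card
  rw [hl.cardD, hC, Subgroup.index_eq_card] at hcard
  have hCc : Nat.card ↥((Subgroup.centralizer ({u} : Set G)).subgroupOf T) =
      Nat.card ↥(T ⊓ Subgroup.centralizer ({u} : Set G)) := by
    rw [← Subgroup.inf_subgroupOf_right, inf_comm,
      Nat.card_congr (Subgroup.subgroupOfEquivOfLe inf_le_left).toEquiv]
  rw [hCc] at hcard
  have hC2 : Nat.card ↥(T ⊓ Subgroup.centralizer ({u} : Set G)) = 2 ^ (k + 1) := by
    refine le_antisymm hsmall ?_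
    by_contra hlt
    push Not at hlt
    have h5 := Nat.mul_lt_mul_of_le_of_lt (show Nat.card (↥T ⧸ C) ≤ Nat.card ↥(⁅T, T⁆ : Subgroup G) from hle)
      hlt Nat.card_pos
    rw [hcard, mul_comm] at h5
    exact lt_irrefl _ h5
  have hcl : ∀ d ∈ ⁅T, T⁆, ∃ x ∈ T, x * u * x⁻¹ = u * d := by
    intro d hd
    rw [hC2, mul_comm (2 ^ (k + 1))] at hcard
    have hbij := (Nat.bijective_iff_injective_and_card f).2
      ⟨hinj, Nat.eq_of_mul_eq_mul_right (Nat.two_pow_pos (k + 1)) hcard⟩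
    obtain ⟨⟨x⟩, hx⟩ := hbij.2 ⟨d, hd⟩
    refine ⟨x, x.2, ?_⟩
    have h1 : u⁻¹ * ((x : G) * u * (x : G)⁻¹) = d := congrArg Subtype.val hx
    rw [← h1, mul_inv_cancel_left]
  refine ⟨fun d hd => ?_, hcl, hC2, fun x hx hxu => hel x ⟨hx, Subgroup.mem_centralizer_singleton_iff.2 hxu⟩⟩
  obtain ⟨x, -, hx⟩ := hcl d hd
  obtain ⟨g, rfl⟩ := isConj_iff.1 hu
  rw [← hx]
  have htt : t * t = 1 := by rw [← pow_two, ← hb.ot, pow_orderOf_eq_one]
  calc x * (g * t * g⁻¹) * x⁻¹ * (x * (g * t * g⁻¹) * x⁻¹) = x * g * (t * t) * g⁻¹ * x⁻¹ := by group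
    _ = 1 := by rw [htt]; group

theorem D_comm {d e : G} (hd : d ∈ ⁅T, T⁆) (he : e ∈ ⁅T, T⁆) : d * e = e * d := by
  have h := (hl.class_coset hb (IsConj.refl t) (hl.tT hb)).1
  have hi : ∀ d ∈ ⁅T, T⁆, t * d * t⁻¹ = d⁻¹ := fun d hd => by
    have ht : t⁻¹ = t := inv_eq_of_mul_eq_one_right (hb.elem t hb.memA)
    rw [ht]
    exact eq_inv_of_mul_eq_one_left (by rw [show t * d * t * d = t * d * (t * d) by group]; exact h d hd)
  have h1 := hi (d * e) (mul_mem hd he)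
  rw [show t * (d * e) * t⁻¹ = (t * d * t⁻¹) * (t * e * t⁻¹) by group, hi d hd, hi e he,
    mul_inv_rev] at h1
  calc d * e = (e⁻¹ * d⁻¹)⁻¹ := by group
    _ = (d⁻¹ * e⁻¹)⁻¹ := by rw [h1]
    _ = e * d := by group

/-- No conjugate of `t` lies in `M`. -/
theorem no_conj (hVX : ∀ v ∈ V, ¬ IsConj t v) {u : G} (hu : IsConj t u) : u ∉ M := by
  intro huM
  have huT := hl.hMT huM
  have htt : t * t = 1 := hb.elem t hb.memA
  have elemV : (∀ d ∈ ⁅T, T⁆, d * d = 1) → ⁅T, T⁆ ≤ V := by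
    intro hd d hdD
    have hdA : d ∈ A := by
      rw [← hb.normalizer_le hl.hT hl.hAT]
      refine ⟨Subgroup.commutator_le_self T hdD, Subgroup.mem_centralizer_singleton_iff.2 ?_⟩
      have h1 := (hl.class_coset hb (IsConj.refl t) (hl.tT hb)).1 d hdD
      have ht : t⁻¹ = t := inv_eq_of_mul_eq_one_right htt
      calc d * t = t⁻¹ * (t * d * (t * d)) * d⁻¹ := by group
        _ = t * d⁻¹ := by rw [h1, mul_one, ht]
        _ = t * d := by rw [inv_eq_of_mul_eq_one_right (hd d hdD)]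
    -- `A ∩ M = V`
    have hAM : A ⊓ M = V := by
      refine (Subgroup.eq_of_le_of_card_ge (le_inf hb.leV hl.hVM) ?_).symm
      have h2 : 2 * Nat.card ↥(A ⊓ M) ≤ Nat.card ↥A := by
        rw [show 2 = Nat.card Bool by simp, ← Nat.card_prod]
        refine Nat.card_le_card_of_injective (fun p : Bool × ↥(A ⊓ M) =>
          (⟨(if p.1 then t else 1) * (p.2 : G), mul_mem (by split_ifs <;> simp [hb.memA]) p.2.2.1⟩ : ↥A)) ?_
        rintro ⟨i, x⟩ ⟨j, y⟩ hxy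
        have h3 := congrArg Subtype.val hxy
        simp only at h3
        cases i <;> cases j <;> simp at h3
        · exact Prod.ext rfl h3
        · exact absurd (show t ∈ M from by
            rw [show t = (x : G) * (y : G)⁻¹ by rw [h3]; group]
            exact mul_mem x.2.2 (inv_mem y.2.2)) hl.htM
        · exact absurd (show t ∈ M from by
            rw [show t = (y : G) * (x : G)⁻¹ by rw [← h3]; group]
            exact mul_mem y.2.2 (inv_mem x.2.2)) hl.htM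
        · exact Prod.ext rfl h3
      rw [hb.cardV]
      rw [hb.cardA, pow_succ'] at h2
      omega
    exact hAM ▸ ⟨hdA, hl.DM hdD⟩
  by_cases huD : u ∈ ⁅T, T⁆
  · obtain ⟨-, -, -, hel⟩ := hl.class_coset hb hu huT
    exact hVX u (elemV (fun d hd => hel d (Subgroup.commutator_le_self T hd) (hl.D_comm hb hd huD)) huD) hu
  obtain ⟨s', hs'C, hs'T, hs'M, -, hs'tr⟩ := hl.sT
  have hpowM : ∀ i : ℕ, ∀ x ∈ M, s' ^ i * x * (s' ^ i)⁻¹ ∈ M := by
    intro i
    induction i with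
    | zero => intro x hx; simpa using hx
    | succ i ih =>
      intro x hx
      rw [show s' ^ (i + 1) * x * (s' ^ (i + 1))⁻¹ = s' * (s' ^ i * x * (s' ^ i)⁻¹) * s'⁻¹ by
        rw [pow_succ']; group]
      exact hs'M _ (ih x hx)
  -- every element outside the derived group is an involution inverting it
  have hall : ∀ y ∈ M, y ∉ ⁅T, T⁆ → (y * y = 1 ∧ ∀ d ∈ ⁅T, T⁆, y * d * (y * d) = 1) ∧ IsConj t y := by
    intro y hy hyD
    obtain ⟨i, hi⟩ := hs'tr u huM y hy huD hyD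
    set w := s' ^ i * u * (s' ^ i)⁻¹ with hw
    have hwu : IsConj t w := hu.trans (isConj_iff.2 ⟨s' ^ i, rfl⟩)
    obtain ⟨-, hcl, -, -⟩ := hl.class_coset hb hwu (hl.hMT (hpowM i u huM))
    obtain ⟨x, -, hx⟩ := hcl _ hi
    rw [mul_inv_cancel_left] at hx
    have hyu : IsConj t y := hwu.trans (isConj_iff.2 ⟨x, hx⟩)
    obtain ⟨h1, -⟩ := hl.class_coset hb hyu (hl.hMT hy)
    refine ⟨⟨?_, h1⟩, hyu⟩
    have := h1 1 (one_mem _)
    rwa [mul_one] at this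
  obtain ⟨⟨huu, hinvu⟩, -⟩ := hall u huM huD
  -- a second element
  obtain ⟨v, hvM, hvD, huv⟩ : ∃ v ∈ M, v ∉ ⁅T, T⁆ ∧ u * v ∉ ⁅T, T⁆ := by
    by_contra h
    push Not at h
    have hsub : Nat.card ↥M ≤ Nat.card (Bool × ↥(⁅T, T⁆ : Subgroup G)) := by
      refine Nat.card_le_card_of_surjective (fun p => (⟨(if p.1 then u⁻¹ else 1) * (p.2 : G),
        mul_mem (by split_ifs <;> simp [inv_mem huM]) (hl.DM p.2.2)⟩ : ↥M)) fun x => ?_
      by_cases hx : (x : G) ∈ ⁅T, T⁆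
      · exact ⟨(false, ⟨x, hx⟩), Subtype.ext (by simp)⟩
      · exact ⟨(true, ⟨u * x, h x x.2 hx⟩), Subtype.ext (by simp)⟩
    rw [Nat.card_prod, hl.card_D hb] at hsub
    simp at hsub
    have : 2 ^ 2 ≤ 2 ^ k := Nat.pow_le_pow_right two_pos hb.two_le
    omega
  obtain ⟨⟨hvv, hinvv⟩, -⟩ := hall v hvM hvD
  obtain ⟨⟨hww, hinvw⟩, -⟩ := hall _ (mul_mem huM hvM) huv
  have hDel : ∀ d ∈ ⁅T, T⁆, d * d = 1 := by
    intro d hd
    have f : ∀ y : G, y * y = 1 → (∀ d ∈ ⁅T, T⁆, y * d * (y * d) = 1) → y * d * y⁻¹ = d⁻¹ := fun y hy h =>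
      eq_inv_of_mul_eq_one_left (by
        rw [inv_eq_of_mul_eq_one_right hy, show y * d * y * d = y * d * (y * d) by group]; exact h d hd)
    have h1 := f _ huu hinvu
    have h2 := f _ hvv hinvv
    have h3 := f _ hww hinvw
    rw [show u * v * d * (u * v)⁻¹ = u * (v * d * v⁻¹) * u⁻¹ by group, h2,
      show u * d⁻¹ * u⁻¹ = (u * d * u⁻¹)⁻¹ by group, h1, inv_inv] at h3
    exact mul_eq_one_iff_eq_inv.2 h3
  have hDV := elemV hDel
  have hMel : ∀ x ∈ M, x * x = 1 := fun x hx => by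
    by_cases hxD : x ∈ ⁅T, T⁆
    · exact hDel x hxD
    · exact (hall x hx hxD).1.1
  have hMC : ∀ x ∈ M, x * u = u * x := fun x hx => by
    have h := hMel _ (mul_mem hx huM)
    calc x * u = (x * u)⁻¹ := (inv_eq_of_mul_eq_one_right h).symm
      _ = u * x := by rw [mul_inv_rev, inv_eq_of_mul_eq_one_right (hMel x hx),
          inv_eq_of_mul_eq_one_right (hMel u huM)]
  have hMle : Nat.card ↥M ≤ 2 ^ (k + 1) :=
    (hb.small_centralizer hu (hl.hT.to_le hl.hMT) fun x hx =>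
      Subgroup.mem_centralizer_singleton_iff.2 (hMC x hx)).1
  have hD2 : Nat.card ↥(⁅T, T⁆ : Subgroup G) ≤ 2 := by
    rw [hl.card_D hb, pow_succ] at hMle
    exact Nat.le_of_mul_le_mul_left hMle (Nat.two_pow_pos k)
  -- some element of `V` lies outside the derived group
  obtain ⟨v0, hv0, hv0D⟩ : ∃ v0 ∈ V, v0 ∉ ⁅T, T⁆ := by
    by_contra h
    push Not at h
    have h1 : V ≤ ⁅T, T⁆ := h
    have := (Subgroup.card_le_of_le h1).trans hD2
    rw [hb.cardV] at this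
    have : 2 ^ 2 ≤ 2 ^ k := Nat.pow_le_pow_right two_pos hb.two_le
    omega
  exact hVX v0 hv0 (hall v0 (hl.hVM hv0) hv0D).2

end Lev

end Cfsg.Agent.TimesPSLTwo
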