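import Cfsg.Agent.Lib.TimesPSLTwo.Action

/-!
Climbing one level when the affine group contains all translations.
-/

namespace Cfsg.Agent.TimesPSLTwo

open Affine (Hyp lin tr ainv inva)

variable {G : Type*} [Group G] [Finite G] {t : G} {A V : Subgroup G} {s : G} {k : ℕ} {T M : Subgroup G}

namespace Moving

variable (hm : Moving t A V s k T M)

include hm

/-- A 2-subgroup of the kernel of the action containing `T` is `T`. -/
theorem ker_eq {Q : Subgroup G} (hQ : IsPGroup 2 ↥Q) (hT : T ≤ Q)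
    (hn : Q ≤ Subgroup.normalizer (T : Set G))
    (hker : ∀ x, ∀ hx : x ∈ Q, hm.psi ⟨x, hn hx⟩ 0 = 0) : Q = T := by
  refine le_antisymm (fun x hx => ?_) hT
  obtain ⟨y, hy, hc⟩ := hm.stab_decomp (hker x hx)
  have hmem : y⁻¹ * x ∈ Q ⊓ Subgroup.centralizer ({t} : Set G) :=
    Subgroup.mem_inf.2 ⟨mul_mem (inv_mem (hT hy)) hx, hc⟩
  rw [hm.hb.eq_A (hQ.to_le inf_le_left) (le_inf (hm.hl.hAT.trans hT) hm.hb.leC) inf_le_right] at hmem
  have := mul_mem hy (hm.hl.hAT hmem)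
  rwa [mul_inv_cancel_left] at this

theorem sq_mem_of_translation {x : ↥(Subgroup.normalizer (T : Set G))} {w : Quo T M hm.hl.hMT}
    (hx : hm.psi x = tr w) (hw : w ≠ 0) (hxx : (x : G) * x ∈ T) : (x : G) * x ∈ M := by
  rcases hm.hl.mem_or hxx with h | h
  · exact h
  exfalso
  have hm0 := h t (hm.hl.tT hm.hb) hm.hl.htM
  set m : ↥M := ⟨_, hm0⟩ with hmdef
  have h1 := congrArg (fun e : Equiv.Perm _ => e (mkQ T M hm.hl.hMT m)) hx
  simp only [hm.psi_apply] at h1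
  have h2 : mkQ T M hm.hl.hMT ⟨t⁻¹ * ((x : G) * (t * (m : G)) * (x : G)⁻¹), hm.shift_mem x.2 m.2⟩ =
      mkQ T M hm.hl.hMT m := by
    congr 1
    refine Subtype.ext ?_
    simp only [hmdef]
    group
  rw [h2, Affine.tr_apply, left_eq_add] at h1
  exact hw h1

theorem exists_next (htr : ∀ w, tr w ∈ hm.psi.range) :
    ∃ T' M' : Subgroup G, Lev t A V s k T' M' ∧ Nat.card ↥T < Nat.card ↥T' := by
  classical
  have : Fact (Nat.Prime 2) := ⟨Nat.prime_two⟩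
  set N := Subgroup.normalizer (T : Set G) with hN
  obtain ⟨s', hs'C, hs'A, hs'0, hs'tr⟩ := hm.exists_gen
  have hy := hm.affine hs'C hs'A hs'0 hs'tr
  -- the translations
  set Nw : Subgroup (Equiv.Perm (Quo T M hm.hl.hMT)) :=
    { carrier := {g | ∃ w, g = tr w}
      one_mem' := ⟨0, Hyp.tr_zero.symm⟩
      mul_mem' := fun {a b} ⟨u, hu⟩ ⟨v, hv⟩ => ⟨v + u, by
        subst hu; subst hv; ext x; simp [Affine.tr_apply, add_assoc]⟩
      inv_mem' := fun {a} ⟨u, hu⟩ => ⟨u, by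
        subst hu
        refine inv_eq_of_mul_eq_one_right ?_
        ext x; simp [Affine.tr_apply, add_assoc, hy.two]⟩ } with hNw
  set Np := Nw.comap hm.psi with hNp
  -- translations are normal
  have hnor : ∀ g ∈ hm.psi.range, ∀ w, g * tr w * g⁻¹ ∈ Nw := by
    intro g hg w
    refine ⟨lin g w, Equiv.ext fun x => ?_⟩
    rw [Equiv.Perm.mul_apply, Equiv.Perm.mul_apply, Affine.tr_apply, Affine.tr_apply]
    have := hy.aff g hg (g⁻¹ x) w
    rw [ainv] at this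
    calc g (g⁻¹ x + w) = g (g⁻¹ x + w) + g 0 + g 0 := by rw [hy.add_cancel]
      _ = x + g w + g 0 := by rw [this]
      _ = x + lin g w := by rw [lin, add_assoc]
  have hNpn : Np.Normal := ⟨fun x hx n => by
    obtain ⟨w, hw⟩ := hx
    show hm.psi (n * x * n⁻¹) ∈ Nw
    rw [map_mul, map_mul, map_inv, hw]
    exact hnor _ ⟨n, rfl⟩ w⟩
  -- a Sylow subgroup containing `T`
  set TN : Subgroup ↥Np := (T.subgroupOf N).subgroupOf Np with hTN
  have hTNp : T.subgroupOf N ≤ Np := fun x hx => ⟨0, by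
    rw [Hyp.tr_zero]; exact hm.psi_T (Subgroup.mem_subgroupOf.1 hx)⟩
  obtain ⟨P, hP⟩ := (show IsPGroup 2 ↥TN from
    (hm.hl.hT.of_equiv (Subgroup.subgroupOfEquivOfLe Subgroup.le_normalizer).symm).of_equiv
      (Subgroup.subgroupOfEquivOfLe hTNp).symm).exists_le_sylow
  set PN : Subgroup ↥N := (P : Subgroup ↥Np).map Np.subtype with hPN
  set T' : Subgroup G := PN.map N.subtype with hT'
  have hT'p : IsPGroup 2 ↥T' := (P.2.map _).map _
  have hT'N : T' ≤ N := Subgroup.map_subtype_le _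
  have hTT' : T ≤ T' := fun x hx =>
    ⟨⟨x, Subgroup.le_normalizer hx⟩, ⟨⟨⟨x, Subgroup.le_normalizer hx⟩, hTNp hx⟩, hP hx, rfl⟩, rfl⟩
  have hT'tr : ∀ x, ∀ hx : x ∈ T', ∃ w, hm.psi ⟨x, hT'N hx⟩ = tr w := by
    rintro _ ⟨y, ⟨z, hz, rfl⟩, rfl⟩
    obtain ⟨w, hw⟩ := z.2
    exact ⟨w, hw⟩
  -- the Sylow subgroup maps onto the translations
  have honto : ∀ w, ∃ x, ∃ hx : x ∈ T', hm.psi ⟨x, hT'N hx⟩ = tr w := by
    let f : ↥Np →* ↥Nw := (hm.psi.comp Np.subtype).codRestrict Nw fun x => x.2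
    have hf : Function.Surjective f := by
      rintro ⟨g, w, rfl⟩
      obtain ⟨n, hn⟩ := htr w
      exact ⟨⟨n, ⟨w, hn⟩⟩, Subtype.ext hn⟩
    have hNw2 : IsPGroup 2 ↥Nw := fun g => ⟨1, by
      obtain ⟨w, hw⟩ := g.2
      refine Subtype.ext ?_
      rw [pow_one, pow_two, Subgroup.coe_mul, hw, Subgroup.coe_one]
      ext x; simp [Affine.tr_apply, add_assoc, hy.two]⟩
    have htop : (P : Subgroup ↥Np).map f = ⊤ := by
      rw [← Subgroup.index_eq_one]
      obtain ⟨a, ha⟩ := IsPGroup.iff_card.1 hNw2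
      have h1 : ((P : Subgroup ↥Np).map f).index ∣ 2 ^ a := ha ▸ Subgroup.index_dvd_card _
      have h2 : ((P : Subgroup ↥Np).map f).index ∣ (P : Subgroup ↥Np).index := Subgroup.index_map_dvd _ hf
      obtain ⟨b, -, hb'⟩ := (Nat.dvd_prime_pow Nat.prime_two).1 h1
      rcases b with _ | b
      · exact hb'
      · exact absurd ((dvd_pow_self 2 (Nat.succ_ne_zero b)).trans (hb' ▸ h2)) P.not_dvd_index
    intro w
    obtain ⟨z, hz, hze⟩ : (⟨tr w, w, rfl⟩ : ↥Nw) ∈ (P : Subgroup ↥Np).map f := htop ▸ Subgroup.mem_top _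
    exact ⟨_, ⟨_, ⟨z, hz, rfl⟩, rfl⟩, congrArg Subtype.val hze⟩
  -- the kernel is `T`
  have hkerT : ∀ x, ∀ hx : x ∈ T', hm.psi ⟨x, hT'N hx⟩ = 1 → x ∈ T := by
    set Q := T' ⊓ (hm.psi.ker.map N.subtype) with hQ
    have hQN : Q ≤ N := inf_le_left.trans hT'N
    have hQT : Q = T := by
      refine hm.ker_eq (hT'p.to_le inf_le_left) (le_inf hTT' fun x hx =>
        ⟨⟨x, Subgroup.le_normalizer hx⟩, hm.psi_T hx, rfl⟩) hQN fun x hx => ?_
      obtain ⟨y, hy', rfl⟩ := hx.2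
      show hm.psi y 0 = 0
      rw [MonoidHom.mem_ker.1 hy']; rfl
    intro x hx h1
    rw [← hQT]
    exact ⟨hx, ⟨x, hT'N hx⟩, h1, rfl⟩
  have htr_inj : ∀ u v : Quo T M hm.hl.hMT, tr u = tr v → u = v := fun u v h => by
    have := congrArg (fun e : Equiv.Perm _ => e 0) h
    simpa [Affine.tr_apply] using this
  -- the translation of an element
  choose wt hwt using hT'tr
  have hwT : ∀ x (hx : x ∈ T') (hxT : x ∈ T), wt x hx = 0 := fun x hx hxT => htr_inj _ _ (by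
    rw [← hwt x hx, show (⟨x, hT'N hx⟩ : ↥N) = ⟨x, Subgroup.le_normalizer hxT⟩ from rfl, hm.psi_T hxT,
      Hyp.tr_zero])
  -- the square of an element of `T'` lies in `M`
  have hsq : ∀ x ∈ T', x * x ∈ M := by
    intro x hx
    have hxx : x * x ∈ T := hkerT _ (mul_mem hx hx) (by
      rw [show (⟨x * x, hT'N (mul_mem hx hx)⟩ : ↥N) = ⟨x, hT'N hx⟩ * ⟨x, hT'N hx⟩ from rfl, map_mul,
        hwt x hx]
      ext y; simp [Affine.tr_apply, add_assoc, hy.two])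
    by_cases hxT : x ∈ T
    · exact hm.hl.DM (hm.hl.sq x hxT)
    · refine hm.sq_mem_of_translation (x := ⟨x, hT'N hx⟩) (hwt x hx) (fun h0 => hxT (hkerT x hx ?_)) hxx
      rw [hwt x hx, h0, Hyp.tr_zero]
  -- `M` is normal in `T'` with elementary abelian quotient
  have hMn : ∀ x ∈ T', ∀ m ∈ M, x * m * x⁻¹ ∈ M := fun x hx m hmM => hm.hNM x (hT'N hx) m hmM
  have hMT' : M ≤ T' := hm.hl.hMT.trans hTT'
  have hMNor : (M.subgroupOf T').Normal := ⟨fun m hmM x => hMn x x.2 m hmM⟩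
  let Qt := ↥T' ⧸ M.subgroupOf T'
  have hQsq : ∀ q : Qt, q * q = 1 := by
    intro q
    induction q using QuotientGroup.induction_on with | _ x =>
    rw [← QuotientGroup.mk_mul, QuotientGroup.eq_one_iff, Subgroup.mem_subgroupOf, Subgroup.coe_mul]
    exact hsq x x.2
  have hQcomm : ∀ p q : Qt, p * q = q * p := fun p q => by
    calc p * q = (p * q)⁻¹ := (inv_eq_of_mul_eq_one_right (hQsq _)).symm
      _ = q * p := by rw [mul_inv_rev, inv_eq_of_mul_eq_one_right (hQsq p), inv_eq_of_mul_eq_one_right (hQsq q)]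
  -- an element of `C(t)` normalising everything, acting as `s'`
  obtain ⟨c, hcC, hcN, hcT', hcpsi, hcA⟩ : ∃ c : G, c ∈ Subgroup.centralizer ({t} : Set G) ∧
      ∃ hcN : c ∈ N, (∀ x ∈ T', c * x * c⁻¹ ∈ T') ∧ hm.psi ⟨c, hcN⟩ = hm.psi s' ∧
        ∀ a ∈ A, c * a * c⁻¹ = s * a * s⁻¹ := by
    have hfr := Sylow.normalizer_sup_eq_top (N := Np) P
    obtain ⟨n, hn, m, hmm, hnm⟩ := Subgroup.mem_sup_of_normal_right.1
      (hfr ▸ Subgroup.mem_top s' : s' ∈ Subgroup.normalizer _ ⊔ Np)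
    obtain ⟨w, hw⟩ := hmm
    obtain ⟨y, hy', hye⟩ := honto w
    set nn : ↥N := n * ⟨y, hT'N hy'⟩ with hnn
    have hnT' : ∀ x ∈ T', (n : G) * x * (n : G)⁻¹ ∈ T' := by
      rintro _ ⟨z, hz, rfl⟩
      exact ⟨n * z * n⁻¹, (Subgroup.mem_normalizer_iff.1 hn z).1 hz, rfl⟩
    have hnpsi : hm.psi nn = hm.psi s' := by rw [hnn, map_mul, hye, ← hw, ← map_mul, hnm]
    -- correct by an element of `T` to centralise `t`
    obtain ⟨a, ha, hac⟩ := hm.stab_decomp (n := nn) (by rw [hnpsi]; exact hs'0)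
    refine ⟨a⁻¹ * (nn : G), hac, mul_mem (inv_mem (Subgroup.le_normalizer ha)) nn.2, ?_, ?_, ?_⟩
    · intro x hx
      have h1 : y * x * y⁻¹ ∈ T' := mul_mem (mul_mem hy' hx) (inv_mem hy')
      have h2 := mul_mem (mul_mem (inv_mem (hTT' ha)) (hnT' _ h1)) (hTT' ha)
      rwa [show a⁻¹ * ((n : G) * (y * x * y⁻¹) * (n : G)⁻¹) * a =
        a⁻¹ * ((n : G) * y) * x * (a⁻¹ * ((n : G) * y))⁻¹ by group] at h2
    · rw [show (⟨a⁻¹ * (nn : G), mul_mem (inv_mem (Subgroup.le_normalizer ha)) nn.2⟩ : ↥N) =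
        (⟨a, Subgroup.le_normalizer ha⟩ : ↥N)⁻¹ * nn from rfl, map_mul, map_inv, hm.psi_T ha, inv_one,
        one_mul, hnpsi]
    · intro x hx
      set cc : ↥N := ⟨a⁻¹ * (nn : G), mul_mem (inv_mem (Subgroup.le_normalizer ha)) nn.2⟩ with hcc
      have h1 : hm.psi (s'⁻¹ * cc) = 1 := by
        rw [map_mul, map_inv, show cc = (⟨a, Subgroup.le_normalizer ha⟩ : ↥N)⁻¹ * nn from rfl, map_mul,
          map_inv, hm.psi_T ha, inv_one, one_mul, hnpsi, inv_mul_cancel]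
      have h2 := (hm.psi_eq_one_iff (n := s'⁻¹ * cc) (by
        rw [Subgroup.coe_mul, Subgroup.coe_inv]; exact mul_mem (inv_mem hs'C) hac)).1 h1 x hx
      rw [Subgroup.coe_mul, Subgroup.coe_inv] at h2
      rw [← hs'A x hx]
      calc a⁻¹ * (nn : G) * x * (a⁻¹ * (nn : G))⁻¹
          = (s' : G) * ((s' : G)⁻¹ * (a⁻¹ * (nn : G)) * x * ((s' : G)⁻¹ * (a⁻¹ * (nn : G)))⁻¹) * (s' : G)⁻¹ := by
            group
        _ = _ := by rw [h2]
  -- the commutator map with `c`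
  let δ : ↥T' →* Qt := MonoidHom.mk'
    (fun x => QuotientGroup.mk (⟨c * x * c⁻¹ * (x : G)⁻¹, mul_mem (hcT' x x.2) (inv_mem x.2)⟩ : ↥T'))
    fun x y => by
      have e : (⟨c * ((x * y : ↥T') : G) * c⁻¹ * ((x * y : ↥T') : G)⁻¹,
          mul_mem (hcT' _ (x * y).2) (inv_mem (x * y).2)⟩ : ↥T') =
          (⟨c * x * c⁻¹, hcT' x x.2⟩ : ↥T') * ⟨c * y * c⁻¹, hcT' y y.2⟩ * y⁻¹ * x⁻¹ := Subtype.ext (by
        simp only [Subgroup.coe_mul, Subgroup.coe_inv]; group)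
      rw [e, show (⟨c * x * c⁻¹ * (x : G)⁻¹, mul_mem (hcT' x x.2) (inv_mem x.2)⟩ : ↥T') =
          (⟨c * x * c⁻¹, hcT' x x.2⟩ : ↥T') * x⁻¹ from rfl,
        show (⟨c * y * c⁻¹ * (y : G)⁻¹, mul_mem (hcT' y y.2) (inv_mem y.2)⟩ : ↥T') =
          (⟨c * y * c⁻¹, hcT' y y.2⟩ : ↥T') * y⁻¹ from rfl]
      simp only [QuotientGroup.mk_mul]
      have key : ∀ p q r u : Qt, p * q * r * u = p * u * (q * r) := fun p q r u => by
        rw [hQcomm (p * q * r) u, hQcomm p u, mul_assoc u p, mul_assoc p q r]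
      exact key _ _ _ _
  set M' : Subgroup G := (δ.range.comap (QuotientGroup.mk' (M.subgroupOf T'))).map T'.subtype with hM'
  -- translations of commutators
  have hwc : ∀ x (hx : x ∈ T'), wt (c * x * c⁻¹) (hcT' x hx) = hm.psi s' (wt x hx) := by
    intro x hx
    refine htr_inj _ _ ?_
    rw [← hwt, show (⟨c * x * c⁻¹, hT'N (hcT' x hx)⟩ : ↥N) = ⟨c, hcN⟩ * ⟨x, hT'N hx⟩ * ⟨c, hcN⟩⁻¹ from rfl,
      map_mul, map_mul, map_inv, hwt x hx, hcpsi]
    exact hy.tr_conj hy.mem_s hy.s_zero _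
  have hwmul : ∀ x y (hx : x ∈ T') (hy' : y ∈ T'), wt (x * y) (mul_mem hx hy') = wt x hx + wt y hy' := by
    intro x y hx hy'
    refine htr_inj _ _ ?_
    rw [← hwt (x * y) (mul_mem hx hy'), show (⟨x * y, hT'N (mul_mem hx hy')⟩ : ↥N) = ⟨x, hT'N hx⟩ * ⟨y, hT'N hy'⟩ from rfl, map_mul,
      hwt x hx, hwt y hy']
    ext z; simp only [Equiv.Perm.mul_apply, Affine.tr_apply]; abel
  have hfix : ∀ w, hm.psi s' w = w → w = 0 := by
    intro w hw
    by_contra hw0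
    have hpow : ∀ i : ℕ, (hm.psi s' ^ i) w = w := by
      intro i
      induction i with
      | zero => rfl
      | succ i ih => rw [pow_succ, Equiv.Perm.mul_apply, hw, ih]
    have : Nat.card (Quo T M hm.hl.hMT) ≤ 2 := by
      rw [show 2 = Nat.card Bool by simp]
      refine Nat.card_le_card_of_surjective (fun b => if b then w else 0) fun x => ?_
      by_cases hx : x = 0
      · exact ⟨false, by simp [hx]⟩
      · obtain ⟨i, hi⟩ := hs'tr w x hw0 hx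
        exact ⟨true, by simp [← hi, hpow i]⟩
    have := hy.large
    omega
  have hδker : δ.ker = T.subgroupOf T' := by
    ext x
    rw [MonoidHom.mem_ker, Subgroup.mem_subgroupOf]
    show (QuotientGroup.mk (⟨c * x * c⁻¹ * (x : G)⁻¹, _⟩ : ↥T') : Qt) = 1 ↔ _
    rw [QuotientGroup.eq_one_iff, Subgroup.mem_subgroupOf]
    constructor
    · intro h
      refine hkerT x x.2 ?_
      rw [hwt x x.2, show wt x x.2 = 0 from hfix _ ?_, Hyp.tr_zero]
      have h1 := hwT _ (mul_mem (hcT' x x.2) (inv_mem x.2)) (hm.hl.hMT h)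
      have h2 := hwmul _ _ (mul_mem (hcT' x x.2) (inv_mem x.2)) x.2
      rw [h1, zero_add] at h2
      rw [← hwc x x.2, ← h2]
      congr 1
      group
    · intro hxT
      show c * (x : G) * c⁻¹ * (x : G)⁻¹ ∈ M
      rcases hm.hl.mem_or hxT with hxM | hxM
      · exact mul_mem (hm.hNM c hcN _ hxM) (inv_mem hxM)
      · have h := hxM t (hm.hl.tT hm.hb) hm.hl.htM
        have hct : c * t * c⁻¹ = t := by rw [Subgroup.mem_centralizer_singleton_iff.1 hcC, mul_inv_cancel_right]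
        rw [show c * (x : G) * c⁻¹ * (x : G)⁻¹ =
          c * t * c⁻¹ * (c * (t⁻¹ * x) * c⁻¹ * (t⁻¹ * (x : G))⁻¹) * t⁻¹ by group, hct]
        exact hm.hNM t (Subgroup.le_normalizer (hm.hl.tT hm.hb)) _ (mul_mem (hm.hNM c hcN _ h) (inv_mem h))
  have hmemM' : ∀ z, z ∈ M' ↔ ∃ hz : z ∈ T', ∃ x : ↥T', z⁻¹ * (c * x * c⁻¹ * (x : G)⁻¹) ∈ M := by
    intro z
    constructor
    · rintro ⟨z', ⟨x, hx⟩, rfl⟩
      exact ⟨z'.2, x, Subgroup.mem_subgroupOf.1 (QuotientGroup.eq.1 hx.symm)⟩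
    · rintro ⟨hz, x, hx⟩
      exact ⟨⟨z, hz⟩, ⟨x, (QuotientGroup.eq.2 (Subgroup.mem_subgroupOf.2 (by simpa using hx))).symm⟩, rfl⟩
  have hMM' : M ≤ M' := fun z hz => (hmemM' z).2 ⟨hMT' hz, 1, by simpa using hz⟩
  have htM' : t ∉ M' := by
    intro h
    obtain ⟨-, x, hx⟩ := (hmemM' t).1 h
    have hd : c * (x : G) * c⁻¹ * (x : G)⁻¹ ∈ T := by
      have := mul_mem (hm.hl.tT hm.hb) (hm.hl.hMT hx)
      rwa [mul_inv_cancel_left] at this
    have hxT : (x : G) ∈ T := by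
      refine hkerT x x.2 ?_
      rw [hwt x x.2, show wt x x.2 = 0 from hfix _ ?_, Hyp.tr_zero]
      have h1 := hwT _ (mul_mem (hcT' x x.2) (inv_mem x.2)) hd
      have h2 := hwmul _ _ (mul_mem (hcT' x x.2) (inv_mem x.2)) x.2
      rw [h1, zero_add] at h2
      rw [← hwc x x.2, ← h2]
      congr 1
      group
    have : x ∈ δ.ker := hδker ▸ Subgroup.mem_subgroupOf.2 hxT
    have h3 : c * (x : G) * c⁻¹ * (x : G)⁻¹ ∈ M :=
      Subgroup.mem_subgroupOf.1 ((QuotientGroup.eq_one_iff _).1 this)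
    have := mul_mem h3 (inv_mem hx)
    rw [show c * (x : G) * c⁻¹ * (x : G)⁻¹ * (t⁻¹ * (c * (x : G) * c⁻¹ * (x : G)⁻¹))⁻¹ = t by group] at this
    exact hm.hl.htM this
  -- cardinalities
  have hkerc : Nat.card ↥δ.ker = Nat.card ↥T := by
    rw [hδker, Nat.card_congr (Subgroup.subgroupOfEquivOfLe hTT').toEquiv]
  have hindex : δ.ker.index = 2 ^ k := by
    rw [hδker]
    let g : ↥T' → Quo T M hm.hl.hMT := fun x => wt x x.2
    let q : ↥T' ⧸ T.subgroupOf T' → Quo T M hm.hl.hMT := Quotient.lift g fun x y hxy => by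
      have h1 : (x : G)⁻¹ * y ∈ T := Subgroup.mem_subgroupOf.1 (QuotientGroup.leftRel_apply.1 hxy)
      have h2 := hwmul x ((x : G)⁻¹ * y) x.2 (mul_mem (inv_mem x.2) y.2)
      simp only [mul_inv_cancel_left] at h2
      rw [hwT _ _ h1, add_zero] at h2
      exact h2.symm
    rw [← hm.card_quo]
    refine Nat.card_congr (Equiv.ofBijective q ⟨?_, ?_⟩)
    · rintro ⟨x⟩ ⟨y⟩ hxy
      refine Quotient.sound (QuotientGroup.leftRel_apply.2 (Subgroup.mem_subgroupOf.2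
        (hkerT ((x : G)⁻¹ * y) (mul_mem (inv_mem x.2) y.2) ?_)))
      have h2 := hwmul x ((x : G)⁻¹ * y) x.2 (mul_mem (inv_mem x.2) y.2)
      simp only [mul_inv_cancel_left] at h2
      have hxy' : wt (x : G) x.2 = wt (y : G) y.2 := hxy
      rw [← hxy', eq_comm, add_eq_left] at h2
      rw [hwt _ (mul_mem (inv_mem x.2) y.2), h2, Hyp.tr_zero]
    · intro w
      obtain ⟨x, hx, hxe⟩ := honto w
      exact ⟨Quotient.mk'' ⟨x, hx⟩, htr_inj _ _ ((hwt x hx).symm.trans hxe)⟩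
  have hcardT' : Nat.card ↥T' = 2 ^ k * Nat.card ↥T := by rw [← δ.ker.index_mul_card, hindex, hkerc]
  have hcardM' : Nat.card ↥M' = 2 ^ k * Nat.card ↥M := by
    rw [hM', Subgroup.card_map_of_injective (Subgroup.subtype_injective _)]
    have h1 := (δ.range.comap (QuotientGroup.mk' (M.subgroupOf T'))).card_mul_index
    rw [Subgroup.index_comap_of_surjective _ (QuotientGroup.mk'_surjective _)] at h1
    have h2 := δ.range.card_mul_index
    have h3 := (M.subgroupOf T').card_mul_index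
    rw [← Subgroup.index_ker, hindex, show Nat.card (↥T' ⧸ M.subgroupOf T') = (M.subgroupOf T').index from rfl]
      at h2
    rw [Nat.card_congr (Subgroup.subgroupOfEquivOfLe hMT').toEquiv] at h3
    refine Nat.eq_of_mul_eq_mul_right (Nat.pos_of_ne_zero δ.range.index_ne_zero_of_finite) (h1.trans ?_)
    rw [← h3, ← h2]; ring
  -- the derived group
  have hDeq : ⁅T', T'⁆ = M := by
    refine le_antisymm (Subgroup.commutator_le.2 fun x hx y hy' => ?_) fun m hmM => ?_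
    · rw [commutatorElement_def]
      have h1 : (QuotientGroup.mk ((⟨x, hx⟩ : ↥T') * ⟨y, hy'⟩ * ⟨x, hx⟩⁻¹ * ⟨y, hy'⟩⁻¹) : Qt) = 1 := by
        simp only [QuotientGroup.mk_mul, QuotientGroup.mk_inv]
        rw [hQcomm (QuotientGroup.mk ⟨x, hx⟩), mul_inv_cancel_right, mul_inv_cancel]
      exact Subgroup.mem_subgroupOf.1 ((QuotientGroup.eq_one_iff _).1 h1)
    · obtain ⟨x, hx, hxe⟩ := honto (mkQ T M hm.hl.hMT ⟨m, hmM⟩)
      have h1 : hm.psi ⟨x, hT'N hx⟩ 0 = mkQ T M hm.hl.hMT ⟨m, hmM⟩ := by rw [hxe, Affine.tr_apply, zero_add]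
      rw [← mkQ_one hm.hl.hMT, hm.psi_apply, mkQ_eq] at h1
      simp only [Subgroup.coe_one, mul_one] at h1
      have h2 : x * t * x⁻¹ * t⁻¹ ∈ ⁅T', T'⁆ := comm_mem hx (hTT' (hm.hl.tT hm.hb))
      have h3 := Subgroup.commutator_mono hTT' hTT' h1
      have h4 : t⁻¹ * (x * t * x⁻¹) ∈ ⁅T', T'⁆ := by
        have := (Subgroup.mem_normalizer_iff.1 (normalizer_le_commutator (inv_mem
          (Subgroup.le_normalizer (hTT' (hm.hl.tT hm.hb))))) _).1 h2
        rwa [inv_inv, show t⁻¹ * (x * t * x⁻¹ * t⁻¹) * t = t⁻¹ * (x * t * x⁻¹) by group] at this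
      have := mul_mem h4 h3
      rwa [mul_inv_cancel_left] at this
  refine ⟨T', M', ⟨hT'p, Subgroup.map_subtype_le _, hm.hl.hAT.trans hTT', hm.hl.hVM.trans hMM', htM',
    ?_, ?_, fun x hx => by rw [hDeq]; exact hsq x hx, by rw [hDeq]; exact hMM',
    c, hcC, ?_, ?_, hcA, ?_⟩, ?_⟩
  · rw [hcardT', hcardM', hm.hl.cardT]; ring
  · rw [hcardT', hDeq, hm.hl.cardT, pow_succ]; ring
  · rw [← Transfer.Fusion.map_conj_eq_self_iff]
    refine Subgroup.eq_of_le_of_card_ge ?_ (Subgroup.card_map_of_injective (MulAut.conj c).injective).ge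
    rintro _ ⟨x, hx, rfl⟩
    exact hcT' x hx
  · intro z hz
    obtain ⟨hzT, x, hx⟩ := (hmemM' z).1 hz
    refine (hmemM' _).2 ⟨hcT' z hzT, ⟨c * x * c⁻¹, hcT' x x.2⟩, ?_⟩
    have := hm.hNM c hcN _ hx
    simp only
    rwa [show (c * z * c⁻¹)⁻¹ * (c * (c * (x : G) * c⁻¹) * c⁻¹ * (c * (x : G) * c⁻¹)⁻¹) =
      c * (z⁻¹ * (c * (x : G) * c⁻¹ * (x : G)⁻¹)) * c⁻¹ by group]
  · intro x hx y hy' hxD hyD
    rw [hDeq] at hxD hyD ⊢
    have hxT' := ((hmemM' x).1 hx).1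
    have hyT' := ((hmemM' y).1 hy').1
    have hne : ∀ z ∈ M', ∀ hz : z ∈ T', z ∉ M → wt z hz ≠ 0 := by
      intro z hzM' hz hzM h0
      have hzT : z ∈ T := hkerT z hz (by rw [hwt z hz, h0, Hyp.tr_zero])
      rcases hm.hl.mem_or hzT with h | h
      · exact hzM h
      · have h5 := mul_mem hzM' (inv_mem (hMM' (h t (hm.hl.tT hm.hb) hm.hl.htM)))
        rw [show z * (t⁻¹ * z)⁻¹ = t by group] at h5
        exact htM' h5
    obtain ⟨i, hi⟩ := hs'tr _ _ (hne x hx hxT' hxD) (hne y hy' hyT' hyD)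
    refine ⟨i, ?_⟩
    have hci : ∀ i : ℕ, ∀ z ∈ M', ∀ hz : z ∈ T', ∃ hz' : c ^ i * z * (c ^ i)⁻¹ ∈ T',
        c ^ i * z * (c ^ i)⁻¹ ∈ M' ∧ wt _ hz' = (hm.psi s' ^ i) (wt z hz) := by
      intro i
      induction i with
      | zero =>
        intro z hzM' hz
        refine ⟨by simpa using hz, by simpa using hzM', ?_⟩
        simp
      | succ i ih =>
        intro z hzM' hz
        obtain ⟨h1, h1', h2⟩ := ih z hzM' hz
        have e : c ^ (i + 1) * z * (c ^ (i + 1))⁻¹ = c * (c ^ i * z * (c ^ i)⁻¹) * c⁻¹ := by rw [pow_succ']; group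
        have h1'' : c * (c ^ i * z * (c ^ i)⁻¹) * c⁻¹ ∈ M' := by
          obtain ⟨hzT, u, hu⟩ := (hmemM' _).1 h1'
          refine (hmemM' _).2 ⟨hcT' _ hzT, ⟨c * u * c⁻¹, hcT' u u.2⟩, ?_⟩
          have := hm.hNM c hcN _ hu
          simp only
          rwa [show (c * (c ^ i * z * (c ^ i)⁻¹) * c⁻¹)⁻¹ * (c * (c * (u : G) * c⁻¹) * c⁻¹ * (c * (u : G) * c⁻¹)⁻¹) =
            c * ((c ^ i * z * (c ^ i)⁻¹)⁻¹ * (c * (u : G) * c⁻¹ * (u : G)⁻¹)) * c⁻¹ by group]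
        refine ⟨e ▸ hcT' _ h1, e ▸ h1'', ?_⟩
        rw [pow_succ' (hm.psi s'), Equiv.Perm.mul_apply, ← h2, ← hwc _ h1]
        congr 1
    obtain ⟨h1, h1', h2⟩ := hci i x hx hxT'
    set v := c ^ i * x * (c ^ i)⁻¹ with hv
    rw [hi] at h2
    have h3 := hwmul v (v⁻¹ * y) h1 (mul_mem (inv_mem h1) hyT')
    have key : ∀ z (hz : z ∈ T'), z = y → wt z hz = wt y hyT' := by rintro _ _ rfl; rfl
    rw [key _ _ (mul_inv_cancel_left v y), h2, left_eq_add] at h3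
    by_contra hcon
    exact hne _ (mul_mem (inv_mem h1') hy') _ hcon h3
  · rw [hcardT']
    have h4 : 1 < 2 ^ k := Nat.one_lt_two_pow (by have := hm.hb.two_le; omega)
    exact lt_mul_left Nat.card_pos h4

end Moving

/-- Either some level is a Sylow 2-subgroup, or some level is exceptional. -/
theorem chain_top (hb : Setup t A V s k) (hVX : ∀ v ∈ V, ¬ IsConj t v) :
    ∀ T M : Subgroup G, Lev t A V s k T M →
      (∃ T M, Lev t A V s k T M ∧ ∃ S : Sylow 2 G, (S : Subgroup G) = T) ∨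
      (∃ T M, ∃ hm : Moving t A V s k T M, Nat.card (Quo T M hm.hl.hMT) = 8 ∧
        (∀ N : Subgroup ↥hm.psi.range, N.Normal → IsPGroup 2 ↥N → N = ⊥) ∧
        ∀ L : Quo T M hm.hl.hMT ≃+ Quo T M hm.hl.hMT, ∃ h ∈ hm.psi.range, ∀ x, Affine.lin h x = L x) := by
  intro T M hl
  induction hn : Nat.card G - Nat.card ↥T using Nat.strong_induction_on generalizing T M with
  | _ n ih =>
    by_cases hfix : ∀ n ∈ Subgroup.normalizer (T : Set G), t⁻¹ * (n * t * n⁻¹) ∈ ⁅T, T⁆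
    · exact Or.inl ⟨T, M, hl, hl.sylow_of_fixed hb hfix⟩
    push Not at hfix
    obtain ⟨n0, hn0, hmove⟩ := hfix
    obtain ⟨hNM, hall⟩ := hl.normalizes_M hb hVX hn0 hmove
    have hm : Moving t A V s k T M := ⟨hb, hl, hVX, hNM, hall⟩
    obtain ⟨s', hs'C, hs'A, hs'0, hs'tr⟩ := hm.exists_gen
    rcases (hm.affine hs'C hs'A hs'0 hs'tr).dichotomy with htr | hex
    · obtain ⟨T', M', hl', hlt⟩ := hm.exists_next htr
      exact ih _ (by
        have := T'.card_le_card_group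
        omega) T' M' hl' rfl
    · exact Or.inr ⟨T, M, hm, hex⟩

end Cfsg.Agent.TimesPSLTwo
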